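import Groth.Agent.L14.Splitting.General
import Groth.Agent.L25.Extend.EtaleSplit
import Groth.Agent.L06.RootLines.Roots

/-!
# Splittings etale-locally
-/

set_option autoImplicit false
set_option linter.style.haveILetI false
set_option backward.isDefEq.respectTransparency.types false
set_option maxHeartbeats 1000000

universe u

open CategoryTheory CategoryTheory.Limits MonoidalCategory CartesianMonoidalCategory MonObj AlgebraicGeometry

noncomputable section

namespace Groth.L14.Splitting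

/-- A torus is split of some rank etale near every point. -/
theorem exists_etale_torus_split {S : Scheme.{u}} {T : Over S} [GrpObj T] (hT : Red.IsTorus T) (s : S) :
    ∃ (V : Scheme.{u}) (f : V ⟶ S) (_ : Etale f) (r : ℕ), s ∈ Set.range f.base ∧
      Nonempty (Grp.mk (Red.bc f T) ≅ Grp.mk (Red.DS V (Fin r → ℤ))) := by
  obtain ⟨V, f, hf, ⟨v, hv⟩, M, _, -, ⟨eM⟩⟩ :=
    Groth.L25.Extend.exists_etale_split (Groth.L25.Locus.isMultTypeFT_of_isTorus hT) s
  haveI : Etale f := hf
  let θ := V.fromSpecResidueField v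
  let eθ : Grp.mk (Red.bc θ (Red.bc f T)) ≅ Grp.mk (Red.DS (Spec (V.residueField v)) M) :=
    (Over.pullback θ).mapGrp.mapIso eM ≪≫ Grp.mkIso' (Groth.L25.SplitSub.bcDS θ)
  obtain ⟨r, ⟨er⟩⟩ := Groth.L06.RootLines.exists_splitRank
    (k := V.residueField v) (Groth.L25.Locus.isTorus_bc (Groth.L25.Locus.isTorus_bc hT f) θ) ⟨eθ⟩
  obtain ⟨g⟩ := Groth.L25.TorLift.addEquiv_of_ds (eθ.symm ≪≫ er)
  exact ⟨V, f, inferInstance, r, ⟨v, hv⟩, ⟨eM ≪≫ Groth.L25.TorLift.dsCongr _ g⟩⟩

/-- A maximal torus gives splittings etale-locally. -/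
theorem exists_rootData_etale {S : Scheme.{u}} {G T : Over S} [GrpObj G] [GrpObj T] (hG : Red.IsReductive G)
    (i : T ⟶ G) (hT : Red.IsMaximalTorus i) (s : S) :
    ∃ (V : Scheme.{u}) (f : V ⟶ S) (_ : Etale f) (r : ℕ), s ∈ Set.range f.base ∧
      Red.IsReductive (Red.bc f G) ∧ Red.IsMaximalTorus ((Over.pullback f).map i) ∧
      Nonempty (RootData (Red.bc f G) (Red.bc f T) ((Over.pullback f).map i) r (Set.univ : Set V)) := by
  haveI := hG.1; haveI := hG.2.1; haveI := hT.1
  obtain ⟨V, f, hf, r, ⟨v, hv⟩, ⟨e⟩⟩ := exists_etale_torus_split hT.2.2.1 s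
  haveI := hf
  haveI := isMonHom_map f i
  obtain ⟨U, hvU, ⟨R⟩⟩ := exists_rootData_nhd (isReductive_bc hG f) ((Over.pullback f).map i)
    (Groth.L08.Borel.isMaximalTorus_bc hT f) e v
  refine ⟨U.toScheme, U.ι ≫ f, inferInstance, r, ⟨⟨v, hvU⟩, hv⟩, isReductive_bc hG _,
    Groth.L08.Borel.isMaximalTorus_bc hT _, ⟨R.flatten rfl⟩⟩

end Groth.L14.Splitting

namespace Groth.L14.Splitting

/-- A reductive group has splittings etale-locally. -/
theorem exists_rootData_etale' {S : Scheme.{u}} {G : Over S} [GrpObj G] (hG : Red.IsReductive G) (s : S) :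
    ∃ (V : Scheme.{u}) (f : V ⟶ S) (_ : Etale f), s ∈ Set.range f.base ∧ Red.IsReductive (Red.bc f G) ∧
      ∃ (T : Over V) (_ : GrpObj T) (i : T ⟶ Red.bc f G) (r : ℕ), Red.IsMaximalTorus i ∧
        Nonempty (RootData (Red.bc f G) T i r (Set.univ : Set V)) := by
  haveI := hG.1; haveI := hG.2.1
  obtain ⟨B, _, v, hv, ⟨p, hp⟩, T, gT, i, hi, r, ⟨e⟩, -⟩ := Groth.L08.Borel.exists_split_maxTorus_nhd (G := G)
    (fun t => Groth.L08.TorusWeights.isConnected_of_isReductive hG t) s (fun T _ i hi X g hg =>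
      (((selfCentral (isReductive_bc hG (Red.geomPt s)) hi).2.2 X g).2 hg).imp fun t ht => ht.symm)
  haveI := hv; haveI := hi.1
  have hGv := isReductive_bc hG v
  haveI := hGv.1; haveI := hGv.2.1
  obtain ⟨U, hpU, ⟨R⟩⟩ := exists_rootData_nhd hGv i hi e p
  let d : U.toScheme ⟶ S := U.ι ≫ v
  haveI := isMonHom_map U.ι i
  let jG : Red.bc U.ι (Red.bc v G) ≅ Red.bc d G := ActBC.bcCompIso U.ι v G rfl
  haveI : IsMonHom jG.hom := ActBC.bcCompIso_isMonHom (G := G) _ _ _
  refine ⟨U.toScheme, d, inferInstance, ⟨⟨p, hpU⟩, hp⟩, isReductive_bc hG d, Red.bc U.ι T, inferInstance,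
    (Over.pullback U.ι).map i ≫ jG.hom, r,
    Groth.L24.TorusField.isMaximalTorus_comp_iso (Groth.L08.Borel.isMaximalTorus_bc hi U.ι) jG,
    ⟨R.transport (flatIso U.ι v rfl G) (Iso.refl _) (Category.id_comp _)⟩⟩

end Groth.L14.Splitting

namespace Groth.L14.Splitting

/-- A reductive group over a field is split by a finite separable extension. -/
theorem exists_rootData_field (k : Type u) [Field k] (G : Over (Spec (CommRingCat.of k))) [GrpObj G]
    (hG : Red.IsReductive G) :
    ∃ (L : Type u) (_ : Field L) (_ : Algebra k L), FiniteDimensional k L ∧ Algebra.IsSeparable k L ∧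
      Nonempty (Red.SplitRed (Red.bc (Spec.map (CommRingCat.ofHom (algebraMap k L))) G)) := by
  obtain ⟨V, f, hf, ⟨v, -⟩, -, T, _, i, r, hi, ⟨R⟩⟩ := exists_rootData_etale' hG
    (show Spec (CommRingCat.of k) from (⊥ : PrimeSpectrum k))
  haveI := hf; haveI := hi.1
  obtain ⟨_, ⟨W, hW, rfl⟩, hvW, -⟩ :=
    V.isBasis_affineOpens.exists_subset_of_mem_open (Set.mem_univ v) isOpen_univ
  obtain ⟨q, -⟩ : v ∈ Set.range hW.fromSpec := by rw [hW.range_fromSpec]; exact hvW
  let B : Type u := Γ(V, W)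
  haveI : IsOpenImmersion hW.fromSpec := hW.isOpenImmersion_fromSpec
  have hg : Etale (hW.fromSpec ≫ f) := inferInstance
  letI : Algebra k B := (Spec.preimage (hW.fromSpec ≫ f)).hom.toAlgebra
  have e : Spec.map (CommRingCat.ofHom (algebraMap k B)) = hW.fromSpec ≫ f := Spec.map_preimage _
  rw [← e, HasRingHomProperty.Spec_iff (P := @Etale), CommRingCat.hom_ofHom, RingHom.etale_algebraMap] at hg
  let p : Ideal B := q.asIdeal
  haveI : p.IsPrime := q.isPrime
  haveI : Module.Finite k B := Algebra.FormallyUnramified.finite_of_free k B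
  haveI : IsArtinianRing B := isArtinian_of_tower k inferInstance
  letI : Field (B ⧸ p) := @Ideal.Quotient.field _ _ p (IsArtinianRing.isMaximal_of_isPrime p)
  let θ : Spec (CommRingCat.of (B ⧸ p)) ⟶ V := Spec.map (CommRingCat.ofHom (Ideal.Quotient.mk p)) ≫ hW.fromSpec
  have hθ : θ ≫ f = Spec.map (CommRingCat.ofHom (algebraMap k (B ⧸ p))) := by
    rw [Category.assoc, ← e, ← Spec.map_comp]
    rfl
  refine ⟨B ⧸ p, inferInstance, inferInstance, inferInstance, inferInstance, ?_⟩
  haveI := hG.1; haveI := hG.2.1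
  haveI := (isReductive_bc hG f).1; haveI := (isReductive_bc hG f).2.1
  haveI := isMonHom_map θ i
  let d := Spec.map (CommRingCat.ofHom (algebraMap k (B ⧸ p)))
  let jG : Red.bc θ (Red.bc f G) ≅ Red.bc d G := ActBC.bcCompIso θ f G hθ
  haveI : IsMonHom jG.hom := ActBC.bcCompIso_isMonHom (G := G) _ _ _
  exact ⟨((R.bc θ fun _ => trivial).transport (flatIso θ f hθ G) (Iso.refl _)
    (i' := (Over.pullback θ).map i ≫ jG.hom) (Category.id_comp _)).splitRed (fun _ => trivial)
      (isReductive_bc hG d) (Groth.L24.TorusField.isMaximalTorus_comp_iso (Groth.L08.Borel.isMaximalTorus_bc hi θ) jG)⟩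

end Groth.L14.Splitting
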