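import Groth.Agent.L14.Splitting.BorelField
import Groth.Agent.L14.Chev.Cell.NegBase
import Groth.Agent.L08.Borel.FlatNhd

/-!
# The opposite Borel subgroup over a field
-/

set_option autoImplicit false
set_option linter.unusedSectionVars false
set_option linter.style.haveILetI false
set_option linter.deprecated false
set_option backward.isDefEq.respectTransparency.types false
set_option maxHeartbeats 1000000

universe u

open CategoryTheory CategoryTheory.Limits MonoidalCategory CartesianMonoidalCategory MonObj AlgebraicGeometry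
open Groth.L14.Chev.Cell

noncomputable section

namespace Groth.L14.Splitting

variable {S : Scheme.{u}} {G : Over S} [GrpObj G] (D : Red.SplitRed G)

/-- conjugation by the torus preserves products of root groups -/
theorem conj_prodMap {X : Over S} (t : X ⟶ D.T) : ∀ (n : ℕ) (e : Fin n → D.idx) (q : X ⟶ RedSub.pow (Red.Ga S) n),
    ∃ q' : X ⟶ RedSub.pow (Red.Ga S) n, (t ≫ D.i) * (q ≫ RedSub.prodMap (Red.Ga S) n (fun l => D.u (e l))) * (t ≫ D.i)⁻¹ =
      q' ≫ RedSub.prodMap (Red.Ga S) n (fun l => D.u (e l)) := by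
  intro n
  induction n with
  | zero =>
    intro e q
    refine ⟨q, ?_⟩
    show (t ≫ D.i) * (q ≫ (1 : RedSub.pow (Red.Ga S) 0 ⟶ G)) * (t ≫ D.i)⁻¹ = q ≫ (1 : RedSub.pow (Red.Ga S) 0 ⟶ G)
    rw [MonObj.comp_one, _root_.mul_one, mul_inv_cancel]
  | succ n ih =>
    intro e q
    obtain ⟨y, hy, -⟩ := (D.rootHom (e 0)).2.2 X t (q ≫ fst (Red.Ga S) (RedSub.pow (Red.Ga S) n))
    obtain ⟨q', hq'⟩ := ih (fun l => e l.succ) (q ≫ snd (Red.Ga S) (RedSub.pow (Red.Ga S) n))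
    refine ⟨lift y q', ?_⟩
    show (t ≫ D.i) * (q ≫ ((fst _ _ ≫ D.u (e 0)) * (snd _ _ ≫ _))) * (t ≫ D.i)⁻¹ =
      lift y q' ≫ ((fst _ _ ≫ D.u (e 0)) * (snd _ _ ≫ _))
    erw [MonObj.comp_mul, MonObj.comp_mul, lift_fst_assoc, lift_snd_assoc]
    rw [hy, ← hq']
    erw [Category.assoc, Category.assoc]
    group
    rfl

variable {k : Type u} [Field k] {G : Over (Spec (CommRingCat.of k))} [GrpObj G] (D : Red.SplitRed G)

/-- a Borel subgroup with its positive roots -/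
theorem exists_base_eq_borel {B : Over (Spec (CommRingCat.of k))} [GrpObj B] {iB : B ⟶ G} (hB : Red.IsBorel iB)
    (t : D.T ⟶ B) (ht : t ≫ iB = D.i) :
    ∃ (b : D.P.Base) (m : ℕ) (e : Fin m → D.idx), RedSub.Enumerates (RedSub.posRoots D.P b) e ∧
      (∀ a, (∃ v, v ≫ iB = D.u a) → a ∈ RedSub.posRoots D.P b) ∧
      ∃ φ : D.T ⊗ RedSub.pow (Red.Ga (Spec (CommRingCat.of k))) m ≅ B, φ.hom ≫ iB = RedSub.borelMap D e := by
  classical
  obtain ⟨b, hb⟩ := Groth.L14.TypeR.exists_base_borel D hB t ht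
  haveI := hB.1; haveI := hB.2.1; haveI := hB.2.2.1
  haveI := Groth.L14.TypeR.connectedSpace_borel (G := G) hB
  haveI : IsAffineHom G.hom := D.reductive.1
  haveI : QuasiCompact B.hom := by rw [← Over.w iB]; infer_instance
  obtain ⟨m', e', he'⟩ := exists_enum (D := D) {a | ∃ v, v ≫ iB = D.u a}
  obtain ⟨φ, hφ⟩ := Groth.L14.TypeR.exists_borel_iso (D := D) (h := iB) inferInstance
    (Groth.L14.TypeR.hasConnectedFibres_field B) t ht (R' := {a | ∃ v, v ≫ iB = D.u a}) (fun a => Iff.rfl) hb he'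
  obtain ⟨m, e, he⟩ := exists_enum (D := D) (RedSub.posRoots D.P b)
  obtain ⟨-, Bb, _, ib, eb, hBb, hib⟩ := Groth.Agent.S3952.result D b e he
  haveI := hBb.1
  have hfac : ∀ l, ∃ v, v ≫ ib = D.u (e' l) := fun l => by
    obtain ⟨j, hj⟩ : e' l ∈ Set.range e := by rw [he.2]; exact hb (he'.2 ▸ Set.mem_range_self l)
    obtain ⟨p, hp⟩ := exists_single_tuple (𝟙 (Red.Ga _)) m (fun l => D.u (e l)) (fun l => (D.rootHom _).1) j
    refine ⟨lift 1 p ≫ eb.hom, ?_⟩
    rw [Category.assoc, hib]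
    show lift 1 p ≫ ((fst _ _ ≫ D.i) * (snd _ _ ≫ _)) = _
    haveI := D.maximalTorus.1
    rw [MonObj.comp_mul, lift_fst_assoc, lift_snd_assoc, hp, MonObj.one_comp, _root_.one_mul, Category.id_comp, hj]
  obtain ⟨v, hv⟩ := prodMap_fac ib m' (fun l => D.u (e' l)) hfac
  obtain ⟨p, hp⟩ := exists_one_tuple (X := D.T) m (fun l => D.u (e l)) fun l => (D.rootHom _).1
  obtain ⟨t₀, ht₀⟩ : ∃ t₀ : D.T ⟶ Bb, t₀ ≫ ib = D.i := ⟨lift (𝟙 _) p ≫ eb.hom, by
    rw [Category.assoc, hib]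
    show lift (𝟙 _) p ≫ ((fst _ _ ≫ D.i) * (snd _ _ ≫ _)) = _
    rw [MonObj.comp_mul, lift_fst_assoc, lift_snd_assoc, hp, Category.id_comp, _root_.mul_one]⟩
  let f : B ⟶ Bb := φ.inv ≫ ((fst _ _ ≫ t₀) * (snd _ _ ≫ v))
  have hf : f ≫ ib = iB := by
    show (φ.inv ≫ _) ≫ _ = _
    rw [Category.assoc]
    erw [MonObj.mul_comp, Category.assoc, Category.assoc, hv, ht₀]
    rw [Iso.inv_comp_eq, hφ]
    rfl
  -- the inclusion is an isomorphism after base change, hence an isomorphism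
  obtain ⟨s⟩ : Nonempty ↥(Spec (CommRingCat.of k)) := inferInstanceAs (Nonempty (PrimeSpectrum k))
  obtain ⟨hm, hc, hs, hconn, hsol, -⟩ := hBb.2.2.2 s
  haveI := hm
  haveI : IsIso ((Over.pullback (Red.geomPt s)).map f) :=
    (hB.2.2.2 s).2.2.2.2.2 _ _ _ hc hs hconn hsol (by rw [← Functor.map_comp, hf])
  haveI := hBb.2.2.1
  haveI : Mono f := by
    haveI : Mono iB := Over.mono_of_mono_left iB
    haveI : Mono (f ≫ ib) := by rw [hf]; infer_instance
    exact mono_of_mono f ib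
  haveI : IsIso f := Groth.L08.Borel.isIso_of_geomFibres f fun s' => by
    obtain rfl : s' = s := Subsingleton.elim _ _
    infer_instance
  exact ⟨b, m, e, he, fun a h => hb h, eb ≪≫ (asIso f).symm, by
    show (eb.hom ≫ inv f) ≫ iB = _
    rw [Category.assoc, (IsIso.inv_comp_eq f).2 hf.symm, hib]⟩

/-- **the opposite Borel subgroup** -/
theorem existsUnique_opp {B : Over (Spec (CommRingCat.of k))} [GrpObj B] {iB : B ⟶ G} (hB : Red.IsBorel iB)
    (t : D.T ⟶ B) (ht : t ≫ iB = D.i) :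
    ∃! P : Subobject G, ∃ (B' : Over (Spec (CommRingCat.of k))) (_ : GrpObj B') (iB' : B' ⟶ G) (_ : Mono iB')
      (t' : D.T ⟶ B'), Red.IsBorel iB' ∧ t' ≫ iB' = D.i ∧ IsPullback t t' iB iB' ∧ P = Subobject.mk iB' := by
  classical
  obtain ⟨b, m, e, he, -, φ, hφ⟩ := exists_base_eq_borel D hB t ht
  haveI := hB.1
  haveI : Mono iB := by haveI := hB.2.1; exact Over.mono_of_mono_left iB
  obtain ⟨n, en, hen⟩ := exists_enum (D := D) (RedSub.negRoots D.P b)
  have hen' : RedSub.Enumerates (RedSub.posRoots D.P (negBase D.P b)) en := by rwa [posRoots_negBase]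
  obtain ⟨-, B', _, iB', φ', hB', hφ'⟩ := Groth.Agent.S3952.result D (negBase D.P b) en hen'
  haveI := hB'.1
  haveI : Mono iB' := by haveI := hB'.2.1; exact Over.mono_of_mono_left iB'
  obtain ⟨p₁, hp₁⟩ := exists_one_tuple (X := D.T) n (fun l => D.u (en l)) fun l => (D.rootHom _).1
  let t' : D.T ⟶ B' := lift (𝟙 _) p₁ ≫ φ'.hom
  have ht' : t' ≫ iB' = D.i := by
    rw [Category.assoc, hφ']
    show lift (𝟙 _) p₁ ≫ ((fst _ _ ≫ D.i) * (snd _ _ ≫ _)) = _
    rw [MonObj.comp_mul, lift_fst_assoc, lift_snd_assoc, hp₁, Category.id_comp, _root_.mul_one]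
  haveI := mono_cellMap hen he
  haveI := D.maximalTorus.2.1
  haveI := D.maximalTorus.1
  have hpb : IsPullback t t' iB iB' := by
    refine IsPullback.mk ⟨ht.trans ht'.symm⟩ ⟨PullbackCone.IsLimit.mk _
      (fun c => (c.fst ≫ φ.inv) ≫ fst _ _) (fun c => ?_) (fun c => ?_) (fun c l h1 h2 => ?_)⟩
    all_goals
      let x := c.fst ≫ φ.inv
      let y := c.snd ≫ φ'.inv
      have hx : c.fst ≫ iB = x ≫ RedSub.borelMap D e := by
        rw [Category.assoc, ← hφ, Iso.inv_hom_id_assoc]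
      have hy : c.snd ≫ iB' = y ≫ RedSub.borelMap D en := by
        rw [Category.assoc, ← hφ', Iso.inv_hom_id_assoc]
      obtain ⟨q', hq'⟩ := conj_prodMap D (y ≫ fst _ _) n en (y ≫ snd _ _)
      obtain ⟨p₀, hp₀⟩ := exists_one_tuple (X := c.pt) n (fun l => D.u (en l)) fun l => (D.rootHom _).1
      obtain ⟨p₀', hp₀'⟩ := exists_one_tuple (X := c.pt) m (fun l => D.u (e l)) fun l => (D.rootHom _).1
      have hcell : lift q' (lift (y ≫ fst _ _) p₀') ≫ RedSub.cellMap D en e =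
          lift p₀ x ≫ RedSub.cellMap D en e := by
        have h := c.condition
        rw [hx, hy] at h
        simp only [RedSub.borelMap, MonObj.comp_mul, Category.assoc] at h hq'
        simp only [RedSub.cellMap, MonObj.comp_mul, lift_fst_assoc, lift_snd_assoc, hp₀, hp₀', Category.assoc]
        rw [← hq', h]
        group
      have hc := (cancel_mono (RedSub.cellMap D en e)).1 hcell
      have hc1 : q' = p₀ := by simpa using congrArg (· ≫ fst _ _) hc
      have hc2 : y ≫ fst _ _ = x ≫ fst _ _ := by simpa using congrArg (fun z => z ≫ snd _ _ ≫ fst _ _) hc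
      have hxU : (x ≫ snd _ _) ≫ RedSub.prodMap _ m (fun l => D.u (e l)) = 1 := by
        have h3 := congrArg (fun z => z ≫ snd _ _ ≫ snd _ _) hc
        simp only [lift_snd_assoc, lift_snd] at h3
        rw [← h3, hp₀']
      have hyU : (y ≫ snd _ _) ≫ RedSub.prodMap _ n (fun l => D.u (en l)) = 1 := by
        rw [hc1, hp₀, mul_inv_eq_one, mul_eq_left] at hq'
        exact hq'
    · refine (cancel_mono iB).1 ?_
      rw [Category.assoc, ht, hx]
      show (x ≫ fst _ _) ≫ D.i = x ≫ ((fst _ _ ≫ D.i) * (snd _ _ ≫ _))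
      rw [MonObj.comp_mul, ← Category.assoc, ← Category.assoc, hxU, _root_.mul_one]
    · refine (cancel_mono iB').1 ?_
      rw [Category.assoc, ht', hy]
      show (x ≫ fst _ _) ≫ D.i = y ≫ ((fst _ _ ≫ D.i) * (snd _ _ ≫ _))
      rw [MonObj.comp_mul, ← Category.assoc, ← Category.assoc, hyU, _root_.mul_one, hc2]
    · refine (cancel_mono D.i).1 ?_
      rw [← ht, ← Category.assoc, h1]
      show c.fst ≫ iB = ((x ≫ fst _ _) ≫ t) ≫ iB
      rw [Category.assoc, ht, hx]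
      show x ≫ ((fst _ _ ≫ D.i) * (snd _ _ ≫ _)) = _
      rw [MonObj.comp_mul, ← Category.assoc, ← Category.assoc, hxU, _root_.mul_one]
  refine ⟨Subobject.mk iB', ⟨B', inferInstance, iB', inferInstance, t', hB', ht', hpb, rfl⟩, ?_⟩
  rintro P ⟨B'', _, iB'', _, t'', hB'', ht'', hpb', rfl⟩
  obtain ⟨b', m', e', he', -, φ'', hφ''⟩ := exists_base_eq_borel D hB'' t'' ht''
  haveI := hB''.1
  have hroot : ∀ {B₁ : Over (Spec (CommRingCat.of k))} [GrpObj B₁] {i₁ : B₁ ⟶ G} {l : ℕ} {E : Fin l → D.idx}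
      (ψ : D.T ⊗ RedSub.pow (Red.Ga (Spec (CommRingCat.of k))) l ≅ B₁), ψ.hom ≫ i₁ = RedSub.borelMap D E →
      ∀ j, ∃ v, v ≫ i₁ = D.u (E j) := fun {B₁} _ {i₁ l E} ψ hψ j => by
    obtain ⟨p, hp⟩ := exists_single_tuple (𝟙 (Red.Ga _)) l (fun l => D.u (E l)) (fun l => (D.rootHom _).1) j
    refine ⟨lift 1 p ≫ ψ.hom, ?_⟩
    rw [Category.assoc, hψ]
    show lift 1 p ≫ ((fst _ _ ≫ D.i) * (snd _ _ ≫ _)) = _
    rw [MonObj.comp_mul, lift_fst_assoc, lift_snd_assoc, hp, MonObj.one_comp, _root_.one_mul, Category.id_comp]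
  have hdisj : ∀ c ∈ RedSub.posRoots D.P b, c ∉ RedSub.posRoots D.P b' := fun c hc hc' => by
    obtain ⟨j, rfl⟩ : c ∈ Set.range e := by rw [he.2]; exact hc
    obtain ⟨j', hj'⟩ : e j ∈ Set.range e' := by rw [he'.2]; exact hc'
    obtain ⟨v, hv⟩ := hroot φ hφ j
    obtain ⟨v', hv'⟩ := hroot φ'' hφ'' j'
    rw [hj'] at hv'
    refine Groth.L14.TypeR.rootHom_ne_torus D he j (hpb'.lift v v' (hv.trans hv'.symm)) ?_
    rw [← ht, ← Category.assoc, hpb'.lift_fst, hv]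
  have hsets : RedSub.posRoots D.P b' = RedSub.negRoots D.P b := by
    have hneg : ∀ (b₁ : D.P.Base) (c : D.idx), c ∈ RedSub.negRoots D.P b₁ ↔ D.P.reflectionPerm c c ∈ RedSub.posRoots D.P b₁ := fun b₁ c => by
      simp only [RedSub.negRoots, RedSub.posRoots, Set.mem_setOf_eq, Groth.L24.RootD.root_neg]
    refine Set.ext fun c => ⟨fun hc => ?_, fun hc => ?_⟩
    · exact (pos_or_neg D.P b c).resolve_left fun h => hdisj c h hc
    · refine (pos_or_neg D.P b' c).resolve_right fun h => ?_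
      exact hdisj _ ((hneg b c).1 hc) ((hneg b' c).1 h)
  haveI := hB''.2.1; haveI := hB''.2.2.1
  have hfac : ∀ (B₁ B₂ : Over (Spec (CommRingCat.of k))) [GrpObj B₁] [GrpObj B₂] (i₁ : B₁ ⟶ G) (i₂ : B₂ ⟶ G)
      [IsMonHom i₂] (t₂ : D.T ⟶ B₂), t₂ ≫ i₂ = D.i → ∀ {l l' : ℕ} {E : Fin l → D.idx} {E' : Fin l' → D.idx}
      (ψ : D.T ⊗ RedSub.pow (Red.Ga (Spec (CommRingCat.of k))) l ≅ B₁)
      (ψ' : D.T ⊗ RedSub.pow (Red.Ga (Spec (CommRingCat.of k))) l' ≅ B₂), ψ.hom ≫ i₁ = RedSub.borelMap D E →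
      ψ'.hom ≫ i₂ = RedSub.borelMap D E' → Set.range E ⊆ Set.range E' → ∃ f : B₁ ⟶ B₂, f ≫ i₂ = i₁ := by
    intro B₁ B₂ _ _ i₁ i₂ _ t₂ ht₂ l l' E E' ψ ψ' hψ hψ' hsub
    obtain ⟨v, hv⟩ := prodMap_fac i₂ l (fun j => D.u (E j)) fun j => by
      obtain ⟨j', hj'⟩ := hsub (Set.mem_range_self j)
      obtain ⟨v, hv⟩ := hroot ψ' hψ' j'
      exact ⟨v, by rw [hv, hj']⟩
    refine ⟨ψ.inv ≫ ((fst _ _ ≫ t₂) * (snd _ _ ≫ v)), ?_⟩
    rw [Category.assoc]
    erw [MonObj.mul_comp, Category.assoc, Category.assoc, hv, ht₂]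
    rw [Iso.inv_comp_eq, hψ]
    rfl
  obtain ⟨f, hf⟩ := hfac B'' B' iB'' iB' t' ht' φ'' φ' hφ'' hφ' (by rw [he'.2, hsets, hen.2])
  obtain ⟨g, hg⟩ := hfac B' B'' iB' iB'' t'' ht'' φ' φ'' hφ' hφ'' (by rw [he'.2, hsets, hen.2])
  exact Subobject.mk_eq_mk_of_comm _ _
    ⟨f, g, (cancel_mono iB'').1 (by rw [Category.assoc, hg, hf, Category.id_comp]),
      (cancel_mono iB').1 (by rw [Category.assoc, hf, hg, Category.id_comp])⟩ hf

end Groth.L14.Splitting
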