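import Groth.Agent.L14.Splitting.Cell
import Groth.Agent.L25.DiagIso
import Groth.Agent.L25.Bridge.Lift
import Groth.Agent.L25.Locus.Normalizer
import Groth.Agent.L08.TorusWeights.Reductive
import Groth.Agent.L08.TorusQuot.Affine
import Groth.Agent.S3006
import Groth.Agent.S16774
import Groth.Agent.L25.RedField.CentralIsogeny
import Groth.Agent.L25.SplitSub.Rank
import Groth.Agent.L08.Borel.MaxTorusDesc

/-!
# Coordinates of a group with a split torus
-/

set_option autoImplicit false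
set_option linter.unusedSectionVars false
set_option linter.style.haveILetI false
set_option backward.isDefEq.respectTransparency.types false
set_option maxHeartbeats 1000000

universe u

open CategoryTheory CategoryTheory.Limits MonoidalCategory CartesianMonoidalCategory MonObj AlgebraicGeometry
open WithConv
open Groth.L25.Bridge (P)

noncomputable section

namespace Groth.L14.Splitting

variable {K : Type u} [CommRing K] {A : Type u} [CommRing A] [HopfAlgebra K A] {r : ℕ}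

local notation "SK" => Spec (CommRingCat.of K)

variable (K r) in
/-- The split torus as the spectrum of its group algebra. -/
def tIso : Grp.mk (Red.DS SK (Fin r → ℤ)) ≅ Grp.mk (P K (AddMonoidAlgebra K (Fin r → ℤ))) :=
  (Groth.L25.DiagIso.iso K (Fin r → ℤ)).symm ≪≫
    Groth.L25.Bridge.mapIso (AddMonoidAlgebra.toMultiplicativeBialgEquiv K K (Fin r → ℤ))

theorem charAlg_id : charAlg (𝟙 (Red.DS SK (Fin r → ℤ))) =
    (pull (Groth.L25.DiagIso.rho K (Fin r → ℤ))).comp ((val (𝟙 (Red.diag K (Fin r → ℤ)))).ofConv.comp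
      ((AddMonoidAlgebra.toMultiplicativeBialgEquiv K K (Fin r → ℤ) :
        AddMonoidAlgebra K (Fin r → ℤ) →ₐc[K] MonoidAlgebra K (Multiplicative (Fin r → ℤ))) :
        AddMonoidAlgebra K (Fin r → ℤ) →ₐ[K] MonoidAlgebra K (Multiplicative (Fin r → ℤ)))) := by
  refine AddMonoidAlgebra.algHom_ext (fun m => ?_) (Subsingleton.elim _ _)
  rw [charAlg_single, one_smul]
  show _ = (Groth.L25.DiagIso.rhoL K (Fin r → ℤ)).appTop
    ((Scheme.ΓSpecIso (CommRingCat.of (MonoidAlgebra K (Multiplicative (Fin r → ℤ))))).inv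
      (AddMonoidAlgebra.toMultiplicativeBialgEquiv K K (Fin r → ℤ) (AddMonoidAlgebra.single m 1)))
  rw [Groth.L25.DiagIso.rhoL_appTop, AddMonoidAlgebra.toMultiplicativeBialgEquiv_single,
    Groth.L25.DiagIso.psi_of]

theorem val_mapMulEquiv {B : Type u} [CommRing B] [HopfAlgebra K B] {X : Over SK} (x : X ⟶ P K B)
    (g : A →ₐ[K] B) :
    val (x ≫ Spec.mapMulEquiv (toConv g)) = toConv ((val x).ofConv.comp g) := by
  refine WithConv.ext (AlgHom.ext fun b => ?_)
  show (x.left ≫ Spec.map (CommRingCat.ofHom g.toRingHom)).appTop ((Scheme.ΓSpecIso (CommRingCat.of A)).inv b) =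
    x.left.appTop ((Scheme.ΓSpecIso (CommRingCat.of B)).inv (g b))
  have e2 := congrArg (fun φ => φ.hom b) (Scheme.ΓSpecIso_inv_naturality (CommRingCat.ofHom g.toRingHom))
  exact (congrArg x.left.appTop e2).symm

theorem tIso_hom : (tIso K r).hom.hom.hom = Groth.L25.DiagIso.rho K (Fin r → ℤ) ≫ Spec.mapMulEquiv (toConv
    ((AddMonoidAlgebra.toMultiplicativeBialgEquiv K K (Fin r → ℤ) :
      AddMonoidAlgebra K (Fin r → ℤ) →ₐc[K] MonoidAlgebra K (Multiplicative (Fin r → ℤ))) :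
      AddMonoidAlgebra K (Fin r → ℤ) →ₐ[K] MonoidAlgebra K (Multiplicative (Fin r → ℤ)))) := rfl

theorem torHom_eq (φ : A →ₐc[K] AddMonoidAlgebra K (Fin r → ℤ)) :
    torHom φ = (tIso K r).hom.hom.hom ≫ Spec.mapMulEquiv (toConv (φ : A →ₐ[K] AddMonoidAlgebra K (Fin r → ℤ))) := by
  refine val_injective ?_
  rw [torHom, val_ofFn, val_mapMulEquiv, tIso_hom, val_mapMulEquiv, ← Category.comp_id (Groth.L25.DiagIso.rho K _),
    val_comp, charAlg_id]
  rfl

instance isMonHom_torHom (φ : A →ₐc[K] AddMonoidAlgebra K (Fin r → ℤ)) : IsMonHom (torHom φ) := by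
  rw [torHom_eq]
  haveI : IsMonHom (Spec.mapMulEquiv (toConv (φ : A →ₐ[K] AddMonoidAlgebra K (Fin r → ℤ)))) :=
    ((hopfSpec (CommRingCat.of K)).map (CommHopfAlgCat.ofHom φ).op).hom.isMonHom_hom
  infer_instance

/-- coordinates of a group with a homomorphism from the split torus -/
theorem exists_coords (G T : Over SK) [GrpObj G] [GrpObj T] [IsAffine G.left] (i : T ⟶ G) [IsMonHom i]
    (e : Grp.mk T ≅ Grp.mk (Red.DS SK (Fin r → ℤ))) :
    ∃ (A : Type u) (_ : CommRing A) (_ : HopfAlgebra K A) (eG : Grp.mk G ≅ Grp.mk (P K A))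
      (φ : A →ₐc[K] AddMonoidAlgebra K (Fin r → ℤ)), torHom φ = e.inv.hom.hom ≫ i ≫ eG.hom.hom.hom := by
  obtain ⟨A, _, _, ⟨eG⟩⟩ := Groth.L25.Bridge.exists_hopf G
  let hom₀ : Grp.mk (P K (AddMonoidAlgebra K (Fin r → ℤ))) ⟶ Grp.mk (P K A) :=
    (tIso K r).inv ≫ e.inv ≫ Grp.ofHom i ≫ eG.hom
  let f := (hopfSpec.fullyFaithful (R := CommRingCat.of K)).preimage
    (X := Opposite.op (CommHopfAlgCat.of K (AddMonoidAlgebra K (Fin r → ℤ)))) (Y := Opposite.op (CommHopfAlgCat.of K A)) hom₀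
  have h := (hopfSpec.fullyFaithful (R := CommRingCat.of K)).map_preimage
    (X := Opposite.op (CommHopfAlgCat.of K (AddMonoidAlgebra K (Fin r → ℤ)))) (Y := Opposite.op (CommHopfAlgCat.of K A)) hom₀
  refine ⟨A, inferInstance, inferInstance, eG, f.unop.hom, ?_⟩
  have h' : Spec.mapMulEquiv (toConv (f.unop.hom : A →ₐ[K] AddMonoidAlgebra K (Fin r → ℤ))) = hom₀.hom.hom :=
    congrArg (fun m => m.hom.hom) h
  rw [torHom_eq, h']
  exact congr($((tIso K r).hom_inv_id_assoc (e.inv ≫ Grp.ofHom i ≫ eG.hom)).hom.hom)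

section Props

variable {G T : Over (Spec (CommRingCat.of K))} [GrpObj G] [GrpObj T] {i : T ⟶ G}
  {e : Grp.mk T ≅ Grp.mk (Red.DS (Spec (CommRingCat.of K)) (Fin r → ℤ))}
  (eG : Grp.mk G ≅ Grp.mk (P K A)) {φ : A →ₐc[K] AddMonoidAlgebra K (Fin r → ℤ)}

theorem isIso_hom_of_iso {G H : Over SK} [GrpObj G] [GrpObj H] (e : Grp.mk G ≅ Grp.mk H) :
    IsIso e.hom.hom.hom.left :=
  inferInstanceAs (IsIso ((Over.forget _).map ((Grp.forget _).mapIso e).hom))

include eG in
theorem formallySmooth_of_smooth [Smooth G.hom] : Algebra.FormallySmooth K A ∧ Algebra.FinitePresentation K A := by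
  haveI : IsIso eG.inv.hom.hom.left := isIso_hom_of_iso eG.symm
  have h : Smooth (P K A).hom := by rw [← Over.w eG.inv.hom.hom]; infer_instance
  change Smooth (Spec.map (CommRingCat.ofHom (algebraMap K A))) at h
  rw [HasRingHomProperty.Spec_iff (P := @Smooth), CommRingCat.hom_ofHom, RingHom.smooth_algebraMap] at h
  exact ⟨inferInstance, inferInstance⟩

theorem surjective_of_mono [IsAffineHom G.hom] [Mono i] [IsMonHom i] (hT : Red.IsTorus T)
    (hφ : torHom φ = e.inv.hom.hom ≫ i ≫ eG.hom.hom.hom) : Function.Surjective φ := by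
  haveI : IsClosedImmersion i.left :=
    Groth.L25.Locus.isClosedImmersion_of_mono (Groth.L25.Locus.locally_of_multTypeFT (Groth.L25.Locus.isMultTypeFT_of_isTorus hT)) i
  haveI : IsIso (tIso K r).hom.hom.hom.left := isIso_hom_of_iso _
  haveI : IsIso e.inv.hom.hom.left := isIso_hom_of_iso e.symm
  haveI : IsIso eG.hom.hom.hom.left := isIso_hom_of_iso eG
  have h1 : IsClosedImmersion ((tIso K r).hom.hom.hom.left ≫
      Spec.map (CommRingCat.ofHom (φ : A →ₐ[K] AddMonoidAlgebra K (Fin r → ℤ)).toRingHom)) := by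
    have h2 := congrArg CommaMorphism.left ((torHom_eq φ).symm.trans hφ)
    simp only [Over.comp_left] at h2
    erw [h2]
    exact MorphismProperty.comp_mem _ _ _ (inferInstanceAs (IsClosedImmersion e.inv.hom.hom.left))
      (MorphismProperty.comp_mem _ _ _ ‹IsClosedImmersion i.left› (inferInstanceAs (IsClosedImmersion eG.hom.hom.hom.left)))
  have h3 := (MorphismProperty.cancel_left_of_respectsIso @IsClosedImmersion _ _).1 h1
  haveI := h3
  have h4 : Function.Surjective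
      (Spec.map (CommRingCat.ofHom (φ : A →ₐ[K] AddMonoidAlgebra K (Fin r → ℤ)).toRingHom)).appTop :=
    (@IsClosedImmersion.isAffine_surjective_of_isAffine _ _ inferInstance _ h3).2
  intro y
  obtain ⟨a, ha⟩ := h4 ((Scheme.ΓSpecIso (CommRingCat.of (AddMonoidAlgebra K (Fin r → ℤ)))).inv y)
  refine ⟨(Scheme.ΓSpecIso (CommRingCat.of A)).hom a, ?_⟩
  have e2 := congrArg (fun ψ => ψ.hom a) (Scheme.ΓSpecIso_naturality
    (CommRingCat.ofHom (φ : A →ₐ[K] AddMonoidAlgebra K (Fin r → ℤ)).toRingHom))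
  simp only [CommRingCat.hom_comp, RingHom.comp_apply] at e2
  rw [ha] at e2
  refine e2.symm.trans ?_
  exact ConcreteCategory.congr_hom (Scheme.ΓSpecIso (CommRingCat.of (AddMonoidAlgebra K (Fin r → ℤ)))).inv_hom_id y

/-- a point commuting with the torus is a point of the torus -/
theorem cent_of_centralizer (hc : Red.IsCentralizerOf i i) [IsMonHom i]
    (hφ : torHom φ = e.inv.hom.hom ≫ i ≫ eG.hom.hom.hom)
    (C : Type u) [CommRing C] [Algebra K C] (g : A →ₐ[K] C) (hg : TorCommutes φ g) :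
    ∃ χ : AddMonoidAlgebra K (Fin r → ℤ) →ₐ[K] C, g = χ.comp (φ : A →ₐ[K] AddMonoidAlgebra K (Fin r → ℤ)) := by
  let X : Over SK := (Spec (CommRingCat.of C)).asOver (Spec (CommRingCat.of K))
  let io : C →ₐ[K] Γ(X.left, ⊤) :=
    { (Scheme.ΓSpecIso (CommRingCat.of C)).inv.hom with
      commutes' := fun c => (congrArg (fun φ => φ.hom c)
        (Scheme.ΓSpecIso_inv_naturality (CommRingCat.ofHom (algebraMap K C)))) }
  let x : X ⟶ P K A := ofFn (toConv (io.comp g))
  haveI : IsMonHom eG.inv.hom.hom := eG.inv.hom.isMonHom_hom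
  have hiso : eG.hom.hom.hom ≫ eG.inv.hom.hom = 𝟙 _ := congr($(eG.hom_inv_id).hom.hom)
  have hie : e.hom.hom.hom ≫ torHom φ = i ≫ eG.hom.hom.hom := by
    rw [hφ, ← Category.assoc, show e.hom.hom.hom ≫ e.inv.hom.hom = 𝟙 _ from congr($(e.hom_inv_id).hom.hom),
      Category.id_comp]
  obtain ⟨t, ht⟩ := (hc.2.2 X (x ≫ eG.inv.hom.hom)).2 fun X' p h => by
    have hi : i = (i ≫ eG.hom.hom.hom) ≫ eG.inv.hom.hom := by rw [Category.assoc, hiso, Category.comp_id]
    rw [hi, ← Category.assoc p x, ← Category.assoc h, ← hie, ← MonObj.mul_comp, ← MonObj.mul_comp]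
    congr 1
    rw [← Category.assoc, comp_torHom, comp_ofFn, ← ofFn_mul, ← ofFn_mul]
    congr 1
    have := hg Γ(X'.left, ⊤) ((pull p).comp io) (charAlg (h ≫ e.hom.hom.hom))
    exact this.eq.symm
  let io' : C ≃ₐ[K] Γ(X.left, ⊤) := AlgEquiv.ofBijective io
    (ConcreteCategory.bijective_of_isIso (Scheme.ΓSpecIso (CommRingCat.of C)).inv)
  refine ⟨(io'.symm : Γ(X.left, ⊤) →ₐ[K] C).comp (charAlg (t ≫ e.hom.hom.hom)), AlgHom.ext fun b => ?_⟩
  have h1 : x = (t ≫ e.hom.hom.hom) ≫ torHom φ := by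
    rw [Category.assoc, hie, ← Category.assoc, ht, Category.assoc,
      show eG.inv.hom.hom ≫ eG.hom.hom.hom = 𝟙 _ from congr($(eG.inv_hom_id).hom.hom), Category.comp_id]
  rw [comp_torHom] at h1
  have h2 := congrArg val h1
  rw [val_ofFn, val_ofFn] at h2
  exact (io'.eq_symm_apply).2 (DFunLike.congr_fun (congrArg WithConv.ofConv h2) b)

end Props

/-- a maximal torus of a reductive group is its own centralizer -/
theorem selfCentral {S : Scheme.{u}} {G T : Over S} [GrpObj G] [GrpObj T] (hG : Red.IsReductive G) {i : T ⟶ G}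
    (hT : Red.IsMaximalTorus i) : Red.IsCentralizerOf i i := by
  haveI := hT.1; haveI := hT.2.1
  haveI := hG.1; haveI := hG.2.1
  haveI : IsAffineHom T.hom := Groth.L25.Central.isAffineHom_of_multTypeFT (Groth.L25.Locus.isMultTypeFT_of_isTorus hT.2.2.1)
  haveI : IsClosedImmersion i.left :=
    Groth.L25.Locus.isClosedImmersion_of_mono (Groth.L25.Locus.locally_of_multTypeFT (Groth.L25.Locus.isMultTypeFT_of_isTorus hT.2.2.1)) i
  obtain ⟨⟨Z, _, z, hz, -, -⟩, -⟩ := Groth.Agent.S3006.result S G T i ‹_› hT.2.2.1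
  haveI := hz.1; haveI := hz.2.1
  obtain ⟨f, hf⟩ := (hz.2.2 T i).2 fun X' x h => by
    rw [← MonObj.mul_comp, ← MonObj.mul_comp,
      Groth.L25.Central.mul_comm_of_multTypeFT (Groth.L25.Locus.isMultTypeFT_of_isTorus hT.2.2.1) x h]
  have hconn : ∀ s : S, _root_.IsConnected (G.hom.base ⁻¹' {s}) := fun s =>
    Groth.L25.RedField.isConnected_fibre_of_isReductive hG s
  haveI : Mono (f ≫ z) := by rw [hf]; infer_instance
  haveI : Mono f := mono_of_mono f z
  haveI : IsIso f := Groth.L25.SplitSub.isIso_of_local_base f fun s => by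
    obtain ⟨U, hU, hiso, -⟩ := Groth.Agent.S16774.result hG.2.1 hG.1 hconn i hT.2.2.1 z hz f hf s (hG.2.2 s)
      (Groth.L08.Borel.isMaximalTorus_bc hT (Red.geomPt s))
    exact ⟨U, hU, hiso⟩
  refine ⟨hT.1, hT.2.1, fun X g => ⟨?_, fun h => ?_⟩⟩
  · rintro ⟨t, rfl⟩ X' x h
    rw [← Category.assoc, ← MonObj.mul_comp, ← MonObj.mul_comp,
      Groth.L25.Central.mul_comm_of_multTypeFT (Groth.L25.Locus.isMultTypeFT_of_isTorus hT.2.2.1)]
  · obtain ⟨w, hw⟩ := (hz.2.2 X g).2 h
    exact ⟨w ≫ inv f, by rw [Category.assoc, ← hf, IsIso.inv_hom_id_assoc, hw]⟩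

end Groth.L14.Splitting
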