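import Groth.Agent.L14.Splitting.Cotangent
import Groth.Agent.L14.Splitting.Torus
import Groth.Agent.L06.RootLines.Field
import Groth.Agent.L24.TorusField.Main
import Groth.Agent.L08.Borel.MaxTorusNonsmooth
import Mathlib.Algebra.DualNumber

/-!
# The weights of a reductive group on a fibre
-/

set_option autoImplicit false
set_option linter.unusedSectionVars false
set_option linter.style.haveILetI false
set_option linter.deprecated false
set_option backward.isDefEq.respectTransparency.types false
set_option maxHeartbeats 1000000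

universe u

open CategoryTheory CategoryTheory.Limits MonoidalCategory CartesianMonoidalCategory MonObj AlgebraicGeometry
open WithConv TensorProduct
open Groth.L25.Bridge (P)

noncomputable section

namespace Groth.L14.Splitting

section BC

variable {S S' : Scheme.{u}}

/-- reductive groups are stable under base change -/
theorem isReductive_bc {G : Over S} [GrpObj G] (hG : Red.IsReductive G) (j : S' ⟶ S) :
    Red.IsReductive (Red.bc j G) := by
  haveI := hG.1; haveI := hG.2.1
  refine ⟨MorphismProperty.pullback_snd _ _ hG.1, MorphismProperty.pullback_snd _ _ hG.2.1, fun p => ?_⟩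
  obtain ⟨θ, hθ⟩ := Groth.L08.Borel.exists_geomPt_map j p
  haveI := (Groth.L08.Borel.isMonHom_fibreIso j θ hθ G).1
  exact Groth.L14.RedLR.isReductiveOver_congr (Grp.mkIso' (Groth.L08.Borel.fibreIso j θ hθ G)).symm
    (Groth.L24.ReductiveBC.isReductiveOver_bc θ (hG.2.2 (j p)))

/-- reductive groups are transported by isomorphisms -/
theorem isReductive_congr {G G' : Over S} [GrpObj G] [GrpObj G'] (e : Grp.mk G ≅ Grp.mk G')
    (hG : Red.IsReductive G) : Red.IsReductive G' := by
  haveI := hG.1; haveI := hG.2.1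
  have hw : e.inv.hom.hom.left ≫ G.hom = G'.hom := Over.w e.inv.hom.hom
  haveI : IsIso e.inv.hom.hom.left :=
    inferInstanceAs (IsIso ((Over.forget _).map ((Grp.forget _).mapIso e.symm).hom))
  exact ⟨hw ▸ inferInstance, hw ▸ inferInstance, fun s =>
    Groth.L14.RedLR.isReductiveOver_congr ((Over.pullback (Red.geomPt s)).mapGrp.mapIso e) (hG.2.2 s)⟩

end BC

variable {K : Type u} [CommRing K] {A : Type u} [CommRing A] [HopfAlgebra K A] {r : ℕ}

local notation "SK" => Spec (CommRingCat.of K)

/-- the morphism of a bialgebra map -/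
abbrev spB {B : Type u} [CommRing B] [HopfAlgebra K B] (f : A →ₐc[K] B) : P K B ⟶ P K A :=
  Spec.mapMulEquiv (toConv (f : A →ₐ[K] B))

instance isMonHom_spB {B : Type u} [CommRing B] [HopfAlgebra K B] (f : A →ₐc[K] B) : IsMonHom (spB f) :=
  ((hopfSpec (CommRingCat.of K)).map (CommHopfAlgCat.ofHom f).op).hom.isMonHom_hom

theorem spB_comp {B C : Type u} [CommRing B] [HopfAlgebra K B] [CommRing C] [HopfAlgebra K C] (f : A →ₐc[K] B)
    (g : B →ₐc[K] C) : spB g ≫ spB f = spB (g.comp f) := by
  refine Over.OverMorphism.ext ?_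
  exact (Spec.map_comp _ _).symm

variable (L : Type u) [CommRing L] [Algebra K L]

theorem bcIso_natural' {B : Type u} [CommRing B] [HopfAlgebra K B] (f : B →ₐc[K] A) :
    (Over.pullback (Spec.map (CommRingCat.ofHom (algebraMap K L)))).map (spB f) ≫
        (Groth.L25.Bridge.bcIso K B L).hom.hom.hom =
      (Groth.L25.Bridge.bcIso K A L).hom.hom.hom ≫ spB (Bialgebra.TensorProduct.map (BialgHom.id L L) f) := by
  refine Over.OverMorphism.ext ?_
  let g : pullback (Spec (CommRingCat.of A) ↘ Spec (CommRingCat.of K))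
      (Spec (CommRingCat.of L) ↘ Spec (CommRingCat.of K)) ⟶
      pullback (Spec (CommRingCat.of B) ↘ Spec (CommRingCat.of K))
        (Spec (CommRingCat.of L) ↘ Spec (CommRingCat.of K)) :=
    ((Over.pullback (Spec.map (CommRingCat.ofHom (algebraMap K L)))).map (spB f)).left
  show g ≫ (pullbackSymmetry _ _ ≪≫ pullbackSpecIso' K L B).hom =
    (pullbackSymmetry _ _ ≪≫ pullbackSpecIso' K L A).hom ≫
      Spec.map (CommRingCat.ofHom ((Bialgebra.TensorProduct.map (BialgHom.id L L) f :
        (L ⊗[K] B) →ₐc[L] (L ⊗[K] A)) : (L ⊗[K] B) →+* (L ⊗[K] A)))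
  rw [← cancel_mono ((pullbackSymmetry _ _ ≪≫ pullbackSpecIso' K L B).inv),
    ← cancel_epi ((pullbackSymmetry _ _ ≪≫ pullbackSpecIso' K L A).inv)]
  simp only [Category.assoc, Iso.trans_hom, Iso.trans_inv, Iso.hom_inv_id, Category.comp_id, Iso.inv_hom_id_assoc,
    Iso.hom_inv_id_assoc]
  have eA1 : (pullbackSpecIso' K L A).inv ≫ pullback.fst _ _ =
      Spec.map (CommRingCat.ofHom (Algebra.TensorProduct.includeLeftRingHom (R := K) (A := L) (B := A))) :=
    pullbackSpecIso_inv_fst K L A
  have eA2 : (pullbackSpecIso' K L A).inv ≫ pullback.snd _ _ =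
      Spec.map (CommRingCat.ofHom ((Algebra.TensorProduct.includeRight : A →ₐ[K] L ⊗[K] A) : A →+* L ⊗[K] A)) :=
    pullbackSpecIso_inv_snd K L A
  have eB1 : (pullbackSpecIso' K L B).inv ≫ pullback.fst _ _ =
      Spec.map (CommRingCat.ofHom (Algebra.TensorProduct.includeLeftRingHom (R := K) (A := L) (B := B))) :=
    pullbackSpecIso_inv_fst K L B
  have eB2 : (pullbackSpecIso' K L B).inv ≫ pullback.snd _ _ =
      Spec.map (CommRingCat.ofHom ((Algebra.TensorProduct.includeRight : B →ₐ[K] L ⊗[K] B) : B →+* L ⊗[K] B)) :=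
    pullbackSpecIso_inv_snd K L B
  apply pullback.hom_ext
  · simp only [Category.assoc]
    rw [show g ≫ pullback.fst _ _ = pullback.fst _ _ ≫ Spec.map (CommRingCat.ofHom (f : B →+* A)) from
      pullback.lift_fst _ _ _]
    simp only [pullbackSymmetry_inv_comp_fst, pullbackSymmetry_inv_comp_fst_assoc]
    rw [reassoc_of% eA2, eB2]
    simp only [← Spec.map_comp]
    congr 1
  · simp only [Category.assoc]
    rw [show g ≫ pullback.snd _ _ = pullback.snd _ _ from pullback.lift_snd _ _ _]
    simp only [pullbackSymmetry_inv_comp_snd]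
    rw [eA1, eB1]
    simp only [← Spec.map_comp]
    congr 1
    refine CommRingCat.hom_ext (RingHom.ext fun c => ?_)
    show c ⊗ₜ[K] (1 : A) = Bialgebra.TensorProduct.map (BialgHom.id L L) f (c ⊗ₜ 1)
    simp

variable (φ : A →ₐc[K] AddMonoidAlgebra K (Fin r → ℤ))

theorem isIso_spB {B : Type u} [CommRing B] [HopfAlgebra K B] (d : A ≃ₐc[K] B) :
    IsIso (spB (d : A →ₐc[K] B)) :=
  ⟨spB (d.symm : B →ₐc[K] A),
    by rw [spB_comp]; exact Over.OverMorphism.ext (by
      refine (congrArg Spec.map (CommRingCat.hom_ext (RingHom.ext fun a => ?_) :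
        CommRingCat.ofHom _ = 𝟙 (CommRingCat.of B))).trans (Spec.map_id _)
      exact d.apply_symm_apply a),
    by rw [spB_comp]; exact Over.OverMorphism.ext (by
      refine (congrArg Spec.map (CommRingCat.hom_ext (RingHom.ext fun a => ?_) :
        CommRingCat.ofHom _ = 𝟙 (CommRingCat.of A))).trans (Spec.map_id _)
      exact d.symm_apply_apply a)⟩

theorem spB_phiBC : spB (phiBC φ L) =
    spB (A := L ⊗[K] AddMonoidAlgebra K (Fin r → ℤ)) (B := AddMonoidAlgebra L (Fin r → ℤ))
      (dBase K L r : (L ⊗[K] AddMonoidAlgebra K (Fin r → ℤ)) →ₐc[L] AddMonoidAlgebra L (Fin r → ℤ)) ≫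
    spB (A := L ⊗[K] A) (B := L ⊗[K] AddMonoidAlgebra K (Fin r → ℤ))
      (Bialgebra.TensorProduct.map (BialgHom.id L L) φ) := by
  refine Over.OverMorphism.ext ?_
  refine Eq.trans (congrArg Spec.map ?_) (Spec.map_comp _ _)
  exact CommRingCat.hom_ext (RingHom.ext fun x => rfl)

/-- the base change of a split maximal torus, in coordinates -/
theorem phiBC_data (hG : Red.IsReductive (P K A)) (hT : Red.IsMaximalTorus (spB φ)) :
    Red.IsReductive (P L (L ⊗[K] A)) ∧ Red.IsMaximalTorus (spB (phiBC φ L)) := by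
  let θ := Spec.map (CommRingCat.ofHom (algebraMap K L))
  refine ⟨isReductive_congr (Groth.L25.Bridge.bcIso K A L) (isReductive_bc hG θ), ?_⟩
  haveI := hG.1; haveI := hG.2.1
  haveI : IsAffine (P K A).left := inferInstanceAs (IsAffine (Spec _))
  have h1 := Groth.L08.Borel.isMaximalTorus_bc hT θ
  let bA : Red.bc θ (P K A) ≅ P L (L ⊗[K] A) := (Grp.forget _).mapIso (Groth.L25.Bridge.bcIso K A L)
  haveI : IsMonHom bA.hom := (Groth.L25.Bridge.bcIso K A L).hom.hom.isMonHom_hom
  have h2 := Groth.L24.TorusField.isMaximalTorus_comp_iso h1 bA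
  let bT : Red.bc θ (P K (AddMonoidAlgebra K (Fin r → ℤ))) ≅ P L (L ⊗[K] AddMonoidAlgebra K (Fin r → ℤ)) :=
    (Grp.forget _).mapIso (Groth.L25.Bridge.bcIso K (AddMonoidAlgebra K (Fin r → ℤ)) L)
  haveI : IsMonHom bT.hom := (Groth.L25.Bridge.bcIso K _ L).hom.hom.isMonHom_hom
  haveI := isIso_spB (K := L) (A := L ⊗[K] AddMonoidAlgebra K (Fin r → ℤ)) (B := AddMonoidAlgebra L (Fin r → ℤ)) (dBase K L r)
  let sd : P L (AddMonoidAlgebra L (Fin r → ℤ)) ≅ P L (L ⊗[K] AddMonoidAlgebra K (Fin r → ℤ)) :=
    asIso (spB (dBase K L r : (L ⊗[K] AddMonoidAlgebra K (Fin r → ℤ)) →ₐc[L] AddMonoidAlgebra L (Fin r → ℤ)))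
  haveI : IsMonHom (sd ≪≫ bT.symm).hom := by
    haveI : IsMonHom sd.hom := isMonHom_spB _
    exact inferInstanceAs (IsMonHom (sd.hom ≫ bT.inv))
  have h3 := Groth.L08.Borel.isMaximalTorus_iso_comp h2 (sd ≪≫ bT.symm)
  have e : (sd ≪≫ bT.symm).hom ≫ (Over.pullback θ).map (spB φ) ≫ bA.hom = spB (phiBC φ L) := by
    rw [spB_phiBC]
    show (sd.hom ≫ bT.inv) ≫ _ = _
    rw [Category.assoc]
    congr 1
    rw [Iso.inv_comp_eq]
    exact bcIso_natural' L φ
  rwa [e] at h3

/-- the weight spaces on a residue field, by the theory over a field -/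
theorem tanW_eq (k : Type u) [Field k] [HopfAlgebra k A] (ψ : A →ₐc[k] AddMonoidAlgebra k (Fin r → ℤ))
    (m : Fin r → ℤ) : TanW ψ m k = Groth.L06.RootLines.Wt ψ m :=
  Submodule.ext fun w => ⟨fun h => ⟨fun b c => by simpa using h.1 b c, h.2⟩,
    fun h => ⟨fun b c => by simpa using h.1 b c, h.2⟩⟩

variable [Algebra.FormallySmooth K A] [Algebra.FinitePresentation K A]

theorem mult_facts (hG : Red.IsReductive (P K A)) (hT : Red.IsMaximalTorus (spB φ)) (p : PrimeSpectrum K)
    {a : Fin r → ℤ} (ha : a ≠ 0) (h : mult φ a p ≠ 0) :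
    mult φ a p = 1 ∧ mult φ (-a) p = 1 ∧
      ∀ b, b ≠ 0 → mult φ b p ≠ 0 → Groth.L06.RootLines.Prop' a b → b = a ∨ b = -a := by
  obtain ⟨h1, h2⟩ := phiBC_data p.asIdeal.ResidueField φ hG hT
  let κ := p.asIdeal.ResidueField
  have hW : ∀ m, Module.finrank κ (Groth.L06.RootLines.Wt (phiBC φ κ) m) = mult φ m p := fun m => by
    rw [← tanW_eq κ (phiBC φ κ) m, (tanBC φ κ m).finrank_eq, mult_eq_finrank]
  haveI : ∀ m, Module.Finite κ (Groth.L06.RootLines.Wt (phiBC φ κ) m) := fun m =>
    Submodule.finiteDimensional_of_le (Groth.L06.RootLines.Wt_le (phiBC φ κ) m)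
  have hne : ∀ m, Groth.L06.RootLines.Wt (phiBC φ κ) m ≠ ⊥ ↔ mult φ m p ≠ 0 := fun m => by
    rw [← hW, ne_eq, ne_eq, Submodule.finrank_eq_zero]
  have key : ∀ c, c ≠ 0 → Groth.L06.RootLines.Wt (phiBC φ κ) c ≠ ⊥ → _ := fun c hc hWc =>
    Groth.L06.RootLines.root_line_field (k := κ) (phiBC φ κ) (𝟙 (P κ (κ ⊗[K] A))) h1
      (iT := spB (phiBC φ κ)) h2 (Category.comp_id _).symm hc hWc
  obtain ⟨e1, e2, e3⟩ := key a ha ((hne a).2 h)
  obtain ⟨e4, -, -⟩ := key (-a) (neg_ne_zero.2 ha) e2
  exact ⟨hW a ▸ e1, hW (-a) ▸ e4, fun b hb hWb => e3 b hb ((hne b).2 hWb)⟩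

theorem mult_zero (hcent : ∀ (C : Type u) [CommRing C] [Algebra K C] (g : A →ₐ[K] C), TorCommutes φ g →
    ∃ χ : AddMonoidAlgebra K (Fin r → ℤ) →ₐ[K] C, g = χ.comp (φ : A →ₐ[K] AddMonoidAlgebra K (Fin r → ℤ)))
    (hsurj : Function.Surjective φ) (p : PrimeSpectrum K) : mult φ 0 p = r := by
  classical
  let F := p.asIdeal.ResidueField
  rw [mult_eq_finrank]
  let M := Fin r → ℤ
  -- the tangent vectors of the torus
  let d : Fin r → (AddMonoidAlgebra K M →ₗ[K] F) := fun i =>
    (Finsupp.lsum K fun m : M => LinearMap.toSpanSingleton K F ((m i : ℤ) : F)) ∘ₗ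
      (AddMonoidAlgebra.coeffLinearEquiv (M := M) (S := K) K).toLinearMap
  have hd : ∀ i (m : M) c, d i (AddMonoidAlgebra.single m c) = algebraMap K F c * ((m i : ℤ) : F) := fun i m c => by
    simp [d, AddMonoidAlgebra.coeffLinearEquiv, Algebra.smul_def]
  have hφc : ∀ b, Bialgebra.counitAlgHom K (AddMonoidAlgebra K M) (φ b) = Bialgebra.counitAlgHom K A b :=
    fun b => CoalgHomClass.counit_comp_apply φ b
  have hdt : ∀ i, IsTan (A := AddMonoidAlgebra K M) (d i) := fun i a b => by
    induction a using AddMonoidAlgebra.induction_linear with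
    | zero => simp
    | add u v hu hv => simp only [add_mul, map_add, hu, hv]; ring
    | single m c =>
      induction b using AddMonoidAlgebra.induction_linear with
      | zero => simp
      | add u v hu hv => simp only [mul_add, map_add, hu, hv]; ring
      | single n e =>
        rw [AddMonoidAlgebra.single_mul_single, hd, hd, hd, Bialgebra.counitAlgHom_apply,
          Bialgebra.counitAlgHom_apply, AddMonoidAlgebra.counit_single, AddMonoidAlgebra.counit_single]
        simp only [CommSemiring.counit_apply, map_mul]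
        rw [show (m + n) i = m i + n i from rfl, Int.cast_add]
        ring
  let w : Fin r → TanW φ 0 F := fun i => ⟨d i ∘ₗ (φ : A →ₐ[K] AddMonoidAlgebra K M).toLinearMap,
    fun b c => by
      show d i (φ (b * c)) = _ * d i (φ c) + _ * d i (φ b)
      rw [map_mul, hdt, hφc, hφc],
    fun n b hn => by
      show d i (φ (piece φ n b)) = 0
      have h0 := kills_of_torCommutes φ (torCommutes_torPt φ (AlgHom.id K (AddMonoidAlgebra K M))) hn b
      rw [show φ (piece φ n b) = 0 from h0, map_zero]⟩
  refine le_antisymm ?_ ?_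
  · -- every tangent vector of weight zero comes from the torus
    let ev : TanW φ 0 F →ₗ[F] (Fin r → F) :=
      { toFun := fun v i => v.1 (Function.surjInv hsurj (AddMonoidAlgebra.single (Pi.single i 1) 1))
        map_add' := fun _ _ => rfl
        map_smul' := fun _ _ => rfl }
    refine (LinearMap.finrank_le_finrank_of_injective (f := ev) ?_).trans (Module.finrank_fin_fun F).le
    refine (injective_iff_map_eq_zero _).2 fun v hv => Subtype.ext (LinearMap.ext fun b => ?_)
    have hv1 : v.1 1 = 0 := by simpa using v.2.1 1 1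
    let gl : A →ₗ[K] DualNumber F :=
      Algebra.linearMap K (DualNumber F) ∘ₗ (Bialgebra.counitAlgHom K A).toLinearMap +
        (TrivSqZeroExt.inrHom F F).restrictScalars K ∘ₗ v.1
    have hgf : ∀ c, TrivSqZeroExt.fst (gl c) = algebraMap K F (Bialgebra.counitAlgHom K A c) := fun c => by
      simp [gl, TrivSqZeroExt.algebraMap_eq_inl']
    have hgs : ∀ c, TrivSqZeroExt.snd (gl c) = v.1 c := fun c => by
      simp [gl, TrivSqZeroExt.algebraMap_eq_inl']
    let g : A →ₐ[K] DualNumber F := AlgHom.ofLinearMap gl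
      (TrivSqZeroExt.ext (by rw [hgf, map_one, map_one]; rfl) (by rw [hgs, hv1]; rfl))
      (fun b c => TrivSqZeroExt.ext (by rw [hgf, TrivSqZeroExt.fst_mul, hgf, hgf, map_mul, map_mul])
        (by rw [hgs, TrivSqZeroExt.snd_mul, hgf, hgf, hgs, hgs, v.2.1 b c, op_smul_eq_smul, smul_eq_mul, smul_eq_mul]))
    have hcom : TorCommutes φ g := by
      have hmd : (AddMonoidAlgebra.mapDomainBialgHom K (AddMonoidHom.id M)).comp φ = φ := by
        refine BialgHom.ext fun b => ?_
        show AddMonoidAlgebra.mapDomainBialgHom K (AddMonoidHom.id M) (φ b) = φ b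
        generalize φ b = x
        induction x using AddMonoidAlgebra.induction_linear with
        | zero => simp
        | add u v hu hv => simp only [map_add, hu, hv]
        | single i c => simp
      have h := torCommutes_of_pieces φ (AddMonoidHom.id M) g fun n b hn => by
        refine TrivSqZeroExt.ext ((hgf _).trans ?_) ((hgs _).trans ?_)
        · rw [RingHom.mem_ker.1 (counit_piece φ (show n ≠ 0 from hn) b), map_zero]; rfl
        · rw [v.2.2 n b (show n ≠ 0 from hn)]; rfl
      rwa [hmd] at h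
    obtain ⟨χ, hχ⟩ := hcent _ g hcom
    have hfac : ∀ c, v.1 c = TrivSqZeroExt.snd (χ (φ c)) := fun c => by
      exact (hgs c).symm.trans (congrArg TrivSqZeroExt.snd (DFunLike.congr_fun hχ c))
    have hfst : ∀ c, TrivSqZeroExt.fst (χ (φ c)) = algebraMap K F (Bialgebra.counitAlgHom K A c) := fun c => by
      exact (congrArg TrivSqZeroExt.fst (DFunLike.congr_fun hχ c)).symm.trans (hgf c)
    show v.1 b = 0
    rw [hfac]
    -- the character values of `χ` are one
    let σ : Multiplicative M →* DualNumber F := (χ : AddMonoidAlgebra K M →* DualNumber F).comp (AddMonoidAlgebra.of K M)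
    have hσ : σ = 1 := by
      refine MonoidHom.toAdditiveRight.injective (AddMonoidHom.ext fun m => ?_)
      have hall : ∀ i, σ (Multiplicative.ofAdd (Pi.single i 1)) = 1 := fun i => by
        obtain ⟨c, hc⟩ := hsurj (AddMonoidAlgebra.single (Pi.single i 1) 1)
        ext
        · show TrivSqZeroExt.fst (χ (AddMonoidAlgebra.single (Pi.single i 1) 1)) = _
          rw [← hc, hfst, ← hφc, hc]
          simp
        · show TrivSqZeroExt.snd (χ (AddMonoidAlgebra.single (Pi.single i 1) 1)) = _
          rw [← Function.surjInv_eq hsurj (AddMonoidAlgebra.single (Pi.single i 1) 1), ← hfac,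
            show v.1 (Function.surjInv hsurj (AddMonoidAlgebra.single (Pi.single i 1) 1)) = 0 from congrFun hv i]
          simp
      have h1 : MonoidHom.toAdditiveRight σ = 0 := by
        refine AddMonoidHom.functions_ext' _ _ _ fun i => AddMonoidHom.ext_int ?_
        simpa using congrArg Additive.ofMul (hall i)
      rw [h1]; rfl
    have hχε : ∀ z, χ z = algebraMap K (DualNumber F) (Bialgebra.counitAlgHom K (AddMonoidAlgebra K M) z) := fun z => by
      induction z using AddMonoidAlgebra.induction_linear with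
      | zero => simp
      | add p q hp hq => simp only [map_add, hp, hq]
      | single m c =>
        rw [show (AddMonoidAlgebra.single m c : AddMonoidAlgebra K M) = c • AddMonoidAlgebra.single m 1 by
          rw [AddMonoidAlgebra.smul_single, smul_eq_mul, _root_.mul_one], map_smul, map_smul, smul_eq_mul, map_mul,
          Algebra.smul_def, show χ (AddMonoidAlgebra.single m 1) = 1 from DFunLike.congr_fun hσ (Multiplicative.ofAdd m)]
        simp
    rw [hχε]
    simp [TrivSqZeroExt.algebraMap_eq_inl']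
  · haveI : Module.Finite F (OmegaW φ 0 →ₗ[K] F) := Module.Finite.equiv (LinearMap.liftBaseChangeEquiv F).symm
    haveI : Module.Finite F (TanW φ 0 F) := Module.Finite.equiv (tanEquiv φ 0)
    have hli : LinearIndependent F w := by
      refine Fintype.linearIndependent_iffₛ.2 fun f g' hfg i => ?_
      obtain ⟨c, hc⟩ := hsurj (AddMonoidAlgebra.single (Pi.single i 1) 1)
      have h := LinearMap.congr_fun (congrArg Subtype.val hfg) c
      simp only [AddSubmonoidClass.coe_finsetSum, LinearMap.sum_apply] at h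
      have hval : ∀ (g : Fin r → F) j, (g j • w j : TanW φ 0 F).1 c = if j = i then g j else 0 := fun g j => by
        show g j • d j (φ c) = _
        rw [hc, hd]
        simp [Pi.single_apply]
      simp only [hval, Finset.sum_ite_eq', Finset.mem_univ, if_true] at h
      exact h
    simpa using hli.fintype_card_le_finrank

end Groth.L14.Splitting
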