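import Groth.Agent.L14.Splitting.Local

/-!
# Splittings Zariski-locally on any base
-/

set_option autoImplicit false
set_option linter.unusedSectionVars false
set_option linter.style.haveILetI false
set_option linter.deprecated false
set_option backward.isDefEq.respectTransparency.types false
set_option maxHeartbeats 1000000

universe u

open CategoryTheory CategoryTheory.Limits MonoidalCategory CartesianMonoidalCategory MonObj AlgebraicGeometry
open WithConv TensorProduct
open Groth.L25.Bridge (P)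

noncomputable section

namespace Groth.L14.Splitting

theorem isMonHom_map {S P' : Scheme.{u}} (q : P' ⟶ S) {A B : Over S} [GrpObj A] [GrpObj B] (f : A ⟶ B)
    [IsMonHom f] : @IsMonHom _ _ _ (Red.bc q A) (Red.bc q B) _ _ ((Over.pullback q).map f) :=
  Luna.SemiRank.isMonHom_map' q f

/-- composite base changes of groups -/
def flatIso {S V W : Scheme.{u}} (k : W ⟶ V) (j : V ⟶ S) {d : W ⟶ S} (h : k ≫ j = d) (G : Over S) [GrpObj G] :
    Grp.mk (Red.bc k (Red.bc j G)) ≅ Grp.mk (Red.bc d G) :=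
  haveI : IsMonHom (ActBC.bcCompIso k j G h).hom := ActBC.bcCompIso_isMonHom (G := G) _ _ _
  Grp.mkIso' (ActBC.bcCompIso k j G h)

/-- composite base changes of the data -/
def RootData.flatten {S V W : Scheme.{u}} {r : ℕ} {k : W ⟶ V} {j : V ⟶ S} {d : W ⟶ S} (h : k ≫ j = d)
    {G T : Over S} [GrpObj G] [GrpObj T] {i : T ⟶ G} {U : Set W}
    (R : RootData (Red.bc k (Red.bc j G)) (Red.bc k (Red.bc j T))
      ((Over.pullback k).map ((Over.pullback j).map i)) r U) :
    RootData (Red.bc d G) (Red.bc d T) ((Over.pullback d).map i) r U :=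
  R.transport (flatIso k j h G) (flatIso k j h T) (ActBC.bcCompIso_hom_naturality k j h i).symm

variable {r : ℕ}

theorem isMaximalTorus_torHom {K A : Type u} [CommRing K] [CommRing A] [HopfAlgebra K A]
    {φ : A →ₐc[K] AddMonoidAlgebra K (Fin r → ℤ)} (hG : Red.IsReductive (P K A))
    (hT : Red.IsMaximalTorus (spB φ)) : Red.IsMaximalTorus (torHom φ) := by
  haveI := hG.1
  let e : Red.DS (Spec (CommRingCat.of K)) (Fin r → ℤ) ≅ P K (AddMonoidAlgebra K (Fin r → ℤ)) :=
    (Grp.forget _).mapIso (tIso K r)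
  haveI : IsMonHom e.hom := (tIso K r).hom.hom.isMonHom_hom
  rw [torHom_eq]
  exact Groth.L08.Borel.isMaximalTorus_iso_comp hT e

section Compat

variable {K : Type u} [CommRing K] {A : Type u} [CommRing A] [HopfAlgebra K A]
  (φ : A →ₐc[K] AddMonoidAlgebra K (Fin r → ℤ)) (L : Type u) [CommRing L] [Algebra K L]

variable (K r) in
/-- base change of the split torus, in coordinates -/
def dsBC : Grp.mk (Red.DS (Spec (CommRingCat.of L)) (Fin r → ℤ)) ≅
    Grp.mk (Red.bc (Spec.map (CommRingCat.ofHom (algebraMap K L))) (Red.DS (Spec (CommRingCat.of K)) (Fin r → ℤ))) :=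
  tIso L r ≪≫ Groth.L25.Bridge.mapIso (dBase K L r) ≪≫
    (Groth.L25.Bridge.bcIso K (AddMonoidAlgebra K (Fin r → ℤ)) L).symm ≪≫
      (Over.pullback (Spec.map (CommRingCat.ofHom (algebraMap K L)))).mapGrp.mapIso (tIso K r).symm

theorem mapIso_dBase : (Groth.L25.Bridge.mapIso (dBase K L r)).hom.hom.hom ≫
    spB (A := L ⊗[K] A) (B := L ⊗[K] AddMonoidAlgebra K (Fin r → ℤ))
      (Bialgebra.TensorProduct.map (BialgHom.id L L) φ) = spB (phiBC φ L) :=
  (spB_phiBC L φ).symm

theorem dsBC_torHom : (dsBC r K L).hom.hom.hom ≫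
    (Over.pullback (Spec.map (CommRingCat.ofHom (algebraMap K L)))).map (torHom φ) =
      torHom (phiBC φ L) ≫ (Groth.L25.Bridge.bcIso K A L).inv.hom.hom := by
  let θ := Spec.map (CommRingCat.ofHom (algebraMap K L))
  let a : Red.bc θ (P K (AddMonoidAlgebra K (Fin r → ℤ))) ≅ P L (L ⊗[K] AddMonoidAlgebra K (Fin r → ℤ)) :=
    (Grp.forget _).mapIso (Groth.L25.Bridge.bcIso K (AddMonoidAlgebra K (Fin r → ℤ)) L)
  let b : Red.bc θ (P K A) ≅ P L (L ⊗[K] A) := (Grp.forget _).mapIso (Groth.L25.Bridge.bcIso K A L)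
  have h : (Over.pullback θ).map (spB φ) ≫ b.hom =
      a.hom ≫ spB (Bialgebra.TensorProduct.map (BialgHom.id L L) φ) := bcIso_natural' L φ
  have e2 : (tIso K r).inv.hom.hom ≫ torHom φ = spB φ := by
    rw [torHom_eq, ← Category.assoc,
      show (tIso K r).inv.hom.hom ≫ (tIso K r).hom.hom.hom = 𝟙 _ from congr($((tIso K r).inv_hom_id).hom.hom),
      Category.id_comp]
  show ((tIso L r).hom.hom.hom ≫ (Groth.L25.Bridge.mapIso (dBase K L r)).hom.hom.hom ≫ a.inv ≫
    (Over.pullback θ).map (tIso K r).inv.hom.hom) ≫ (Over.pullback θ).map (torHom φ) = torHom (phiBC φ L) ≫ b.inv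
  have e3 : a.inv ≫ (Over.pullback θ).map (spB φ) =
      spB (Bialgebra.TensorProduct.map (BialgHom.id L L) φ) ≫ b.inv := by
    rw [Iso.inv_comp_eq, ← Category.assoc, Iso.eq_comp_inv]
    exact h
  simp only [Category.assoc]
  rw [← Functor.map_comp, e2, e3, reassoc_of% (mapIso_dBase φ L), torHom_eq (phiBC φ L), Category.assoc]

end Compat

section Affine

variable {K : Type u} [CommRing K]

local notation "SK" => Spec (CommRingCat.of K)

theorem exists_coords_data {G T : Over SK} [GrpObj G] [GrpObj T] (hG : Red.IsReductive G) (i : T ⟶ G)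
    (hT : Red.IsMaximalTorus i) (e : Grp.mk T ≅ Grp.mk (Red.DS SK (Fin r → ℤ))) :
    ∃ (A : Type u) (_ : CommRing A) (_ : HopfAlgebra K A) (eG : Grp.mk G ≅ Grp.mk (P K A))
      (φ : A →ₐc[K] AddMonoidAlgebra K (Fin r → ℤ)), torHom φ = e.inv.hom.hom ≫ i ≫ eG.hom.hom.hom ∧
      Red.IsReductive (P K A) ∧ Red.IsMaximalTorus (torHom φ) ∧
      Algebra.FormallySmooth K A ∧ Algebra.FinitePresentation K A := by
  haveI := hG.1; haveI := hT.1
  haveI : IsAffine G.left := isAffine_of_isAffineHom G.hom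
  obtain ⟨A, _, _, eG, φ, hφ⟩ := exists_coords G T i e
  have hG' := isReductive_congr eG hG
  let jG : G ≅ P K A := (Grp.forget _).mapIso eG
  haveI : IsMonHom jG.hom := eG.hom.hom.isMonHom_hom
  let jT : Red.DS SK (Fin r → ℤ) ≅ T := (Grp.forget _).mapIso e.symm
  haveI : IsMonHom jT.hom := e.inv.hom.isMonHom_hom
  have h := Groth.L08.Borel.isMaximalTorus_iso_comp (Groth.L24.TorusField.isMaximalTorus_comp_iso hT jG) jT
  obtain ⟨h1, h2⟩ := smooth_coords hG'.2.1
  refine ⟨A, inferInstance, inferInstance, eG, φ, hφ, hG', ?_, h1, h2⟩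
  rw [hφ]
  exact h

/-- over a local ring a split maximal torus gives a splitting -/
theorem exists_rootData_local [IsLocalRing K] {G T : Over SK} [GrpObj G] [GrpObj T] (hG : Red.IsReductive G)
    (i : T ⟶ G) (hT : Red.IsMaximalTorus i) (e : Grp.mk T ≅ Grp.mk (Red.DS SK (Fin r → ℤ))) :
    Nonempty (RootData G T i r (Set.univ : Set SK)) := by
  obtain ⟨A, _, _, eG, φ, hφ, hG', hT', _, _⟩ := exists_coords_data hG i hT e
  obtain ⟨Φ, hR⟩ := exists_constRoots_local φ
  obtain ⟨U, hp, ⟨R⟩⟩ := exists_rootData φ hR hG' hT' (IsLocalRing.closedPoint K)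
  have hU : (U : Set SK) = Set.univ := Set.eq_univ_of_forall fun q =>
    (IsLocalRing.specializes_closedPoint q).mem_open U.2 hp
  rw [hU] at R
  refine ⟨R.transport eG.symm e.symm ?_⟩
  show e.inv.hom.hom ≫ i = torHom φ ≫ eG.inv.hom.hom
  rw [hφ, Category.assoc, Category.assoc,
    show eG.hom.hom.hom ≫ eG.inv.hom.hom = 𝟙 _ from congrArg (fun f => f.hom.hom) eG.hom_inv_id, Category.comp_id]

/-- near a point of an affine base a split maximal torus gives a splitting -/
theorem exists_rootData_affine {G T : Over SK} [GrpObj G] [GrpObj T] (hG : Red.IsReductive G)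
    (i : T ⟶ G) (hT : Red.IsMaximalTorus i) (e : Grp.mk T ≅ Grp.mk (Red.DS SK (Fin r → ℤ))) (p : SK) :
    ∃ (V : Scheme.{u}) (j : V ⟶ SK) (_ : IsOpenImmersion j), p ∈ Set.range j ∧
      Nonempty (RootData (Red.bc j G) (Red.bc j T) ((Over.pullback j).map i) r (Set.univ : Set V)) := by
  obtain ⟨A, _, _, eG, φ, hφ, hG', hT', _, _⟩ := exists_coords_data hG i hT e
  obtain ⟨Φ, f, hfp, h1, h2⟩ := exists_roots_nhd φ p
  let L := Localization.Away f
  let θ : Spec (CommRingCat.of L) ⟶ SK := Spec.map (CommRingCat.ofHom (algebraMap K L))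
  haveI : IsOpenImmersion θ := IsOpenImmersion.of_isLocalization f
  obtain ⟨hGL, hTL⟩ := phiBC_data L φ hG' (isMaximalTorus_spB hT')
  obtain ⟨hs1, hs2⟩ := smooth_coords hGL.2.1
  haveI := hs1; haveI := hs2
  have hR := constRoots_baseChange φ L (IsLocalization.Away.algebraMap_isUnit f) h1 h2
  obtain ⟨q, hq⟩ : ∃ q : PrimeSpectrum L, q.comap (algebraMap K L) = p := by
    have : p ∈ Set.range (PrimeSpectrum.comap (algebraMap K L)) := by
      rw [PrimeSpectrum.localization_away_comap_range L f]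
      exact hfp
    exact this
  obtain ⟨U, hqU, ⟨R⟩⟩ := exists_rootData (phiBC φ L) hR hGL (isMaximalTorus_torHom hGL hTL) q
  haveI := hT.1
  haveI := isMonHom_map θ i
  -- back to the group
  haveI : IsMonHom (torHom φ) := isMonHom_torHom φ
  let εG : Grp.mk (P L (L ⊗[K] A)) ≅ Grp.mk (Red.bc θ G) :=
    (Groth.L25.Bridge.bcIso K A L).symm ≪≫ (Over.pullback θ).mapGrp.mapIso eG.symm
  let εT : Grp.mk (Red.DS (Spec (CommRingCat.of L)) (Fin r → ℤ)) ≅ Grp.mk (Red.bc θ T) :=
    dsBC r K L ≪≫ (Over.pullback θ).mapGrp.mapIso e.symm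
  have hcomp : εT.hom.hom.hom ≫ (Over.pullback θ).map i = torHom (phiBC φ L) ≫ εG.hom.hom.hom := by
    show ((dsBC r K L).hom.hom.hom ≫ (Over.pullback θ).map e.inv.hom.hom) ≫ _ =
      torHom (phiBC φ L) ≫ (Groth.L25.Bridge.bcIso K A L).inv.hom.hom ≫ (Over.pullback θ).map eG.inv.hom.hom
    have e1 : e.inv.hom.hom ≫ i = torHom φ ≫ eG.inv.hom.hom := by
      rw [hφ, Category.assoc, Category.assoc,
        show eG.hom.hom.hom ≫ eG.inv.hom.hom = 𝟙 _ from congrArg (fun f => f.hom.hom) eG.hom_inv_id,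
        Category.comp_id]
    rw [Category.assoc, ← Functor.map_comp, e1, Functor.map_comp, ← Category.assoc, dsBC_torHom φ L]
    exact Category.assoc _ _ _
  let R' := (R.transport εG εT hcomp).bc U.ι (fun v => v.2)
  refine ⟨U.toScheme, U.ι ≫ θ, inferInstance, ⟨⟨q, hqU⟩, ?_⟩, ⟨R'.flatten rfl⟩⟩
  exact hq

end Affine

/-- Zariski-locally a split maximal torus gives a splitting. -/
theorem exists_rootData_nhd {S : Scheme.{u}} {G T : Over S} [GrpObj G] [GrpObj T] (hG : Red.IsReductive G)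
    (i : T ⟶ G) (hT : Red.IsMaximalTorus i) (e : Grp.mk T ≅ Grp.mk (Red.DS S (Fin r → ℤ))) (s : S) :
    ∃ U : S.Opens, s ∈ U ∧
      Nonempty (RootData (Red.bc U.ι G) (Red.bc U.ι T) ((Over.pullback U.ι).map i) r (Set.univ : Set U.toScheme)) := by
  obtain ⟨_, ⟨W, hW, rfl⟩, hsW, -⟩ :=
    S.isBasis_affineOpens.exists_subset_of_mem_open (Set.mem_univ s) isOpen_univ
  let j₀ : Spec Γ(S, W) ⟶ S := hW.fromSpec
  obtain ⟨p, hp⟩ : s ∈ Set.range j₀ := by rw [hW.range_fromSpec]; exact hsW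
  haveI := hT.1; haveI := hG.1; haveI := hG.2.1
  haveI := isMonHom_map j₀ i
  let e₀ : Grp.mk (Red.bc j₀ T) ≅ Grp.mk (Red.DS (Spec Γ(S, W)) (Fin r → ℤ)) :=
    (Over.pullback j₀).mapGrp.mapIso e ≪≫ Grp.mkIso' (Groth.L25.SplitSub.bcDS j₀)
  obtain ⟨V, j, _, hj, ⟨R⟩⟩ := exists_rootData_affine (K := Γ(S, W)) (isReductive_bc hG j₀)
    ((Over.pullback j₀).map i) (Groth.L08.Borel.isMaximalTorus_bc hT j₀) e₀ p
  let d : V ⟶ S := j ≫ j₀
  obtain ⟨v, hv⟩ := hj
  let k : d.opensRange.toScheme ⟶ V := d.isoOpensRange.inv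
  have hk : k ≫ d = d.opensRange.ι := d.isoOpensRange_inv_comp
  haveI := isMonHom_map d i
  refine ⟨d.opensRange, ⟨v, ?_⟩, ⟨((R.flatten (rfl : j ≫ j₀ = d)).bc k fun _ => trivial).flatten hk⟩⟩
  show j₀ (j v) = s
  rw [hv, hp]

end Groth.L14.Splitting
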