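import Groth.Agent.L14.Splitting.RootGroup
import Groth.Agent.L14.RankOne.Pts
import Groth.Agent.L25.Bridge.Spec
import Groth.Agent.L25.DSPts
import Groth.Agent.L25.Bridge.TorsionLift

/-!
# Points of an affine group as algebra maps into global sections, and the root homomorphism
-/

set_option autoImplicit false
set_option linter.unusedSectionVars false
set_option linter.style.haveILetI false
set_option backward.isDefEq.respectTransparency.types false
set_option maxHeartbeats 1000000

universe u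

open CategoryTheory CategoryTheory.Limits MonoidalCategory CartesianMonoidalCategory MonObj AlgebraicGeometry
open WithConv
open Groth.L25 (GaPts.gaFn_injective)
open Groth.L25.Bridge (P)

noncomputable section

namespace Groth.L14.Splitting

variable {K : Type u} [CommRing K] {A : Type u} [CommRing A] [HopfAlgebra K A]

local notation "SK" => Spec (CommRingCat.of K)

/-- Global sections as an algebra over the base. -/
instance algΓ (X : Over SK) : Algebra K Γ(X.left, ⊤) :=
  ((Scheme.ΓSpecIso (CommRingCat.of K)).inv ≫ X.hom.appTop).hom.toAlgebra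

theorem appTop_algebraMap {X X' : Over SK} (f : X' ⟶ X) (c : K) :
    f.left.appTop (algebraMap K Γ(X.left, ⊤) c) = algebraMap K Γ(X'.left, ⊤) c := by
  show (X.hom.appTop ≫ f.left.appTop) _ = X'.hom.appTop _
  rw [← Scheme.Hom.comp_appTop, Over.w f]

/-- The map of global sections of a morphism. -/
def pull {X X' : Over SK} (f : X' ⟶ X) : Γ(X.left, ⊤) →ₐ[K] Γ(X'.left, ⊤) :=
  { f.left.appTop.hom with commutes' := appTop_algebraMap f }

theorem pull_apply {X X' : Over SK} (f : X' ⟶ X) (b : Γ(X.left, ⊤)) : pull f b = f.left.appTop b := rfl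

/-- The canonical morphism to the spectrum of global sections. -/
def toΓ (X : Over SK) : X ⟶ (Spec Γ(X.left, ⊤)).asOver (Spec (CommRingCat.of K)) :=
  Over.homMk X.left.toSpecΓ (by
    show X.left.toSpecΓ ≫ Spec.map (CommRingCat.ofHom (algebraMap K Γ(X.left, ⊤))) = X.hom
    rw [show CommRingCat.ofHom (algebraMap K Γ(X.left, ⊤)) =
      (Scheme.ΓSpecIso (CommRingCat.of K)).inv ≫ X.hom.appTop from rfl, Spec.map_comp, ← Category.assoc,
      ← Scheme.toSpecΓ_naturality, Category.assoc, toSpecΓ_SpecMap_ΓSpecIso_inv, Category.comp_id])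

/-- The point of an algebra map into global sections. -/
def ofFn {X : Over SK} (g : Groth.L25.Dyn.Pt (k := K) A Γ(X.left, ⊤)) : X ⟶ P K A :=
  toΓ X ≫ Spec.mapMulEquiv g

theorem ofFn_mul {X : Over SK} (g g' : Groth.L25.Dyn.Pt (k := K) A Γ(X.left, ⊤)) :
    ofFn (g * g') = ofFn g * ofFn g' := by
  rw [ofFn, map_mul, MonObj.comp_mul]
  rfl

theorem ofFn_one {X : Over SK} : ofFn (1 : Groth.L25.Dyn.Pt (k := K) A Γ(X.left, ⊤)) = 1 := by
  rw [ofFn, map_one, MonObj.comp_one]

theorem ofFn_inv {X : Over SK} (g : Groth.L25.Dyn.Pt (k := K) A Γ(X.left, ⊤)) : ofFn g⁻¹ = (ofFn g)⁻¹ :=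
  map_inv (MonoidHom.mk' (ofFn : Groth.L25.Dyn.Pt (k := K) A Γ(X.left, ⊤) → (X ⟶ P K A)) ofFn_mul) g

theorem ofFn_left {X : Over SK} (g : Groth.L25.Dyn.Pt (k := K) A Γ(X.left, ⊤)) :
    (ofFn g).left = X.left.toSpecΓ ≫ Spec.map (CommRingCat.ofHom g.ofConv.toRingHom) := rfl

theorem comp_ofFn {X X' : Over SK} (f : X' ⟶ X) (g : Groth.L25.Dyn.Pt (k := K) A Γ(X.left, ⊤)) :
    f ≫ ofFn g = ofFn (toConv ((pull f).comp g.ofConv)) := by
  refine Over.OverMorphism.ext ?_
  rw [Over.comp_left, ofFn_left, ofFn_left]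
  show (f.left ≫ X.left.toSpecΓ ≫ Spec.map (CommRingCat.ofHom g.ofConv.toRingHom) : X'.left ⟶ Spec (CommRingCat.of A)) = _
  erw [← Category.assoc, Scheme.toSpecΓ_naturality, Category.assoc, ← Spec.map_comp]
  rfl

/-- The algebra map of a point. -/
def val {X : Over SK} (x : X ⟶ P K A) : Groth.L25.Dyn.Pt (k := K) A Γ(X.left, ⊤) :=
  toConv
    { ((Scheme.ΓSpecIso (CommRingCat.of A)).inv ≫ x.left.appTop).hom with
      commutes' := fun c => by
        show x.left.appTop ((Scheme.ΓSpecIso (CommRingCat.of A)).inv (algebraMap K A c)) = _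
        have h := congrArg (fun φ => φ.hom c)
          (Scheme.ΓSpecIso_inv_naturality (CommRingCat.ofHom (algebraMap K A)))
        simp only [CommRingCat.hom_comp, RingHom.comp_apply, CommRingCat.hom_ofHom] at h
        rw [show (Scheme.ΓSpecIso (CommRingCat.of A)).inv (algebraMap K A c) = _ from h]
        show ((P K A).hom.appTop ≫ x.left.appTop) _ = X.hom.appTop _
        rw [← Scheme.Hom.comp_appTop, Over.w x]
        rfl }

theorem ofFn_val {X : Over SK} (x : X ⟶ P K A) : ofFn (val x) = x := by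
  refine Over.OverMorphism.ext ?_
  rw [ofFn_left]
  show X.left.toSpecΓ ≫ Spec.map ((Scheme.ΓSpecIso (CommRingCat.of A)).inv ≫ x.left.appTop) = x.left
  erw [Spec.map_comp, ← Category.assoc, ← Scheme.toSpecΓ_naturality, Category.assoc]
  exact (congrArg (x.left ≫ ·) (toSpecΓ_SpecMap_ΓSpecIso_inv (CommRingCat.of A))).trans (Category.comp_id _)

theorem val_ofFn {X : Over SK} (g : Groth.L25.Dyn.Pt (k := K) A Γ(X.left, ⊤)) : val (ofFn g) = g := by
  refine WithConv.ext (AlgHom.ext fun b => ?_)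
  have h := ΓSpecIso_inv_ΓSpec_adjunction_homEquiv (X := X.left) (CommRingCat.ofHom g.ofConv.toRingHom)
  exact congrArg (fun φ => φ.hom b) h

theorem val_injective {X : Over SK} : Function.Injective (val : (X ⟶ P K A) → _) := fun x y h => by
  rw [← ofFn_val x, h, ofFn_val]

theorem val_comp {X X' : Over SK} (f : X' ⟶ X) (x : X ⟶ P K A) :
    val (f ≫ x) = toConv ((pull f).comp (val x).ofConv) := by
  conv_lhs => rw [← ofFn_val x, comp_ofFn, val_ofFn]

theorem val_mul {X : Over SK} (x y : X ⟶ P K A) : val (x * y) = val x * val y := by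
  conv_lhs => rw [← ofFn_val x, ← ofFn_val y, ← ofFn_mul, val_ofFn]

namespace RootVec

variable {r : ℕ} {φ : A →ₐc[K] AddMonoidAlgebra K (Fin r → ℤ)} {nu : (Fin r → ℤ) →+ ℤ} {a : Fin r → ℤ}
  (V : RootVec φ nu a) [Algebra.FormallySmooth K A]

theorem pt_natural {C D : Type u} [CommRing C] [Algebra K C] [CommRing D] [Algebra K D] (f : C →ₐ[K] D) (s : C) :
    toConv (f.comp (V.pt s).ofConv) = V.pt (f s) := by
  refine WithConv.ext (AlgHom.ext fun b => ?_)
  show f (Polynomial.aeval s (V.u b)) = Polynomial.aeval (f s) (V.u b)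
  rw [Polynomial.aeval_algHom_apply]

/-- The root homomorphism. -/
def hom : Red.Ga SK ⟶ P K A := ofFn (V.pt (Red.gaFn (𝟙 (Red.Ga SK))))

theorem comp_hom {X : Over SK} (t : X ⟶ Red.Ga SK) : t ≫ V.hom = ofFn (V.pt (Red.gaFn t)) := by
  rw [hom, comp_ofFn, V.pt_natural, pull_apply, ← Groth.L25.GaPts.gaFn_comp, Category.comp_id]

instance isMonHom_hom : IsMonHom V.hom :=
  Groth.L25.Bridge.isMonHom_of_mul V.hom fun Y s t => by
    rw [V.comp_hom, V.comp_hom, V.comp_hom, Groth.L25.GaPts.gaFn_mul, V.pt_add, ofFn_mul]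

/-- The coordinate. -/
def retr : P K A ⟶ Red.Ga SK :=
  Groth.L25.GaPts.ptOfElt ((val (𝟙 (P K A))).ofConv V.x)

theorem comp_retr {X : Over SK} (x : X ⟶ P K A) : Red.gaFn (x ≫ V.retr) = (val x).ofConv V.x := by
  rw [retr, Groth.L25.GaPts.gaFn_comp, Groth.L25.GaPts.gaFn_ptOfElt, ← pull_apply]
  show ((toConv ((pull x).comp (val (𝟙 (P K A))).ofConv) :
    Groth.L25.Dyn.Pt (k := K) A Γ(X.left, ⊤))).ofConv V.x = _
  rw [← val_comp, Category.comp_id]

theorem hom_retr : V.hom ≫ V.retr = 𝟙 _ := by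
  refine Groth.L25.GaPts.gaFn_injective ?_
  show Red.gaFn _ = Red.gaFn _
  rw [V.comp_retr, hom, val_ofFn, V.pt_x]

instance isClosedImmersion_hom : IsClosedImmersion V.hom.left := by
  haveI : IsAffine (Red.Ga SK).left := by
    haveI : IsAffine Red.GaZ.left := inferInstanceAs (IsAffine (Spec _))
    haveI : IsAffineHom Red.GaZ.hom := inferInstance
    haveI : IsAffineHom (Red.Ga SK).hom := MorphismProperty.pullback_snd _ _ this
    exact isAffine_of_isAffineHom (Red.Ga SK).hom
  have h : V.hom.left ≫ V.retr.left = 𝟙 _ := by rw [← Over.comp_left, V.hom_retr]; rfl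
  haveI : IsClosedImmersion (V.hom.left ≫ V.retr.left) := by rw [h]; infer_instance
  haveI : IsAffine (P K A).left := inferInstanceAs (IsAffine (Spec _))
  haveI : IsAffineHom V.retr.left := inferInstance
  exact IsClosedImmersion.of_comp V.hom.left V.retr.left

theorem exists_of_kills {X : Over SK} (x : X ⟶ P K A) (hx : ∀ b ∈ V.J, (val x).ofConv b = 0) :
    x = (x ≫ V.retr) ≫ V.hom := by
  refine val_injective ?_
  rw [V.comp_hom, val_ofFn, V.comp_retr]
  exact V.eq_pt hx

end RootVec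

/-! ### the torus -/

section Torus

variable {r : ℕ}

/-- The algebra map of a character. -/
def charAlg {X : Over SK} (t : X ⟶ Red.DS SK (Fin r → ℤ)) : AddMonoidAlgebra K (Fin r → ℤ) →ₐ[K] Γ(X.left, ⊤) :=
  AddMonoidAlgebra.lift K Γ(X.left, ⊤) (Fin r → ℤ) (Groth.L25.DSPts.char t)

theorem charAlg_single {X : Over SK} (t : X ⟶ Red.DS SK (Fin r → ℤ)) (m : Fin r → ℤ) (c : K) :
    charAlg t (AddMonoidAlgebra.single m c) = c • Groth.L25.DSPts.char t (Multiplicative.ofAdd m) :=
  AddMonoidAlgebra.lift_single _ _ _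

/-- The homomorphism of a bialgebra map into the group algebra. -/
def torHom (φ : A →ₐc[K] AddMonoidAlgebra K (Fin r → ℤ)) : Red.DS SK (Fin r → ℤ) ⟶ P K A :=
  ofFn (torPt φ (charAlg (𝟙 _)))

theorem comp_torHom (φ : A →ₐc[K] AddMonoidAlgebra K (Fin r → ℤ)) {X : Over SK} (t : X ⟶ Red.DS SK (Fin r → ℤ)) :
    t ≫ torHom φ = ofFn (torPt φ (charAlg t)) := by
  rw [torHom, comp_ofFn]
  congr 2
  show (pull t).comp ((charAlg (𝟙 _)).comp (φ : A →ₐ[K] AddMonoidAlgebra K (Fin r → ℤ))) = _
  rw [← AlgHom.comp_assoc]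
  congr 1
  refine AddMonoidAlgebra.algHom_ext (fun m => ?_) (Subsingleton.elim _ _)
  show pull t (charAlg (𝟙 _) (AddMonoidAlgebra.single m 1)) = charAlg t (AddMonoidAlgebra.single m 1)
  rw [charAlg_single, charAlg_single, one_smul, one_smul, pull_apply, ← Groth.L25.DSPts.char_comp, Category.comp_id]

end Torus

end Groth.L14.Splitting
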