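import Groth.Agent.L14.Splitting.SplitFibre
import Groth.Agent.L14.TypeR.BorelUnip
import Groth.Agent.L14.TypeR.Borel
import Groth.Agent.L14.AlmostSimple.Torus
import Groth.Agent.S3952

/-!
# Borel subgroups of a geometric fibre containing a split torus are defined over the base field
-/

set_option autoImplicit false
set_option linter.unusedSectionVars false
set_option linter.style.haveILetI false
set_option linter.deprecated false
set_option backward.isDefEq.respectTransparency.types false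
set_option maxHeartbeats 1000000

universe u

open CategoryTheory CategoryTheory.Limits MonoidalCategory CartesianMonoidalCategory MonObj AlgebraicGeometry

noncomputable section

namespace Groth.L14.Splitting

/-- products of factoring points factor -/
theorem prodMap_fac {S : Scheme.{u}} {G B X : Over S} [GrpObj G] [GrpObj B] (i : B ⟶ G) [IsMonHom i] :
    ∀ (n : ℕ) (f : Fin n → (X ⟶ G)), (∀ k, ∃ v, v ≫ i = f k) → ∃ v, v ≫ i = RedSub.prodMap X n f := by
  intro n
  induction n with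
  | zero => exact fun f _ => ⟨1, MonObj.one_comp i⟩
  | succ n ih =>
    intro f hf
    obtain ⟨v₀, h₀⟩ := hf 0
    obtain ⟨v, hv⟩ := ih (fun k => f k.succ) fun k => hf _
    refine ⟨(fst X (RedSub.pow X n) ≫ v₀) * (snd X (RedSub.pow X n) ≫ v), ?_⟩
    erw [MonObj.mul_comp, Category.assoc, Category.assoc, h₀, hv]
    rfl

theorem exists_one_tuple {S : Scheme.{u}} {G X Y : Over S} [GrpObj G] [GrpObj Y] :
    ∀ (n : ℕ) (u : Fin n → (Y ⟶ G)), (∀ j, IsMonHom (u j)) → ∃ p : X ⟶ RedSub.pow Y n, p ≫ RedSub.prodMap Y n u = 1 := by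
  intro n
  induction n with
  | zero => exact fun u _ => ⟨toUnit _, MonObj.comp_one _⟩
  | succ n ih =>
    intro u hu
    obtain ⟨p, hp⟩ := ih (fun j => u j.succ) fun j => hu _
    haveI := hu 0
    refine ⟨lift 1 p, ?_⟩
    show lift 1 p ≫ ((fst _ _ ≫ u 0) * (snd _ _ ≫ _)) = 1
    rw [MonObj.comp_mul, lift_fst_assoc, lift_snd_assoc, hp, MonObj.one_comp, _root_.one_mul]

theorem exists_single_tuple {S : Scheme.{u}} {G X Y : Over S} [GrpObj G] [GrpObj Y] (x : X ⟶ Y) :
    ∀ (n : ℕ) (u : Fin n → (Y ⟶ G)), (∀ j, IsMonHom (u j)) → ∀ k, ∃ p : X ⟶ RedSub.pow Y n,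
      p ≫ RedSub.prodMap Y n u = x ≫ u k := by
  intro n
  induction n with
  | zero => exact fun _ _ k => k.elim0
  | succ n ih =>
    intro u hu k
    haveI := hu 0
    induction k using Fin.cases with
    | zero =>
      obtain ⟨p, hp⟩ := exists_one_tuple (X := X) n (fun j => u j.succ) fun j => hu _
      refine ⟨lift x p, ?_⟩
      show lift x p ≫ ((fst _ _ ≫ u 0) * (snd _ _ ≫ _)) = _
      rw [MonObj.comp_mul, lift_fst_assoc, lift_snd_assoc, hp, _root_.mul_one]
    | succ k =>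
      obtain ⟨p, hp⟩ := ih (fun j => u j.succ) (fun j => hu _) k
      refine ⟨lift 1 p, ?_⟩
      show lift 1 p ≫ ((fst _ _ ≫ u 0) * (snd _ _ ≫ _)) = _
      rw [MonObj.comp_mul, lift_fst_assoc, lift_snd_assoc, hp, MonObj.one_comp, _root_.one_mul]

variable {k : Type u} [Field k] {G : Over (Spec (CommRingCat.of k))} [GrpObj G]

/-- Borel subgroups of a geometric fibre containing the split torus come from the base field. -/
theorem exists_borel_of_geom (D : Red.SplitRed G) (s : ↥(Spec (CommRingCat.of k)))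
    {B' : Over (Spec (CommRingCat.of (AlgebraicClosure ((Spec (CommRingCat.of k)).residueField s))))} [GrpObj B']
    (iB' : B' ⟶ Red.geomFibre s G) (hB' : Red.IsBorelOver (AlgebraicClosure ((Spec (CommRingCat.of k)).residueField s)) iB')
    (t' : Red.geomFibre s D.T ⟶ B') (ht' : t' ≫ iB' = (Over.pullback (Red.geomPt s)).map D.i) :
    ∃ (B : Over (Spec (CommRingCat.of k))) (_ : GrpObj B) (iB : B ⟶ G) (t : D.T ⟶ B) (e : Red.geomFibre s B ≅ B'),
      Red.IsBorel iB ∧ t ≫ iB = D.i ∧ e.hom ≫ iB' = (Over.pullback (Red.geomPt s)).map iB := by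
  classical
  obtain ⟨hm, hcl, hsm, hcon, hsol, hmax⟩ := hB'
  haveI := hm; haveI := hcl; haveI := hsm; haveI := hcon
  let DΩ := splitFibre D s
  let R' : Set D.idx := {a | ∃ v, v ≫ iB' = DΩ.u a}
  haveI : IsAffineHom (Red.geomFibre s G).hom := DΩ.reductive.1
  haveI : QuasiCompact B'.hom := by rw [← Over.w iB']; infer_instance
  obtain ⟨s'⟩ : Nonempty ↥(Spec (CommRingCat.of (AlgebraicClosure ((Spec (CommRingCat.of k)).residueField s)))) :=
    inferInstanceAs (Nonempty (PrimeSpectrum _))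
  have hsol' : Red.IsSolvableGrp (Red.geomFibre s' B') := Groth.L14.Chev.Cell.isSolvableGrp_bc _ hsol
  obtain ⟨b, hb⟩ := Groth.L14.TypeR.exists_base_of_solvable (D := DΩ) (H := B') (h := iB') inferInstance
    (Groth.L14.TypeR.hasConnectedFibres_field B') t' ht' (R' := R') (fun a => Iff.rfl) s' hsol'
  obtain ⟨m', e', he'⟩ := Groth.L14.Chev.Cell.exists_enum (D := DΩ) R'
  obtain ⟨φ, hφ⟩ := Groth.L14.TypeR.exists_borel_iso (D := DΩ) (h := iB') inferInstance
    (Groth.L14.TypeR.hasConnectedFibres_field B') t' ht' (R' := R') (fun a => Iff.rfl) hb he'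
  obtain ⟨m, e, he⟩ := Groth.L14.Chev.Cell.exists_enum (D := D) (RedSub.posRoots D.P b)
  obtain ⟨-, B, _, iB, eB, hB, hiB⟩ := Groth.Agent.S3952.result D b e he
  haveI := hB.1
  have hu : ∀ a ∈ RedSub.posRoots D.P b, ∃ v, v ≫ iB = D.u a := fun a ha => by
    obtain ⟨j, rfl⟩ : a ∈ Set.range e := by rw [he.2]; exact ha
    obtain ⟨p, hp⟩ := exists_single_tuple (𝟙 (Red.Ga _)) m (fun l => D.u (e l)) (fun l => (D.rootHom _).1) j
    refine ⟨lift 1 p ≫ eB.hom, ?_⟩
    rw [Category.assoc, hiB]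
    show lift 1 p ≫ ((fst _ _ ≫ D.i) * (snd _ _ ≫ _)) = _
    haveI := D.maximalTorus.1
    rw [MonObj.comp_mul, lift_fst_assoc, lift_snd_assoc, hp, MonObj.one_comp, _root_.one_mul, Category.id_comp]
  obtain ⟨p, hp⟩ := exists_one_tuple (X := D.T) m (fun l => D.u (e l)) fun l => (D.rootHom _).1
  let t : D.T ⟶ B := lift (𝟙 _) p ≫ eB.hom
  have ht : t ≫ iB = D.i := by
    rw [Category.assoc, hiB]
    show lift (𝟙 _) p ≫ ((fst _ _ ≫ D.i) * (snd _ _ ≫ _)) = _
    rw [MonObj.comp_mul, lift_fst_assoc, lift_snd_assoc, hp, Category.id_comp, _root_.mul_one]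
  obtain ⟨hbm, hbcl, hbsm, hbcon, hbsol, -⟩ := hB.2.2.2 s
  haveI := hbm
  obtain ⟨v, hv⟩ := prodMap_fac ((Over.pullback (Red.geomPt s)).map iB) m' (fun l => DΩ.u (e' l)) fun l => by
    obtain ⟨v, hv⟩ := hu (e' l) (hb (he'.2 ▸ Set.mem_range_self l))
    refine ⟨(Groth.L14.Luna.SemiRank.bcGa (Red.geomPt s)).inv ≫ (Over.pullback (Red.geomPt s)).map v, ?_⟩
    rw [Category.assoc, ← Functor.map_comp, hv]
    rfl
  let f : B' ⟶ Red.geomFibre s B :=
    φ.inv ≫ ((fst _ _ ≫ (Over.pullback (Red.geomPt s)).map t) * (snd _ _ ≫ v))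
  have hf : f ≫ (Over.pullback (Red.geomPt s)).map iB = iB' := by
    show (φ.inv ≫ _) ≫ _ = _
    rw [Category.assoc]
    erw [MonObj.mul_comp, Category.assoc, Category.assoc, hv, ← Functor.map_comp, ht]
    rw [Iso.inv_comp_eq, hφ]
    rfl
  haveI : IsIso f := hmax _ _ f hbcl hbsm hbcon hbsol hf
  exact ⟨B, inferInstance, iB, t, (asIso f).symm, hB, ht, (IsIso.inv_comp_eq f).2 hf.symm⟩

end Groth.L14.Splitting
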