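import Groth.Agent.L14.Splitting.AffPts
import Groth.Agent.L25.Dyn.Open

/-!
# The big cell of a weight line is open
-/

set_option autoImplicit false
set_option linter.unusedSectionVars false
set_option linter.style.haveILetI false
set_option backward.isDefEq.respectTransparency.types false
set_option maxHeartbeats 1000000

universe u

open CategoryTheory CategoryTheory.Limits MonoidalCategory CartesianMonoidalCategory MonObj AlgebraicGeometry
open WithConv TensorProduct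
open Groth.L25.Bridge (P)
open Groth.L25.Dyn (Pt pmap pr Hom hom_pr sum_pr jU jPlus fstPt sndPt mulHom)

noncomputable section

namespace Groth.L14.Splitting

variable {K : Type u} [CommRing K] {A : Type u} [CommRing A] [HopfAlgebra K A] {r : ℕ}
  (φ : A →ₐc[K] AddMonoidAlgebra K (Fin r → ℤ))

local notation "SK" => Spec (CommRingCat.of K)

theorem torPt_mul {C : Type u} [CommRing C] [Algebra K C] (χ χ' : AddMonoidAlgebra K (Fin r → ℤ) →ₐ[K] C) :
    torPt φ χ * torPt φ χ' = torPt φ (toConv χ * toConv χ').ofConv :=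
  WithConv.ext (AlgHom.convMul_comp_bialgHom_distrib (toConv χ) (toConv χ') φ).symm

theorem torPt_comm {C : Type u} [CommRing C] [Algebra K C] (χ χ' : AddMonoidAlgebra K (Fin r → ℤ) →ₐ[K] C) :
    torPt φ χ * torPt φ χ' = torPt φ χ' * torPt φ χ := by
  rw [torPt_mul, torPt_mul, mul_comm]

theorem torCommutes_torPt {C : Type u} [CommRing C] [Algebra K C] (χ : AddMonoidAlgebra K (Fin r → ℤ) →ₐ[K] C) :
    TorCommutes φ (torPt φ χ).ofConv := fun D _ _ ψ χ' => by
  show _ = _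
  have h : pmap (k := K) (A := A) ψ (torPt φ χ) = torPt φ (ψ.comp χ) := rfl
  rw [toConv_ofConv, h]
  exact torPt_comm φ χ' (ψ.comp χ)

/-- a point of the torus is killed by the non-zero degrees of every one-parameter subgroup of the torus -/
theorem torPt_hom {C : Type u} [CommRing C] [Algebra K C] (χ : AddMonoidAlgebra K (Fin r → ℤ) →ₐ[K] C)
    (nu : (Fin r → ℤ) →+ ℤ) {n : ℤ} (hn : n ≠ 0) {b : A} (hb : Hom (lamW φ nu) n b) :
    (torPt φ χ).ofConv b = 0 := by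
  rw [← show pr (lamW φ nu) n b = b by rw [hb.pr_eq, if_pos rfl], pr_eq_sum, map_sum]
  refine Finset.sum_eq_zero fun m hm => kills_of_torCommutes φ (torCommutes_torPt φ χ) (fun e => hn ?_) b
  rw [← (Finset.mem_filter.1 hm).2, e, map_zero]

theorem lamW_neg (nu : (Fin r → ℤ) →+ ℤ) :
    (lamW φ (-nu) : A →ₐ[K] LaurentPolynomial K) = Dyn.negParam K A (lamW φ nu) := by
  refine AlgHom.ext fun b => ?_
  show AddMonoidAlgebra.mapDomainBialgHom K (-nu) (φ b) =
    LaurentPolynomial.invert (AddMonoidAlgebra.mapDomainBialgHom K nu (φ b))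
  generalize φ b = x
  induction x using AddMonoidAlgebra.induction_linear with
  | zero => simp
  | add p q hp hq => simp only [map_add, hp, hq]
  | single m c =>
    rw [AddMonoidAlgebra.mapDomainBialgHom_single, AddMonoidAlgebra.mapDomainBialgHom_single]
    ext t
    rw [LaurentPolynomial.invert_apply, AddMonoidAlgebra.coeff_single, AddMonoidAlgebra.coeff_single,
      Finsupp.single_apply, Finsupp.single_apply, AddMonoidHom.neg_apply]
    split_ifs <;> first | rfl | (exfalso; omega)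

/-- A rank one situation: the positive and negative root lines, and no weight of degree zero off the torus. -/
structure LineData (nu : (Fin r → ℤ) →+ ℤ) (a : Fin r → ℤ) : Type u where
  pos : RootVec φ nu a
  neg : RootVec φ (-nu) (-a)
  line : ∀ m b, nu m = 0 → m ≠ 0 → piece φ m b = 0
  cent : ∀ (C : Type u) [CommRing C] [Algebra K C] (g : A →ₐ[K] C), TorCommutes φ g →
    ∃ χ : AddMonoidAlgebra K (Fin r → ℤ) →ₐ[K] C, g = χ.comp (φ : A →ₐ[K] AddMonoidAlgebra K (Fin r → ℤ))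
  surj : Function.Surjective φ

variable {φ} {nu : (Fin r → ℤ) →+ ℤ} {a : Fin r → ℤ} (L : LineData φ nu a)

namespace LineData

theorem torPt_injective {C : Type u} [CommRing C] [Algebra K C]
    {χ χ' : AddMonoidAlgebra K (Fin r → ℤ) →ₐ[K] C} (L : LineData φ nu a) (h : torPt φ χ = torPt φ χ') : χ = χ' := by
  refine AlgHom.ext fun x => ?_
  obtain ⟨b, rfl⟩ := L.surj x
  exact DFunLike.congr_fun (congrArg WithConv.ofConv h) b

variable [Algebra.FormallySmooth K A]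

/-- decomposition of a point with a limit -/
theorem exists_decomp {C : Type u} [CommRing C] [Algebra K C] (p : Pt (k := K) A C)
    (hp : ∀ b ∈ jPlus (lamW φ nu), p.ofConv b = 0) :
    ∃ (χ : AddMonoidAlgebra K (Fin r → ℤ) →ₐ[K] C) (x : C), p = torPt φ χ * L.pos.pt x := by
  obtain ⟨z, -, hzc, hu⟩ := Groth.L25.Dyn.exists_limit (lamW φ nu) ((Groth.L25.Dyn.represents_jPlus _ _ _).1 hp)
  have hz : TorCommutes φ z.ofConv := by
    have hmd : (AddMonoidAlgebra.mapDomainBialgHom K (AddMonoidHom.id (Fin r → ℤ))).comp φ = φ := by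
      refine BialgHom.ext fun b => ?_
      show AddMonoidAlgebra.mapDomainBialgHom K (AddMonoidHom.id (Fin r → ℤ)) (φ b) = φ b
      generalize φ b = x
      induction x using AddMonoidAlgebra.induction_linear with
      | zero => simp
      | add u v hu hv => simp only [map_add, hu, hv]
      | single i c => simp
    have h := torCommutes_of_pieces φ (AddMonoidHom.id (Fin r → ℤ)) z.ofConv fun m b hm => by
      by_cases h0 : nu m = 0
      · rw [L.line m b h0 hm, map_zero]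
      · exact (Groth.L25.Dyn.commutes_iff _ _).1 hzc _ h0 _ (hom_piece φ nu m b)
    rwa [hmd] at h
  obtain ⟨χ, hχ⟩ := L.cent C _ hz
  have hzχ : z = torPt φ χ := WithConv.ext hχ
  have hk := (Groth.L25.Dyn.represents_jU (lamW φ nu) C (z⁻¹ * p).ofConv).2 hu
  refine ⟨χ, (z⁻¹ * p).ofConv L.pos.x, ?_⟩
  rw [← L.pos.eq_pt (g := z⁻¹ * p) hk, ← hzχ, mul_inv_cancel_left]

theorem decomp_unique {C : Type u} [CommRing C] [Algebra K C] {χ χ' : AddMonoidAlgebra K (Fin r → ℤ) →ₐ[K] C}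
    {x x' : C} (h : torPt φ χ * L.pos.pt x = torPt φ χ' * L.pos.pt x') : χ = χ' ∧ x = x' := by
  suffices hχ : torPt φ χ = torPt φ χ' by
    obtain rfl := L.torPt_injective hχ
    refine ⟨rfl, ?_⟩
    rw [← L.pos.pt_x x, ← L.pos.pt_x x', mul_left_cancel h]
  have hw : (torPt φ χ')⁻¹ * torPt φ χ = L.pos.pt x' * (L.pos.pt x)⁻¹ := by
    rw [eq_mul_inv_iff_mul_eq, _root_.mul_assoc, h, inv_mul_cancel_left]
  obtain ⟨χ₀, hχ₀⟩ : ∃ χ₀, (torPt φ χ')⁻¹ * torPt φ χ = torPt φ χ₀ := by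
    let T : Pt (k := K) (AddMonoidAlgebra K (Fin r → ℤ)) C →* Pt (k := K) A C :=
      MonoidHom.mk' (fun c => torPt φ c.ofConv) fun c c' => (torPt_mul φ c.ofConv c'.ofConv).symm
    exact ⟨((toConv χ')⁻¹ * toConv χ).ofConv, ((map_mul T _ _).trans (congrArg (· * _) (map_inv T _))).symm⟩
  have hU : Dyn.LimIsOne K A (lamW φ nu) C (L.pos.pt x' * (L.pos.pt x)⁻¹).ofConv :=
    Groth.L25.Dyn.LimIsOne.mul _ ((Groth.L25.Dyn.represents_jU _ _ _).1 (L.pos.pt_kills x'))
      (Groth.L25.Dyn.LimIsOne.inv _ ((Groth.L25.Dyn.represents_jU _ _ _).1 (L.pos.pt_kills x)))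
  rw [← hw, hχ₀] at hU
  have h1 : torPt φ χ₀ = 1 := by
    refine WithConv.ext (AlgHom.toLinearMap_injective (LinearMap.ext fun b =>
      Groth.L25.Dyn.eq_of_hom (lamW φ nu) (fun n y hy => ?_) b))
    show (torPt φ χ₀).ofConv y = algebraMap K C (Coalgebra.counit (R := K) y)
    by_cases hn : n = 0
    · subst hn
      exact ((Groth.L25.Dyn.limIsOne_iff _ _).1 hU).2 y hy
    · rw [torPt_hom φ χ₀ nu hn hy, Groth.L25.Dyn.counit_eq_zero _ hy hn, map_zero]
  rw [h1] at hχ₀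
  exact (inv_mul_eq_one.1 hχ₀).symm

theorem torPt_mem_jPlus {C : Type u} [CommRing C] [Algebra K C] (χ : AddMonoidAlgebra K (Fin r → ℤ) →ₐ[K] C)
    (x : C) : ∀ b ∈ jPlus (lamW φ nu), (torPt φ χ * L.pos.pt x).ofConv b = 0 := by
  refine (Groth.L25.Dyn.represents_jPlus _ _ _).2 (Groth.L25.Dyn.LimExists.mul _
    ((Groth.L25.Dyn.limExists_iff _ _).2 fun n hn b hb => torPt_hom φ χ nu hn.ne hb)
    ((Groth.L25.Dyn.limExists_iff _ _).2 fun n hn b hb => L.pos.pt_kills x b (L.pos.mem_of_neg hn hb)))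

local notation "JM" => jU (lamW φ (-nu))
local notation "JP" => jPlus (lamW φ nu)
local notation "CellObj" => (Red.Ga SK ⊗ Red.DS SK (Fin r → ℤ)) ⊗ Red.Ga SK

/-- The cell map. -/
def cell : (Red.Ga SK ⊗ Red.DS SK (Fin r → ℤ)) ⊗ Red.Ga SK ⟶ P K A :=
  ((L.neg.hom ⊗ₘ torHom φ) ⊗ₘ L.pos.hom) ≫ (μ[P K A] ▷ P K A) ≫ μ[P K A]

theorem comp_cell {X : Over SK} (y : X ⟶ Red.Ga SK) (t : X ⟶ Red.DS SK (Fin r → ℤ)) (x : X ⟶ Red.Ga SK) :
    lift (lift y t) x ≫ L.cell =
      ofFn (L.neg.pt (Red.gaFn y) * (torPt φ (charAlg t) * L.pos.pt (Red.gaFn x))) := by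
  rw [ofFn_mul, ofFn_mul, ← L.neg.comp_hom, ← L.pos.comp_hom, ← comp_torHom, ← _root_.mul_assoc, cell,
    lift_map_assoc, lift_map, lift_whiskerRight_assoc, Hom.mul_def, Hom.mul_def]

theorem pair_eq {X : Over SK} (q : X ⟶ CellObj) :
    q = lift (lift (q ≫ fst _ _ ≫ fst _ _) (q ≫ fst _ _ ≫ snd _ _)) (q ≫ snd _ _) := by
  ext <;> simp

theorem isOpenImmersion_cell [Algebra.FinitePresentation K A] : IsOpenImmersion L.cell.left := by
  classical
  haveI := Groth.L25.Dyn.isOpenImmersion_mulHom (lamW φ nu) (lamW φ (-nu)) (lamW_neg φ nu)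
    (Groth.L25.Dyn.represents_jPlus _) (Groth.L25.Dyn.represents_jU _)
    (Groth.L25.Dyn.fg_jPlus _).2 (Groth.L25.Dyn.fg_jPlus _).1 fun J hJ g ψ _ => ?_
  swap
  · constructor
    · obtain ⟨g₀, hg₀⟩ := Algebra.FormallySmooth.exists_lift J ⟨2, by rw [pow_two]; exact hJ⟩ (fstPt ψ).ofConv
      obtain ⟨u₀, hu₀, hue⟩ := Groth.L25.Dyn.exists_unit_lift (lamW φ (-nu)) hJ (toConv g₀) (by
        rw [hg₀]; exact (Groth.L25.Dyn.represents_jU _ _ _).1 (Groth.L25.Dyn.fst_kills ψ))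
      exact ⟨u₀, (Groth.L25.Dyn.represents_jU _ _ _).2 hu₀, hue.trans (WithConv.ext hg₀)⟩
    · obtain ⟨g₀, hg₀⟩ := Algebra.FormallySmooth.exists_lift J ⟨2, by rw [pow_two]; exact hJ⟩ (sndPt ψ).ofConv
      obtain ⟨p₀, hp₀, hpe⟩ := Groth.L25.Dyn.exists_negKill_lift (lamW φ nu) hJ (toConv g₀) (by
        rw [hg₀]; exact (Groth.L25.Dyn.kills_jPlus _ _).1 (Groth.L25.Dyn.snd_kills ψ))
      exact ⟨p₀, (Groth.L25.Dyn.kills_jPlus _ _).2 hp₀, hpe.trans (WithConv.ext hg₀)⟩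
  -- the source is the spectrum of the cell algebra
  let T := (A ⧸ JM) ⊗[K] (A ⧸ JP)
  let Q : Over SK := (Spec (CommRingCat.of T)).asOver (Spec (CommRingCat.of K))
  let pts : ∀ {X : Over SK}, (T →ₐ[K] Γ(X.left, ⊤)) → (X ⟶ Q) := fun {X} g =>
    toΓ X ≫ (Spec.map (CommRingCat.ofHom g.toRingHom)).asOver _
  let mm : Q ⟶ P K A := Spec.mapMulEquiv (toConv (mulHom (k := K) JM JP))
  haveI hmm : IsOpenImmersion mm.left := ‹IsOpenImmersion (Spec.map _)›
  haveI : Mono mm := Over.mono_of_mono_left mm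
  have hpts : ∀ {X : Over SK} (g : T →ₐ[K] Γ(X.left, ⊤)), pts g ≫ mm = ofFn (fstPt g * sndPt g) := fun {X} g => by
    rw [← Groth.L25.Dyn.comp_mulHom]
    refine Over.OverMorphism.ext ?_
    rw [ofFn_left]
    show (X.left.toSpecΓ ≫ Spec.map (CommRingCat.ofHom g.toRingHom)) ≫
      Spec.map (CommRingCat.ofHom (mulHom (k := K) JM JP).toRingHom) = _
    erw [Category.assoc, ← Spec.map_comp]
    rfl
  -- the universal points
  let c₀ := L.neg.pt (Red.gaFn ((fst _ _ : CellObj ⟶ _) ≫ fst _ _))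
  let c₁ := torPt φ (charAlg ((fst _ _ : CellObj ⟶ _) ≫ snd _ _)) * L.pos.pt (Red.gaFn (snd _ _ : CellObj ⟶ _))
  obtain ⟨g₀, hg1, hg2⟩ := Groth.L25.Dyn.exists_pair (Jm := JM) (Jp := JP) c₀ c₁
    (L.neg.pt_kills _) (L.torPt_mem_jPlus _ _)
  let Φ : CellObj ⟶ Q := pts g₀
  have hΦ : L.cell = Φ ≫ mm := by
    rw [hpts, hg1, hg2, ← L.comp_cell, ← comp_lift, lift_fst_snd, Category.comp_id, lift_fst_snd, Category.id_comp]
  let iota : T →ₐ[K] Γ(Q.left, ⊤) :=
    { (Scheme.ΓSpecIso (CommRingCat.of T)).inv.hom with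
      commutes' := fun c => (congrArg (fun φ => φ.hom c)
        (Scheme.ΓSpecIso_inv_naturality (CommRingCat.ofHom (algebraMap K T)))) }
  let y : Γ(Q.left, ⊤) := (fstPt iota).ofConv L.neg.x
  have hy : fstPt iota = L.neg.pt y := L.neg.eq_pt (Groth.L25.Dyn.fst_kills iota)
  obtain ⟨χ, x, hp⟩ := L.exists_decomp (sndPt iota) (Groth.L25.Dyn.snd_kills iota)
  let tQ : Q ⟶ Red.DS SK (Fin r → ℤ) :=
    Groth.L25.DSPts.pt ((χ : AddMonoidAlgebra K (Fin r → ℤ) →* Γ(Q.left, ⊤)).comp (AddMonoidAlgebra.of K _))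
  have htQ : charAlg tQ = χ := by
    refine AddMonoidAlgebra.algHom_ext (fun m => ?_) (Subsingleton.elim _ _)
    rw [charAlg_single, one_smul, Groth.L25.DSPts.char_pt]
    rfl
  let yQ : Q ⟶ Red.Ga SK := Groth.L25.GaPts.ptOfElt y
  let xQ : Q ⟶ Red.Ga SK := Groth.L25.GaPts.ptOfElt x
  let Ψ : Q ⟶ CellObj := lift (lift yQ tQ) xQ
  have hid : pts iota = 𝟙 Q := by
    refine Over.OverMorphism.ext ?_
    exact toSpecΓ_SpecMap_ΓSpecIso_inv (CommRingCat.of T)
  have h1 : Ψ ≫ Φ = 𝟙 Q := by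
    rw [← cancel_mono mm, Category.assoc, ← hΦ, L.comp_cell, Groth.L25.GaPts.gaFn_ptOfElt,
      Groth.L25.GaPts.gaFn_ptOfElt, htQ, ← hp, ← hy, ← hpts, hid]
  have hmono : ∀ {X : Over SK} (p q : X ⟶ CellObj), p ≫ L.cell = q ≫ L.cell → p = q := by
    intro X p q h
    rw [pair_eq p, pair_eq q, L.comp_cell, L.comp_cell] at h
    have h' := congrArg val h
    rw [val_ofFn, val_ofFn] at h'
    set y₁ := p ≫ fst _ _ ≫ fst _ _
    set t₁ := p ≫ fst _ _ ≫ snd _ _
    set x₁ := p ≫ snd _ _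
    set y₂ := q ≫ fst _ _ ≫ fst _ _
    set t₂ := q ≫ fst _ _ ≫ snd _ _
    set x₂ := q ≫ snd _ _
    obtain ⟨g, hg, hg'⟩ := Groth.L25.Dyn.exists_pair (Jm := JM) (Jp := JP) (L.neg.pt (Red.gaFn y₁))
      (torPt φ (charAlg t₁) * L.pos.pt (Red.gaFn x₁)) (L.neg.pt_kills _) (L.torPt_mem_jPlus _ _)
    obtain ⟨g', hgg, hgg'⟩ := Groth.L25.Dyn.exists_pair (Jm := JM) (Jp := JP) (L.neg.pt (Red.gaFn y₂))
      (torPt φ (charAlg t₂) * L.pos.pt (Red.gaFn x₂)) (L.neg.pt_kills _) (L.torPt_mem_jPlus _ _)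
    have he : g = g' := Groth.L25.Dyn.epi_mulHom (lamW φ nu) (lamW φ (-nu)) (lamW_neg φ nu)
      (Groth.L25.Dyn.represents_jPlus _) (Groth.L25.Dyn.represents_jU _) (by
        have e1 := Groth.L25.Dyn.comp_mulHom g
        have e2 := Groth.L25.Dyn.comp_mulHom g'
        rw [hg, hg', h', ← hgg, ← hgg', ← e2] at e1
        exact congrArg WithConv.ofConv e1)
    subst he
    have hy' : Red.gaFn y₁ = Red.gaFn y₂ := by
      rw [← L.neg.pt_x (Red.gaFn y₁), ← hg, hgg, L.neg.pt_x]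
    obtain ⟨hc, hx'⟩ := L.decomp_unique (hg'.symm.trans hgg')
    have ht : t₁ = t₂ := Groth.L25.DSPts.char_injective (MonoidHom.ext fun m => by
      have e := DFunLike.congr_fun hc (AddMonoidAlgebra.single m.toAdd 1)
      rwa [charAlg_single, charAlg_single, one_smul, one_smul] at e)
    rw [pair_eq p, pair_eq q]
    show lift (lift y₁ t₁) x₁ = lift (lift y₂ t₂) x₂
    rw [show y₁ = y₂ from Groth.L25.GaPts.gaFn_injective hy', ht,
      show x₁ = x₂ from Groth.L25.GaPts.gaFn_injective hx']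
  have h2 : Φ ≫ Ψ = 𝟙 CellObj := by
    refine hmono _ _ ?_
    rw [hΦ, ← Category.assoc, Category.assoc Φ, h1, Category.comp_id, Category.id_comp]
  haveI : IsIso Φ := ⟨Ψ, h2, h1⟩
  haveI : IsIso Φ.left := inferInstanceAs (IsIso ((Over.forget _).map Φ))
  rw [hΦ, Over.comp_left]
  infer_instance

end LineData

end Groth.L14.Splitting
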