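import Groth.Agent.L14.Splitting.Fibre
import Groth.Agent.L25.SplitSub.Image
import Groth.Agent.L25.RedField.Subtorus
import Groth.Agent.S5550
import Groth.Agent.L08.TorusWeights.Radical

/-!
# The centralizer of the kernel torus of a root, in coordinates
-/

set_option autoImplicit false
set_option linter.unusedSectionVars false
set_option linter.style.haveILetI false
set_option linter.deprecated false
set_option backward.isDefEq.respectTransparency.types false
set_option maxHeartbeats 1000000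

universe u

open CategoryTheory CategoryTheory.Limits MonoidalCategory CartesianMonoidalCategory MonObj AlgebraicGeometry
open WithConv TensorProduct
open Groth.L25.Bridge (P)

noncomputable section

namespace Groth.L14.Splitting

variable {K : Type u} [CommRing K] {A : Type u} [CommRing A] [HopfAlgebra K A] {r : ℕ}

local notation "SK" => Spec (CommRingCat.of K)

/-- an algebra as functions on its spectrum -/
def iotaSpec (C : Type u) [CommRing C] [Algebra K C] :
    C →ₐ[K] Γ(((Spec (CommRingCat.of C)).asOver (Spec (CommRingCat.of K))).left, ⊤) :=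
  { (Scheme.ΓSpecIso (CommRingCat.of C)).inv.hom with
    commutes' := fun c => (congrArg (fun φ => φ.hom c)
      (Scheme.ΓSpecIso_inv_naturality (CommRingCat.ofHom (algebraMap K C)))) }

theorem iotaSpec_bijective (C : Type u) [CommRing C] [Algebra K C] : Function.Bijective (iotaSpec (K := K) C) :=
  ConcreteCategory.bijective_of_isIso (Scheme.ΓSpecIso (CommRingCat.of C)).inv

/-- the point of an algebra map -/
def specPt {C : Type u} [CommRing C] [Algebra K C] (g : A →ₐ[K] C) :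
    (Spec (CommRingCat.of C)).asOver (Spec (CommRingCat.of K)) ⟶ P K A :=
  ofFn (toConv ((iotaSpec C).comp g))

theorem commute_torHom {φ : A →ₐc[K] AddMonoidAlgebra K (Fin r → ℤ)} {C : Type u} [CommRing C] [Algebra K C]
    {g : A →ₐ[K] C} (hg : TorCommutes φ g) {X : Over SK}
    (p : X ⟶ (Spec (CommRingCat.of C)).asOver (Spec (CommRingCat.of K))) (t : X ⟶ Red.DS SK (Fin r → ℤ)) :
    (p ≫ specPt g) * (t ≫ torHom φ) = (t ≫ torHom φ) * (p ≫ specPt g) := by
  rw [comp_torHom, specPt, comp_ofFn, ← ofFn_mul, ← ofFn_mul]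
  exact congrArg ofFn (hg Γ(X.left, ⊤) ((pull p).comp (iotaSpec C)) (charAlg t)).eq.symm

theorem torCommutes_of_commute {φ : A →ₐc[K] AddMonoidAlgebra K (Fin r → ℤ)} {C : Type u} [CommRing C]
    [Algebra K C] {g : A →ₐ[K] C}
    (h : ∀ (X : Over SK) (p : X ⟶ (Spec (CommRingCat.of C)).asOver (Spec (CommRingCat.of K)))
      (t : X ⟶ Red.DS SK (Fin r → ℤ)), (p ≫ specPt g) * (t ≫ torHom φ) = (t ≫ torHom φ) * (p ≫ specPt g)) :
    TorCommutes φ g := by
  intro D _ _ ψ χ
  let p : (Spec (CommRingCat.of D)).asOver (Spec (CommRingCat.of K)) ⟶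
      (Spec (CommRingCat.of C)).asOver (Spec (CommRingCat.of K)) :=
    (Spec.map (CommRingCat.ofHom ψ.toRingHom)).asOver _
  let t : (Spec (CommRingCat.of D)).asOver (Spec (CommRingCat.of K)) ⟶ Red.DS SK (Fin r → ℤ) :=
    Groth.L25.DSPts.pt ((((iotaSpec D).comp χ : AddMonoidAlgebra K (Fin r → ℤ) →ₐ[K] _) :
      AddMonoidAlgebra K (Fin r → ℤ) →* _).comp (AddMonoidAlgebra.of K _))
  have ht : charAlg t = (iotaSpec D).comp χ := by
    refine AddMonoidAlgebra.algHom_ext (fun m => ?_) (Subsingleton.elim _ _)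
    rw [charAlg_single, one_smul, Groth.L25.DSPts.char_pt]
    rfl
  have hp : (pull p).comp (iotaSpec C) = (iotaSpec D).comp ψ := AlgHom.ext fun c =>
    (congrArg (fun φ => φ.hom c) (Scheme.ΓSpecIso_inv_naturality (CommRingCat.ofHom ψ.toRingHom))).symm
  have e := congrArg val (h _ p t)
  rw [val_mul, val_mul, comp_torHom, specPt, comp_ofFn, val_ofFn, val_ofFn, ht] at e
  have e1 : (toConv ((pull p).comp (toConv ((iotaSpec C).comp g)).ofConv) : Groth.L25.Dyn.Pt (k := K) A _) =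
      Groth.L25.Dyn.pmap (iotaSpec D) (Groth.L25.Dyn.pmap ψ (toConv g)) := by
    refine WithConv.ext ?_
    show (pull p).comp ((iotaSpec C).comp g) = (iotaSpec D).comp (ψ.comp g)
    rw [← AlgHom.comp_assoc, hp, AlgHom.comp_assoc]
  have e2 : torPt φ ((iotaSpec D).comp χ) = Groth.L25.Dyn.pmap (iotaSpec D) (torPt φ χ) := rfl
  rw [e1, e2, ← map_mul, ← map_mul] at e
  have hinj : Function.Injective (Groth.L25.Dyn.pmap (k := K) (A := A) (iotaSpec (K := K) D)) := fun a b hab =>
    WithConv.ext (AlgHom.ext fun c => (iotaSpec_bijective D).1 (DFunLike.congr_fun (congrArg WithConv.ofConv hab) c))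
  exact (hinj e).symm

theorem charAlg_id_injective : Function.Injective (charAlg (𝟙 (Red.DS SK (Fin r → ℤ)))) := by
  intro x y h
  haveI : IsIso (Groth.L25.DiagIso.rho K (Fin r → ℤ)) := (Groth.L25.DiagIso.isoOver K (Fin r → ℤ)).isIso_inv
  rw [charAlg_id] at h
  have h1 : Function.Injective (pull (Groth.L25.DiagIso.rho K (Fin r → ℤ))) := fun u v huv => by
    have e : ∀ w, pull (inv (Groth.L25.DiagIso.rho K (Fin r → ℤ))) (pull (Groth.L25.DiagIso.rho K (Fin r → ℤ)) w) = w :=
      fun w => by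
        rw [pull_apply, pull_apply, ← GmPts.appTop_comp_apply, ← Over.comp_left, IsIso.inv_hom_id]
        rfl
    rw [← e u, huv, e]
  have h2 := h1 h
  exact (AddMonoidAlgebra.toMultiplicativeBialgEquiv K K (Fin r → ℤ)).injective
    ((ConcreteCategory.bijective_of_isIso (Scheme.ΓSpecIso (CommRingCat.of
      (MonoidAlgebra K (Multiplicative (Fin r → ℤ))))).inv).1 h2)

theorem torHom_injective : Function.Injective (torHom (A := A) (K := K) (r := r)) := fun φ φ' h => by
  have h' := congrArg val h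
  rw [torHom, torHom, val_ofFn, val_ofFn] at h'
  exact BialgHom.ext fun b => charAlg_id_injective (DFunLike.congr_fun (congrArg WithConv.ofConv h') b)

theorem mono_torHom {φ : A →ₐc[K] AddMonoidAlgebra K (Fin r → ℤ)} (hs : Function.Surjective φ) :
    Mono (torHom φ) := ⟨fun a b e => Groth.L25.DSPts.char_injective (MonoidHom.ext fun m => by
  rw [comp_torHom, comp_torHom] at e
  have e' := congrArg val e
  rw [val_ofFn, val_ofFn] at e'
  obtain ⟨c, hc⟩ := hs (AddMonoidAlgebra.single m.toAdd 1)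
  have := DFunLike.congr_fun (congrArg WithConv.ofConv e') c
  change charAlg a (φ c) = charAlg b (φ c) at this
  rwa [hc, charAlg_single, charAlg_single, one_smul, one_smul] at this)⟩

theorem torHom_comp {B : Type u} [CommRing B] [HopfAlgebra K B] (φ : B →ₐc[K] AddMonoidAlgebra K (Fin r → ℤ))
    (ψ : A →ₐc[K] B) : torHom φ ≫ spB ψ = torHom (φ.comp ψ) := by
  rw [torHom_eq, torHom_eq, Category.assoc]
  congr 1
  exact spB_comp ψ φ

theorem exists_bialgHom {B : Type u} [CommRing B] [HopfAlgebra K B] (f : P K B ⟶ P K A) [IsMonHom f] :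
    ∃ ψ : A →ₐc[K] B, spB ψ = f := by
  let F := (hopfSpec.fullyFaithful (R := CommRingCat.of K)).preimage
    (X := Opposite.op (CommHopfAlgCat.of K B)) (Y := Opposite.op (CommHopfAlgCat.of K A)) (Grp.ofHom f : Grp.mk (P K B) ⟶ Grp.mk (P K A))
  exact ⟨F.unop.hom, congrArg (fun m => m.hom.hom) ((hopfSpec.fullyFaithful (R := CommRingCat.of K)).map_preimage
    (X := Opposite.op (CommHopfAlgCat.of K B)) (Y := Opposite.op (CommHopfAlgCat.of K A)) (Grp.ofHom f : Grp.mk (P K B) ⟶ Grp.mk (P K A)))⟩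

theorem smooth_coords (hG : Smooth (P K A).hom) : Algebra.FormallySmooth K A ∧ Algebra.FinitePresentation K A := by
  haveI := hG
  exact formallySmooth_of_smooth (G := P K A) (Iso.refl _)

theorem surjective_of_isClosedImmersion {B : Type u} [CommRing B] [HopfAlgebra K B] (ψ : A →ₐc[K] B)
    (h : IsClosedImmersion (spB ψ).left) : Function.Surjective ψ := by
  have h4 : Function.Surjective
      (Spec.map (CommRingCat.ofHom (ψ : A →ₐ[K] B).toRingHom)).appTop :=
    (@IsClosedImmersion.isAffine_surjective_of_isAffine _ _ inferInstance _ h).2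
  intro y
  obtain ⟨a, ha⟩ := h4 ((Scheme.ΓSpecIso (CommRingCat.of B)).inv y)
  refine ⟨(Scheme.ΓSpecIso (CommRingCat.of A)).hom a, ?_⟩
  have e2 := congrArg (fun f => f.hom a) (Scheme.ΓSpecIso_naturality
    (CommRingCat.ofHom (ψ : A →ₐ[K] B).toRingHom))
  simp only [CommRingCat.hom_comp, RingHom.comp_apply] at e2
  rw [ha] at e2
  refine e2.symm.trans ?_
  exact ConcreteCategory.congr_hom (Scheme.ΓSpecIso (CommRingCat.of B)).inv_hom_id y

theorem cent_P {φ : A →ₐc[K] AddMonoidAlgebra K (Fin r → ℤ)} (hG : Red.IsReductive (P K A))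
    (hT : Red.IsMaximalTorus (torHom φ)) (C : Type u) [CommRing C] [Algebra K C] (g : A →ₐ[K] C)
    (hg : TorCommutes φ g) :
    ∃ χ : AddMonoidAlgebra K (Fin r → ℤ) →ₐ[K] C, g = χ.comp (φ : A →ₐ[K] AddMonoidAlgebra K (Fin r → ℤ)) :=
  cent_of_centralizer (G := P K A) (T := Red.DS SK (Fin r → ℤ)) (i := torHom φ) (e := Iso.refl _) (Iso.refl _)
    (selfCentral hG hT) (by show _ = 𝟙 _ ≫ _ ≫ 𝟙 _; rw [Category.id_comp, Category.comp_id]) C g hg

theorem surjective_P {φ : A →ₐc[K] AddMonoidAlgebra K (Fin r → ℤ)} (hT : Red.IsMaximalTorus (torHom φ)) :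
    Function.Surjective φ := by
  haveI := hT.2.1
  haveI : IsAffineHom (P K A).hom := inferInstanceAs (IsAffineHom (Spec.map _))
  exact surjective_of_mono (G := P K A) (T := Red.DS SK (Fin r → ℤ)) (i := torHom φ) (e := Iso.refl _) (Iso.refl _)
    hT.2.2.1 (by show _ = 𝟙 _ ≫ _ ≫ 𝟙 _; rw [Category.id_comp, Category.comp_id])

theorem isMaximalTorus_spB {φ : A →ₐc[K] AddMonoidAlgebra K (Fin r → ℤ)} (hT : Red.IsMaximalTorus (torHom φ)) :
    Red.IsMaximalTorus (spB φ) := by
  let e : P K (AddMonoidAlgebra K (Fin r → ℤ)) ≅ Red.DS SK (Fin r → ℤ) := (Grp.forget _).mapIso (tIso K r).symm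
  haveI : IsMonHom e.hom := (tIso K r).inv.hom.isMonHom_hom
  have h := Groth.L08.Borel.isMaximalTorus_iso_comp hT e
  have e' : e.hom ≫ torHom φ = spB φ := by
    rw [torHom_eq, ← Category.assoc,
      show e.hom ≫ (tIso K r).hom.hom.hom = 𝟙 _ from congr($((tIso K r).inv_hom_id).hom.hom), Category.id_comp]
  rwa [e'] at h

/-- The centralizer of a split subtorus, in coordinates. -/
theorem exists_centralizerP {φ' : A →ₐc[K] AddMonoidAlgebra K (Fin r → ℤ)} (hG : Red.IsReductive (P K A))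
    (hs' : Function.Surjective φ') :
    ∃ (H : Type u) (_ : CommRing H) (_ : HopfAlgebra K H) (ψ : A →ₐc[K] H),
      IsClosedImmersion (spB ψ).left ∧ Red.IsReductive (P K H) ∧ Red.IsCentralizerOf (torHom φ') (spB ψ) := by
  haveI := mono_torHom hs'
  haveI : IsAffine (P K A).left := inferInstanceAs (IsAffine (Spec _))
  haveI := hG.1; haveI := hG.2.1
  have hQ : Red.IsTorus (Red.DS SK (Fin r → ℤ)) := Groth.L25.RedField.isTorus_split _ _
  haveI : IsAffineHom (Red.DS SK (Fin r → ℤ)).hom :=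
    Groth.L25.Central.isAffineHom_of_multTypeFT (Groth.L25.Locus.isMultTypeFT_of_isTorus hQ)
  have hcl : IsClosedImmersion (torHom φ').left := Groth.L25.Locus.isClosedImmersion_of_mono
    (Groth.L25.Locus.locally_of_multTypeFT (Groth.L25.Locus.isMultTypeFT_of_isTorus hQ)) (torHom φ')
  obtain ⟨⟨Z, _, z, hz, hzc, -⟩, -⟩ := Groth.Agent.S3006.result SK (P K A) _ (torHom φ') hcl hQ
  obtain ⟨Z', _, z', hz', -, hred'⟩ := Groth.Agent.S5550.result hG (torHom φ') hQ
  obtain ⟨eZ, -, -, hem, -⟩ := Groth.L08.TorusWeights.exists_iso_centralizer hz' hz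
  haveI := hem
  have hred : Red.IsReductive Z := isReductive_congr (Grp.mkIso' eZ) hred'
  haveI := hz.1; haveI := hz.2.1; haveI := hzc
  haveI : IsAffine Z.left := isAffine_of_isAffineHom z.left
  obtain ⟨H, _, _, ⟨eH⟩⟩ := Groth.L25.Bridge.exists_hopf Z
  let qH : Z ≅ P K H := (Grp.forget _).mapIso eH
  haveI : IsMonHom qH.hom := eH.hom.hom.isMonHom_hom
  haveI : IsMonHom qH.inv := eH.inv.hom.isMonHom_hom
  obtain ⟨ψ, hψ⟩ := exists_bialgHom (qH.inv ≫ z)
  have hψc : IsClosedImmersion (spB ψ).left := by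
    rw [hψ, Over.comp_left]
    haveI : IsIso qH.inv.left := inferInstanceAs (IsIso ((Over.forget _).map qH.inv))
    exact MorphismProperty.comp_mem _ _ _ (inferInstanceAs (IsClosedImmersion qH.inv.left)) hzc
  refine ⟨H, inferInstance, inferInstance, ψ, hψc, isReductive_congr eH hred, ?_⟩
  rw [hψ]
  refine ⟨inferInstance, mono_comp _ _, fun X g => ⟨fun ⟨w, hw⟩ => ?_, fun h => ?_⟩⟩
  · exact (hz.2.2 X g).1 ⟨w ≫ qH.inv, by rw [Category.assoc, hw]⟩
  · obtain ⟨w, hw⟩ := (hz.2.2 X g).2 h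
    exact ⟨w ≫ qH.hom, by rw [Category.assoc, Iso.hom_inv_id_assoc, hw]⟩

theorem torPt_mapDomain {r' : ℕ} (φ : A →ₐc[K] AddMonoidAlgebra K (Fin r → ℤ)) (p : (Fin r → ℤ) →+ (Fin r' → ℤ))
    {C : Type u} [CommRing C] [Algebra K C] (χ : AddMonoidAlgebra K (Fin r' → ℤ) →ₐ[K] C) :
    torPt ((AddMonoidAlgebra.mapDomainBialgHom K p).comp φ) χ =
      torPt φ (χ.comp (AddMonoidAlgebra.mapDomainBialgHom K p :
        AddMonoidAlgebra K (Fin r → ℤ) →ₐ[K] AddMonoidAlgebra K (Fin r' → ℤ))) :=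
  WithConv.ext (AlgHom.ext fun _ => rfl)

/-- The torus inside the centralizer of a subtorus. -/
theorem exists_torus_lift {φ : A →ₐc[K] AddMonoidAlgebra K (Fin r → ℤ)} (hT : Red.IsMaximalTorus (torHom φ))
    {r' : ℕ} (p : (Fin r → ℤ) →+ (Fin r' → ℤ)) {H : Type u} [CommRing H] [HopfAlgebra K H] (ψ : A →ₐc[K] H)
    (hz : Red.IsCentralizerOf (torHom ((AddMonoidAlgebra.mapDomainBialgHom K p).comp φ)) (spB ψ)) :
    ∃ φZ : H →ₐc[K] AddMonoidAlgebra K (Fin r → ℤ), φZ.comp ψ = φ ∧ Red.IsMaximalTorus (torHom φZ) := by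
  haveI := hz.1; haveI := hz.2.1
  haveI := hT.1; haveI := hT.2.1
  obtain ⟨t, ht⟩ : ∃ t : Red.DS SK (Fin r → ℤ) ⟶ P K H, t ≫ spB ψ = torHom φ := by
    refine (hz.2.2 _ (torHom φ)).2 fun X' x h => ?_
    rw [comp_torHom, comp_torHom, ← ofFn_mul, ← ofFn_mul]
    congr 1
    rw [torPt_mapDomain]
    exact torPt_comm φ _ _
  haveI : IsMonHom t := Groth.L25.Bridge.isMonHom_of_mul t fun Y a b => by
    rw [← cancel_mono (spB ψ), Category.assoc, ht, MonObj.mul_comp, MonObj.mul_comp (f₁ := a ≫ t), Category.assoc,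
      Category.assoc, ht]
  haveI : Mono (t ≫ spB ψ) := by rw [ht]; infer_instance
  haveI : Mono t := mono_of_mono t (spB ψ)
  have htmax : Red.IsMaximalTorus t := ⟨inferInstance, inferInstance, hT.2.2.1, fun s T' _ a _ _ f hT' hf => by
    haveI : IsMonHom ((Over.pullback (Red.geomPt s)).map (spB ψ)) := Groth.L25.MonoClosed.isMonHom_pullbackMap _ _
    haveI : Mono ((Over.pullback (Red.geomPt s)).map (spB ψ)) := Functor.map_mono _ _
    haveI : Mono (a ≫ (Over.pullback (Red.geomPt s)).map (spB ψ)) := mono_comp _ _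
    exact hT.2.2.2 s T' (a ≫ (Over.pullback (Red.geomPt s)).map (spB ψ)) f hT' (by
      rw [reassoc_of% hf, ← Functor.map_comp, ht])⟩
  haveI : IsMonHom (tIso K r).inv.hom.hom := (tIso K r).inv.hom.isMonHom_hom
  obtain ⟨φZ, hf⟩ := exists_bialgHom ((tIso K r).inv.hom.hom ≫ t)
  have hφZ : torHom φZ = t := by
    rw [torHom_eq]
    refine (congrArg ((tIso K r).hom.hom.hom ≫ ·) hf).trans ?_
    rw [← Category.assoc,
      show (tIso K r).hom.hom.hom ≫ (tIso K r).inv.hom.hom = 𝟙 _ from congr($((tIso K r).hom_inv_id).hom.hom),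
      Category.id_comp]
  exact ⟨φZ, torHom_injective (by rw [← torHom_comp, hφZ, ht]), hφZ ▸ htmax⟩

theorem surjective_mapDomain {r' : ℕ} (p : (Fin r → ℤ) →+ (Fin r' → ℤ)) (hp : Function.Surjective p) :
    Function.Surjective (AddMonoidAlgebra.mapDomainBialgHom K p :
      AddMonoidAlgebra K (Fin r → ℤ) →ₐc[K] AddMonoidAlgebra K (Fin r' → ℤ)) := by
  intro y
  induction y using AddMonoidAlgebra.induction_linear with
  | zero => exact ⟨0, map_zero _⟩
  | add u v hu hv =>
    obtain ⟨u', rfl⟩ := hu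
    obtain ⟨v', rfl⟩ := hv
    exact ⟨u' + v', map_add _ _ _⟩
  | single n c =>
    obtain ⟨m, rfl⟩ := hp n
    exact ⟨AddMonoidAlgebra.single m c, AddMonoidAlgebra.mapDomainBialgHom_single _ _ _⟩

/-- The centralizer of the kernel torus of a projection of the characters. -/
theorem exists_centralizer_data {φ : A →ₐc[K] AddMonoidAlgebra K (Fin r → ℤ)} (hG : Red.IsReductive (P K A))
    (hT : Red.IsMaximalTorus (torHom φ)) {r' : ℕ} (p : (Fin r → ℤ) →+ (Fin r' → ℤ)) (hp : Function.Surjective p) :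
    ∃ (H : Type u) (_ : CommRing H) (_ : HopfAlgebra K H) (ψ : A →ₐc[K] H)
      (φZ : H →ₐc[K] AddMonoidAlgebra K (Fin r → ℤ)),
      Function.Surjective ψ ∧ φZ.comp ψ = φ ∧ Red.IsReductive (P K H) ∧ Red.IsMaximalTorus (torHom φZ) ∧
      IsClosedImmersion (spB ψ).left ∧
      (∀ m b, p m ≠ 0 → piece φZ m b = 0) ∧
      (∀ (C : Type u) [CommRing C] [Algebra K C] (g : A →ₐ[K] C),
        (∀ m b, p m ≠ 0 → g (piece φ m b) = 0) → ∃ g' : H →ₐ[K] C, g = g'.comp (ψ : A →ₐ[K] H)) ∧
      Red.IsCentralizerOf (torHom ((AddMonoidAlgebra.mapDomainBialgHom K p).comp φ)) (spB ψ) := by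
  let φ' := (AddMonoidAlgebra.mapDomainBialgHom K p).comp φ
  have hs' : Function.Surjective φ' := (surjective_mapDomain p hp).comp (surjective_P hT)
  obtain ⟨H, _, _, ψ, hψc, hred, hz⟩ := exists_centralizerP hG hs'
  obtain ⟨φZ, hnat, htmax⟩ := exists_torus_lift hT p ψ hz
  have hψs := surjective_of_isClosedImmersion ψ hψc
  refine ⟨H, inferInstance, inferInstance, ψ, φZ, hψs, hnat, hred, htmax, hψc,
    fun m b hm => ?_, fun C _ _ g hg => ?_, hz⟩
  · obtain ⟨b, rfl⟩ := hψs b
    rw [piece_natural φ ψ hnat]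
    have hψt : TorCommutes φ' (ψ : A →ₐ[K] H) := by
      refine torCommutes_of_commute fun X q h => ?_
      have h1 : specPt (ψ : A →ₐ[K] H) = spB ψ := by
        refine val_injective ?_
        rw [specPt, val_ofFn, ← Category.id_comp (spB ψ), val_mapMulEquiv]
        rfl
      rw [h1]
      exact ((hz.2.2 _ (spB ψ)).1 ⟨𝟙 _, Category.id_comp _⟩) X q h
    have h2 := kills_of_torCommutes φ' hψt hm (piece φ m b)
    have h3 : piece φ' (p m) (piece φ m b) = piece φ m b := by
      show (torO φ' (piece φ m b)).coeff (p m) = _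
      rw [torO_mapDomain, torO_piece, AddMonoidAlgebra.mapDomainAlgHom_apply, AddMonoidAlgebra.mapDomain_single,
        AddMonoidAlgebra.coeff_single_apply, if_pos rfl]
    rwa [h3] at h2
  · obtain ⟨w, hw⟩ := (hz.2.2 _ (specPt g)).2 fun X' x h =>
      commute_torHom (torCommutes_of_pieces φ p g hg) x h
    have h2 := congrArg val hw
    rw [specPt, val_ofFn, val_mapMulEquiv] at h2
    let e := AlgEquiv.ofBijective (iotaSpec (K := K) C) (iotaSpec_bijective C)
    refine ⟨(e.symm : _ →ₐ[K] C).comp (val w).ofConv, AlgHom.ext fun b => ?_⟩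
    exact (e.eq_symm_apply).2 (DFunLike.congr_fun (congrArg WithConv.ofConv h2) b).symm

/-- The centralizer of the kernel torus of a projection of the characters. -/
theorem exists_centralizer {φ : A →ₐc[K] AddMonoidAlgebra K (Fin r → ℤ)} (hG : Red.IsReductive (P K A))
    (hT : Red.IsMaximalTorus (torHom φ)) {r' : ℕ} (p : (Fin r → ℤ) →+ (Fin r' → ℤ)) (hp : Function.Surjective p) :
    ∃ (H : Type u) (_ : CommRing H) (_ : HopfAlgebra K H) (ψ : A →ₐc[K] H)
      (φZ : H →ₐc[K] AddMonoidAlgebra K (Fin r → ℤ)),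
      Function.Surjective ψ ∧ φZ.comp ψ = φ ∧ Red.IsReductive (P K H) ∧ Red.IsMaximalTorus (torHom φZ) ∧
      IsClosedImmersion (spB ψ).left ∧
      (∀ m b, p m ≠ 0 → piece φZ m b = 0) ∧
      ∀ (C : Type u) [CommRing C] [Algebra K C] (g : A →ₐ[K] C),
        (∀ m b, p m ≠ 0 → g (piece φ m b) = 0) → ∃ g' : H →ₐ[K] C, g = g'.comp (ψ : A →ₐ[K] H) := by
  obtain ⟨H, i₁, i₂, ψ, φZ, h1, h2, h3, h4, h5, h6, h7, -⟩ := exists_centralizer_data hG hT p hp
  exact ⟨H, i₁, i₂, ψ, φZ, h1, h2, h3, h4, h5, h6, h7⟩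

end Groth.L14.Splitting
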