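import Groth.Agent.L14.Splitting.Etale
import Groth.Agent.L14.Iso.SameType
import Groth.Agent.L14.Iso.FibreSplit
import Groth.Agent.S2963

/-!
# Comparing split groups at a geometric point
-/

set_option autoImplicit false
set_option linter.unusedSectionVars false
set_option linter.style.haveILetI false
set_option linter.deprecated false
set_option backward.isDefEq.respectTransparency.types false
set_option maxHeartbeats 1000000

universe u

open CategoryTheory CategoryTheory.Limits MonoidalCategory CartesianMonoidalCategory MonObj AlgebraicGeometry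

noncomputable section

namespace Groth.L14.Splitting

/-- over an algebraically closed field all splittings have the same root datum -/
theorem equiv_of_splitRed {k : Type u} [Field k] [IsAlgClosed k] {G : Over (Spec (CommRingCat.of k))} [GrpObj G]
    (D D' : Red.SplitRed G) : Nonempty (RootPairing.Equiv D.P D'.P) := by
  refine Groth.Agent.S2963.result k G D.reductive (fun T T' _ _ i i' hi hi' => ?_) D D'
  haveI := D.reductive.1; haveI := D.reductive.2.1
  haveI : QuasiCompact G.hom := inferInstance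
  obtain ⟨g, f, hf⟩ := Groth.L08.Borel.exists_maxTorus_conj_any (Groth.L08.Borel.isMaxTorus_of_isMaximalTorus hi)
    (Groth.L08.Borel.isMaxTorus_of_isMaximalTorus hi')
  refine ⟨g, fun X t => ⟨t ≫ f.hom, ?_⟩⟩
  rw [Category.assoc, hf]
  simp only [AGF.conjBy, MonObj.comp_mul, GrpObj.comp_inv, ← Category.assoc, comp_toUnit]

/-- split groups which are isomorphic at a geometric point have the same root datum -/
theorem equiv_of_iso_at {S S' : Scheme.{u}} {G T : Over S} [GrpObj G] [GrpObj T] {i : T ⟶ G} {r : ℕ}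
    (R : RootData G T i r (Set.univ : Set S)) (hG : Red.IsReductive G) (hT : Red.IsMaximalTorus i)
    {G' T' : Over S'} [GrpObj G'] [GrpObj T'] {i' : T' ⟶ G'} {r' : ℕ}
    (R' : RootData G' T' i' r' (Set.univ : Set S')) (hG' : Red.IsReductive G') (hT' : Red.IsMaximalTorus i')
    {Ω : Type u} [Field Ω] [IsAlgClosed Ω] (j : Spec (CommRingCat.of Ω) ⟶ S) (j' : Spec (CommRingCat.of Ω) ⟶ S')
    (f : Grp.mk (Red.bc j G) ≅ Grp.mk (Red.bc j' G')) :
    Nonempty (RootPairing.Equiv (R.splitRed (fun _ => trivial) hG hT).P (R'.splitRed (fun _ => trivial) hG' hT').P) := by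
  haveI := hT.1; haveI := hT'.1
  haveI := hG.1; haveI := hG.2.1; haveI := hG'.1; haveI := hG'.2.1
  have hb' := isReductive_bc hG' j'
  haveI := hb'.1; haveI := hb'.2.1
  let D' := (R'.bc j' fun _ => trivial).splitRed (fun _ => trivial) hb' (Groth.L08.Borel.isMaximalTorus_bc hT' j')
  have hb := isReductive_bc hG j
  haveI := hb.1; haveI := hb.2.1
  let jG : Red.bc j G ≅ Red.bc j' G' := (Grp.forget _).mapIso f
  haveI : IsMonHom jG.hom := f.hom.hom.isMonHom_hom
  haveI := isMonHom_map j i
  let D := ((R.bc j fun _ => trivial).transport f (Iso.refl _) (i' := (Over.pullback j).map i ≫ jG.hom)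
    (Category.id_comp _)).splitRed (fun _ => trivial) hb'
    (Groth.L24.TorusField.isMaximalTorus_comp_iso (Groth.L08.Borel.isMaximalTorus_bc hT j) jG)
  exact equiv_of_splitRed D D'

/-- split groups which are isomorphic at a geometric point are isomorphic -/
theorem iso_of_iso_at {S : Scheme.{u}} {G T G' T' : Over S} [GrpObj G] [GrpObj T] [GrpObj G'] [GrpObj T']
    {i : T ⟶ G} {i' : T' ⟶ G'} {r r' : ℕ}
    (R : RootData G T i r (Set.univ : Set S)) (hG : Red.IsReductive G) (hT : Red.IsMaximalTorus i)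
    (R' : RootData G' T' i' r' (Set.univ : Set S)) (hG' : Red.IsReductive G') (hT' : Red.IsMaximalTorus i')
    {Ω : Type u} [Field Ω] [IsAlgClosed Ω] (j : Spec (CommRingCat.of Ω) ⟶ S)
    (f : Grp.mk (Red.bc j G) ≅ Grp.mk (Red.bc j G')) :
    Nonempty (Grp.mk G ≅ Grp.mk G') := by
  obtain ⟨e⟩ := equiv_of_iso_at R' hG' hT' R hG hT j j f.symm
  exact Groth.L14.Iso.grp_iso_of_equiv _ _ e

/-- splittings over a finite separable extension, with their data -/
theorem exists_rootData_field' (k : Type u) [Field k] (G : Over (Spec (CommRingCat.of k))) [GrpObj G]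
    (hG : Red.IsReductive G) :
    ∃ (L : Type u) (_ : Field L) (_ : Algebra k L), FiniteDimensional k L ∧ Algebra.IsSeparable k L ∧
      ∃ (T : Over (Spec (CommRingCat.of L))) (_ : GrpObj T)
        (i : T ⟶ Red.bc (Spec.map (CommRingCat.ofHom (algebraMap k L))) G) (r : ℕ), Red.IsMaximalTorus i ∧
        Nonempty (RootData (Red.bc (Spec.map (CommRingCat.ofHom (algebraMap k L))) G) T i r
          (Set.univ : Set (Spec (CommRingCat.of L)))) := by
  obtain ⟨L, _, _, h1, h2, ⟨D⟩⟩ := exists_rootData_field k G hG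
  obtain ⟨r, ⟨e⟩⟩ : ∃ r, Nonempty (D.M ≃+ (Fin r → ℤ)) := ⟨_, ⟨(Module.finBasis ℤ D.M).equivFun.toAddEquiv⟩⟩
  obtain ⟨R⟩ := exists_rootData_local D.reductive D.i D.maximalTorus
    (D.split ≪≫ Groth.L25.TorLift.dsCongr _ e)
  exact ⟨L, inferInstance, inferInstance, h1, h2, D.T, inferInstance, D.i, r, D.maximalTorus, ⟨R⟩⟩


/-- data on a base change, moved to a composite base change -/
theorem exists_rootData_comp {S V W : Scheme.{u}} (j : V ⟶ S) (k : W ⟶ V) {d : W ⟶ S} (h : k ≫ j = d)
    {G : Over S} [GrpObj G] (hG : Red.IsReductive G) {T : Over V} [GrpObj T] {i : T ⟶ Red.bc j G} {r : ℕ}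
    (R : RootData (Red.bc j G) T i r (Set.univ : Set V)) (hi : Red.IsMaximalTorus i) :
    ∃ (T' : Over W) (_ : GrpObj T') (i' : T' ⟶ Red.bc d G), Red.IsMaximalTorus i' ∧
      Nonempty (RootData (Red.bc d G) T' i' r (Set.univ : Set W)) := by
  have hj := isReductive_bc hG j
  haveI := hj.1; haveI := hj.2.1; haveI := hi.1
  haveI := isMonHom_map k i
  let jG : Red.bc k (Red.bc j G) ≅ Red.bc d G := ActBC.bcCompIso k j G h
  haveI : IsMonHom jG.hom := ActBC.bcCompIso_isMonHom (G := G) _ _ _
  exact ⟨Red.bc k T, inferInstance, (Over.pullback k).map i ≫ jG.hom,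
    Groth.L24.TorusField.isMaximalTorus_comp_iso (Groth.L08.Borel.isMaximalTorus_bc hi k) jG,
    ⟨(R.bc k fun _ => trivial).transport (flatIso k j h G) (Iso.refl _) (Category.id_comp _)⟩⟩

/-- data on a composite of base changes -/
theorem exists_rootData_flat {S V W : Scheme.{u}} (j : V ⟶ S) (k : W ⟶ V) {d : W ⟶ S} (h : k ≫ j = d)
    {G : Over S} [GrpObj G] (hG : Red.IsReductive G) {T : Over W} [GrpObj T] {i : T ⟶ Red.bc k (Red.bc j G)} {r : ℕ}
    (R : RootData (Red.bc k (Red.bc j G)) T i r (Set.univ : Set W)) (hi : Red.IsMaximalTorus i) :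
    ∃ (T' : Over W) (_ : GrpObj T') (i' : T' ⟶ Red.bc d G), Red.IsMaximalTorus i' ∧
      Nonempty (RootData (Red.bc d G) T' i' r (Set.univ : Set W)) := by
  have hj := isReductive_bc (isReductive_bc hG j) k
  haveI := hj.1; haveI := hi.1
  let jG : Red.bc k (Red.bc j G) ≅ Red.bc d G := ActBC.bcCompIso k j G h
  haveI : IsMonHom jG.hom := ActBC.bcCompIso_isMonHom (G := G) _ _ _
  exact ⟨T, inferInstance, i ≫ jG.hom, Groth.L24.TorusField.isMaximalTorus_comp_iso hi jG,
    ⟨R.transport (flatIso k j h G) (Iso.refl _) (Category.id_comp _)⟩⟩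

/-- reductive groups isomorphic over an algebraically closed extension are isomorphic over a finite separable one -/
theorem exists_finite_sep_iso (k : Type u) [Field k] (G G' : Over (Spec (CommRingCat.of k))) [GrpObj G] [GrpObj G']
    (hG : Red.IsReductive G) (hG' : Red.IsReductive G') (Ω : Type u) [Field Ω] [IsAlgClosed Ω] [Algebra k Ω]
    (f : Grp.mk (Red.bc (Spec.map (CommRingCat.ofHom (algebraMap k Ω))) G) ≅
      Grp.mk (Red.bc (Spec.map (CommRingCat.ofHom (algebraMap k Ω))) G')) :
    ∃ (K : Type u) (_ : Field K) (_ : Algebra k K), Module.Finite k K ∧ Algebra.IsSeparable k K ∧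
      Nonempty (Grp.mk (Red.bc (Spec.map (CommRingCat.ofHom (algebraMap k K))) G) ≅
        Grp.mk (Red.bc (Spec.map (CommRingCat.ofHom (algebraMap k K))) G')) := by
  classical
  haveI := hG.1; haveI := hG.2.1; haveI := hG'.1; haveI := hG'.2.1
  obtain ⟨L, _, _, hL1, hL2, T, _, i, r, hi, ⟨R⟩⟩ := exists_rootData_field' k G hG
  let θ₁ : Spec (CommRingCat.of L) ⟶ Spec (CommRingCat.of k) := Spec.map (CommRingCat.ofHom (algebraMap k L))
  obtain ⟨K, _, _, hK1, hK2, T', _, i', r', hi', ⟨R'⟩⟩ :=
    exists_rootData_field' L (Red.bc θ₁ G') (isReductive_bc hG' θ₁)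
  letI : Algebra k K := ((algebraMap L K).comp (algebraMap k L)).toAlgebra
  haveI : IsScalarTower k L K := IsScalarTower.of_algebraMap_eq fun _ => rfl
  haveI : FiniteDimensional k K := Module.Finite.trans L K
  haveI : Algebra.IsSeparable k K := Algebra.IsSeparable.trans k L K
  refine ⟨K, inferInstance, inferInstance, inferInstance, inferInstance, ?_⟩
  let c : Spec (CommRingCat.of K) ⟶ Spec (CommRingCat.of L) := Spec.map (CommRingCat.ofHom (algebraMap L K))
  let θ : Spec (CommRingCat.of K) ⟶ Spec (CommRingCat.of k) := Spec.map (CommRingCat.ofHom (algebraMap k K))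
  have hθ : c ≫ θ₁ = θ := by rw [← Spec.map_comp]; rfl
  have hGL := isReductive_bc hG θ₁
  have hGK := isReductive_bc hG θ
  have hGK' := isReductive_bc hG' θ
  obtain ⟨T₁, _, i₁, h1, ⟨R₁⟩⟩ := exists_rootData_comp θ₁ c hθ hG R hi
  obtain ⟨T₂, _, i₂, h2, ⟨R₂⟩⟩ : ∃ (T₂ : Over (Spec (CommRingCat.of K))) (_ : GrpObj T₂) (i₂ : T₂ ⟶ Red.bc θ G'),
      Red.IsMaximalTorus i₂ ∧ Nonempty (RootData (Red.bc θ G') T₂ i₂ r' (Set.univ : Set (Spec (CommRingCat.of K)))) :=
    exists_rootData_flat θ₁ c hθ hG' R' hi'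
  let σ : K →ₐ[k] Ω := IsAlgClosed.lift
  let j : Spec (CommRingCat.of Ω) ⟶ Spec (CommRingCat.of K) := Spec.map (CommRingCat.ofHom σ.toRingHom)
  have hj : j ≫ θ = Spec.map (CommRingCat.ofHom (algebraMap k Ω)) := by
    rw [← Spec.map_comp]
    exact congrArg Spec.map (CommRingCat.hom_ext (RingHom.ext fun x => σ.commutes x))
  exact iso_of_iso_at R₁ hGK h1 R₂ hGK' h2 j
    (flatIso j θ hj G ≪≫ f ≪≫ (flatIso j θ hj G').symm)


/-- the splittings of a base change have the root datum of the data -/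
theorem exists_splitRed_comp {S V W : Scheme.{u}} (j : V ⟶ S) (k : W ⟶ V) {d : W ⟶ S} (h : k ≫ j = d)
    {G : Over S} [GrpObj G] (hG : Red.IsReductive G) {T : Over V} [GrpObj T] {i : T ⟶ Red.bc j G} {r : ℕ}
    (R : RootData (Red.bc j G) T i r (Set.univ : Set V)) (hi : Red.IsMaximalTorus i) :
    ∃ D : Red.SplitRed (Red.bc d G), Nonempty (RootPairing.Equiv D.P R.rootPairing) := by
  have hj := isReductive_bc hG j
  haveI := hj.1; haveI := hj.2.1; haveI := hi.1
  haveI := isMonHom_map k i
  let jG : Red.bc k (Red.bc j G) ≅ Red.bc d G := ActBC.bcCompIso k j G h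
  haveI : IsMonHom jG.hom := ActBC.bcCompIso_isMonHom (G := G) _ _ _
  exact ⟨((R.bc k fun _ => trivial).transport (flatIso k j h G) (Iso.refl _)
      (i' := (Over.pullback k).map i ≫ jG.hom) (Category.id_comp _)).splitRed (fun _ => trivial)
    (isReductive_bc hG d) (Groth.L24.TorusField.isMaximalTorus_comp_iso (Groth.L08.Borel.isMaximalTorus_bc hi k) jG),
    ⟨RootPairing.Equiv.id R.rootPairing⟩⟩

end Groth.L14.Splitting
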