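import Groth.Agent.L14.Splitting.Pid
import Groth.Agent.L06.RootLines.Roots
import Groth.Agent.L14.Coroot.Kernel
import Groth.Agent.L14.AlmostSimple.Torus
import Groth.Agent.L08.Borel.CommTorus
import Groth.Agent.S5572

/-!
# Coroots of a split maximal torus over a field
-/

set_option autoImplicit false
set_option linter.unusedSectionVars false
set_option linter.style.haveILetI false
set_option linter.deprecated false
set_option backward.isDefEq.respectTransparency.types false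
set_option maxHeartbeats 1000000

universe u

open CategoryTheory CategoryTheory.Limits MonoidalCategory CartesianMonoidalCategory MonObj AlgebraicGeometry
open WithConv TensorProduct
open Groth.L25.Bridge (P)
open Groth.L25

noncomputable section

namespace Groth.L14.Splitting

variable {k : Type u} [Field k] {r : ℕ}

local notation "SK" => Spec (CommRingCat.of k)

theorem DSmap_zero' {M N : Type} [AddCommGroup M] [AddCommGroup N] (S : Scheme.{u}) :
    Red.DSmap S (0 : M →+ N) = 1 := by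
  refine DSPts.char_injective (MonoidHom.ext fun m => ?_)
  rw [← Category.id_comp (Red.DSmap S (0 : M →+ N)), SplitSub.char_DSmap, DSPts.char_one]
  show DSPts.char (𝟙 _) (Multiplicative.ofAdd (0 : N)) = 1
  rw [ofAdd_zero, map_one]

/-- a character of a torus over a field is trivial if a non-zero multiple of it is -/
theorem eq_one_of_zpow {Ta : Over SK} [GrpObj Ta] (hTa : Red.IsTorus Ta) (β : Ta ⟶ Red.Gm SK) [IsMonHom β]
    {l : ℤ} (hl : l ≠ 0) (h : β ≫ Red.chi SK l = 1) : β = 1 := by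
  obtain ⟨K, _, _, n, ⟨eT⟩⟩ := Groth.L25.Dyn.exists_field_split hTa
  let θ : Spec (CommRingCat.of K) ⟶ SK := Spec.map (CommRingCat.ofHom (algebraMap k K))
  haveI := isMonHom_map θ β
  haveI : IsMonHom eT.inv.hom.hom := eT.inv.hom.isMonHom_hom
  haveI : IsMonHom (Red.chi SK l) := TorusTorsion.isMonHom_DSmap SK _
  haveI := isMonHom_map θ (Red.chi SK l)
  let ψ := eT.inv.hom.hom ≫ (Over.pullback θ).map β ≫ (SplitSub.bcDS θ).hom
  haveI : IsMonHom ψ := inferInstanceAs (IsMonHom (eT.inv.hom.hom ≫ (Over.pullback θ).map β ≫ (SplitSub.bcDS θ).hom))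
  obtain ⟨χ, hχ⟩ := Groth.Agent.S14754.exists_DSmap (k := K) ψ
  have hnat : ψ ≫ Red.DSmap (Spec (CommRingCat.of K)) (zmultiplesHom ℤ l : ℤ →+ ℤ) =
      eT.inv.hom.hom ≫ (Over.pullback θ).map (β ≫ Red.chi SK l) ≫ (SplitSub.bcDS θ).hom := by
    simp only [ψ, Category.assoc, Functor.map_comp]
    rw [← Groth.L08.Borel.bc_DSmap]
    rfl
  have hone : (Over.pullback θ).map (1 : Ta ⟶ Red.Gm SK) = 1 := map_one ((Over.pullback θ).homMonoidHom)
  rw [h, hone, MonObj.one_comp, MonObj.comp_one, hχ, TorusTorsion.DSmap_comp, ← DSmap_zero'] at hnat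
  have h0 := Groth.Agent.S14754.DSmap_injective (k := K) hnat
  have hχ0 : χ = 0 := by
    refine AddMonoidHom.ext fun m => ?_
    have h1 := DFunLike.congr_fun h0 m
    change χ ((zmultiplesHom ℤ l) m) = 0 at h1
    rw [zmultiplesHom_apply, map_zsmul] at h1
    have h2 : χ (1 : ℤ) = 0 := by
      have h3 := DFunLike.congr_fun h0 1
      change χ ((zmultiplesHom ℤ l) 1) = 0 at h3
      rw [zmultiplesHom_apply, one_zsmul, show χ l = χ (l • 1) by rw [smul_eq_mul, _root_.mul_one], map_zsmul] at h3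
      exact (smul_eq_zero.1 h3).resolve_left hl
    rw [show m = m • (1 : ℤ) by rw [smul_eq_mul, _root_.mul_one], map_zsmul, h2, smul_zero, AddMonoidHom.zero_apply]
  rw [hχ0, DSmap_zero'] at hχ
  have hmap : (Over.pullback θ).map β = 1 := by
    haveI : IsIso eT.inv.hom.hom :=
      ⟨eT.hom.hom.hom, congrArg (fun f => f.hom.hom) eT.inv_hom_id, congrArg (fun f => f.hom.hom) eT.hom_inv_id⟩
    rw [← cancel_epi eT.inv.hom.hom, ← cancel_mono (SplitSub.bcDS θ).hom, MonObj.comp_one, MonObj.one_comp,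
      Category.assoc]
    exact hχ
  haveI : Flat θ := by
    rw [HasRingHomProperty.Spec_iff (P := @Flat), CommRingCat.hom_ofHom, RingHom.flat_algebraMap_iff]
    infer_instance
  haveI : Surjective θ := ⟨fun y => ⟨(⊥ : PrimeSpectrum K), Subsingleton.elim (α := PrimeSpectrum k) _ _⟩⟩
  haveI : Flat (pullback.fst Ta.hom θ) := MorphismProperty.pullback_fst (P := @Flat) _ _ inferInstance
  haveI : Surjective (pullback.fst Ta.hom θ) := MorphismProperty.pullback_fst (P := @Surjective) _ _ inferInstance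
  haveI := Flat.epi_of_flat_of_surjective (pullback.fst Ta.hom θ)
  refine Over.OverMorphism.ext ((cancel_epi (pullback.fst Ta.hom θ)).1 ?_)
  have h4 := congrArg (fun f => f.left ≫ pullback.fst (Red.Gm SK).hom θ) (hmap.trans hone.symm)
  simp only [Over.pullback_map_left, pullback.lift_fst] at h4
  exact h4

/-- a point killed by nothing but the trivial character -/
theorem torHom_mapDomain {K A : Type u} [CommRing K] [CommRing A] [HopfAlgebra K A] {r r' : ℕ}
    (φ : A →ₐc[K] AddMonoidAlgebra K (Fin r → ℤ)) (p : (Fin r → ℤ) →+ (Fin r' → ℤ)) :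
    torHom ((AddMonoidAlgebra.mapDomainBialgHom K p).comp φ) =
      Red.DSmap (Spec (CommRingCat.of K)) p ≫ torHom φ := by
  rw [← Category.id_comp (torHom ((AddMonoidAlgebra.mapDomainBialgHom K p).comp φ)), comp_torHom, comp_torHom]
  congr 1
  rw [torPt_mapDomain]
  congr 1
  refine AddMonoidAlgebra.algHom_ext (fun m => ?_) (Subsingleton.elim _ _)
  rw [AlgHom.comp_apply]
  show charAlg (𝟙 _) (AddMonoidAlgebra.mapDomainBialgHom K p (AddMonoidAlgebra.single m 1)) = _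
  rw [AddMonoidAlgebra.mapDomainBialgHom_single, charAlg_single, charAlg_single, one_smul, one_smul,
    ← Category.id_comp (Red.DSmap _ p), SplitSub.char_DSmap]
  rfl

theorem toDS_torHom {A : Type u} [CommRing A] [HopfAlgebra k A]
    (φ : A →ₐc[k] Groth.L06.CoxeterElt.TB k r) : Groth.L06.RootLines.toDS k r ≫ torHom φ = spB φ := by
  refine val_injective ?_
  rw [comp_torHom, val_ofFn, ← Category.id_comp (spB φ), val_mapMulEquiv]
  refine WithConv.ext ?_
  show (charAlg (Groth.L06.RootLines.toDS k r)).comp (φ : A →ₐ[k] AddMonoidAlgebra k (Fin r → ℤ)) =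
    (val (𝟙 (P k (AddMonoidAlgebra k (Fin r → ℤ))))).ofConv.comp (φ : A →ₐ[k] AddMonoidAlgebra k (Fin r → ℤ))
  congr 1
  refine AddMonoidAlgebra.algHom_ext (fun m => ?_) (Subsingleton.elim _ _)
  rw [charAlg_single, one_smul, Groth.L06.RootLines.toDS, DSPts.char_pt]
  show _ = Scheme.Hom.appTop (𝟙 (Spec (CommRingCat.of (AddMonoidAlgebra k (Fin r → ℤ))))) _
  rw [Scheme.Hom.id_appTop]
  rfl

/-- the coroot lattice of a splitting with all roots on one line -/
theorem coroot_eq_zero_of_line {G : Over SK} [GrpObj G] (D : Red.SplitRed G) {a₀ : D.M} (ha₀ : a₀ ≠ 0)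
    (hline : ∀ c, ∃ q : ℤ, D.P.root c = q • a₀) (c₀ : D.idx) {m : D.M} (h : D.P.coroot c₀ m = 0) (c : D.idx) :
    D.P.coroot c m = 0 := by
  haveI : Nonempty SK := ⟨(⊥ : PrimeSpectrum k)⟩
  haveI := Groth.L14.Luna.SemiRank.isReduced_splitRed D
  have hdep : ¬ LinearIndependent ℤ ![D.P.root c₀, D.P.root c] := fun hi => by
    obtain ⟨q, hq⟩ := hline c₀
    obtain ⟨q', hq'⟩ := hline c
    rw [LinearIndependent.pair_iff] at hi
    have h0 := hi q' (-q) (by rw [hq, hq', smul_smul, smul_smul, ← add_smul]; simp [mul_comm])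
    exact D.P.ne_zero c (by rw [hq', h0.1, zero_smul])
  rcases RootPairing.IsReduced.eq_or_eq_neg (P := D.P) c₀ c hdep with e | e
  · rw [D.P.root.injective e] at h; exact h
  · have e' : D.P.reflectionPerm c c = c₀ := D.P.root.injective (by rw [Groth.L24.RootD.root_neg, e])
    have h2 : D.P.coroot (D.P.reflectionPerm c c) = -D.P.coroot c := by
      rw [← D.P.reflectionPerm_coroot c c, D.P.root_coroot_two, two_smul]; abel
    rw [← e', h2] at h
    simpa using h

/-- **coroots**: existence and uniqueness of the cocharacter of a root in the derived group of its centralizer -/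
theorem existsUnique_coroot {G T : Over SK} [GrpObj G] [GrpObj T] (hG : Red.IsReductive G) (i : T ⟶ G)
    (hT : Red.IsMaximalTorus i) {M : Type} [AddCommGroup M] (hM : Red.IsSplitTorusWith M T)
    (α : T ⟶ Red.Gm SK) (hα : LieWt.IsRoot i α)
    {Ta : Over SK} [GrpObj Ta] (j : Ta ⟶ T) [IsMonHom j] (hTa : Red.IsTorus Ta) (hjα : j ≫ α = 1)
    (hmax : ∀ (T' : Over SK) [GrpObj T'] (j' : T' ⟶ T) [IsMonHom j'] [Mono j'],
      Red.IsTorus T' → j' ≫ α = 1 → ∃ f : T' ⟶ Ta, f ≫ j = j')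
    {Z : Over SK} [GrpObj Z] (z : Z ⟶ G) (hz : Red.IsCentralizerOf (j ≫ i) z)
    {D : Over SK} [GrpObj D] (d : D ⟶ Z) [IsMonHom d]
    (hker : ∃ (C : Over SK) (_ : GrpObj C) (f₀ : Z ⟶ C), IsMonHom f₀ ∧
      (∀ (X : Over SK) (a b : X ⟶ C), a * b = b * a) ∧ AlgGrp.IsKernel d f₀)
    (hkill : RedSub.KilledByCommutative d) :
    ∃! lam : Red.Gm SK ⟶ T, IsMonHom lam ∧ (∃ c : Red.Gm SK ⟶ D, c ≫ d ≫ z = lam ≫ i) ∧
      lam ≫ α = Red.chi SK (2 : ℤ) := by
  classical
  haveI := hα.1; haveI := hT.1; haveI := hz.1; haveI := hz.2.1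
  obtain ⟨C₀⟩ := Groth.L06.RootLines.exists_coords hG hT hM
  obtain ⟨a, rfl⟩ := C₀.exists_ch α
  obtain ⟨ha, hW⟩ := (C₀.isRoot_ch a).1 hα
  -- coordinates
  let φ : C₀.A →ₐc[k] AddMonoidAlgebra k (Fin C₀.r → ℤ) := C₀.φ
  haveI : IsIso (Groth.L06.RootLines.toDS k C₀.r) := inferInstance
  let eDS : T ≅ Red.DS SK (Fin C₀.r → ℤ) := C₀.e.symm ≪≫ asIso (Groth.L06.RootLines.toDS k C₀.r)
  haveI : IsMonHom eDS.hom := inferInstanceAs (IsMonHom (C₀.e.inv ≫ Groth.L06.RootLines.toDS k C₀.r))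
  haveI : IsMonHom eDS.inv := inferInstance
  have hch : C₀.ch a = eDS.hom ≫ Red.chi SK a := by
    show C₀.e.inv ≫ Groth.L06.RootLines.toDS k C₀.r ≫ Red.chi SK a =
      (C₀.e.inv ≫ Groth.L06.RootLines.toDS k C₀.r) ≫ Red.chi SK a
    rw [Category.assoc]
  rw [hch] at hjα hα hmax ⊢
  let eG : Grp.mk G ≅ Grp.mk (P k C₀.A) := Grp.mkIso' C₀.eq
  have hφ : torHom φ = eDS.inv ≫ i ≫ C₀.eq.hom := by
    rw [← cancel_epi (Groth.L06.RootLines.toDS k C₀.r), toDS_torHom]
    show spB φ = Groth.L06.RootLines.toDS k C₀.r ≫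
      (inv (Groth.L06.RootLines.toDS k C₀.r) ≫ C₀.e.hom) ≫ i ≫ C₀.eq.hom
    rw [Category.assoc, IsIso.hom_inv_id_assoc]
    exact C₀.hφ
  have hGA := isReductive_congr eG hG
  obtain ⟨_, _⟩ := smooth_coords hGA.2.1
  have hTA : Red.IsMaximalTorus (torHom φ) := by
    rw [hφ]
    haveI : IsMonHom eDS.symm.hom := inferInstanceAs (IsMonHom eDS.inv)
    exact Groth.L08.Borel.isMaximalTorus_iso_comp (Groth.L24.TorusField.isMaximalTorus_comp_iso hT C₀.eq) eDS.symm
  obtain ⟨Φ, hR⟩ := exists_constRoots_local φ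
  have hs := isMaximalTorus_spB hTA
  let q₀ : PrimeSpectrum k := (⊥ : PrimeSpectrum k).comap (algebraMap k k)
  have hmult : mult φ a q₀ ≠ 0 := by
    rw [← finrank_tanW φ a k, tanW_eq k φ a]
    haveI := (Groth.L06.RootLines.finrank_Tan (K := k) (A := C₀.A)).1
    haveI := Submodule.finiteDimensional_of_le (Groth.L06.RootLines.Wt_le φ a)
    exact fun h => hW (Submodule.finrank_eq_zero.1 h)
  have haΦ : a ∈ Φ := by
    by_contra h
    exact hmult (hR.off a h ha q₀)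
  -- the centralizer in coordinates
  obtain ⟨r', p, a₀, hp, ha₀, hline, hpa, -⟩ := Groth.L14.Luna.SemiRank.exists_line_proj ha
  obtain ⟨H, _, _, ψ, φZ, hψs, hnat, hred, hTZ, -, hvan, hfac, hzH⟩ := exists_centralizer_data hGA hTA p hp
  obtain ⟨_, _⟩ := smooth_coords hred.2.1
  obtain ⟨cZ⟩ := exists_coord_centralizer p hψs hnat hfac hpa (hR.coord a haΦ).some
  obtain ⟨ΦZ, hRZ⟩ := exists_constRoots_local φZ
  have haZ : a ∈ ΦZ := by
    by_contra h
    exact mult_ne_zero_of_coord cZ q₀ (hRZ.off a h ha q₀)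
  have hΦline : ∀ b ∈ ΦZ, ∃ q : ℤ, b = q • a₀ := fun b hb => by
    refine (hline b).1 (by_contra fun hpb => ?_)
    obtain ⟨c⟩ := hRZ.coord b hb
    have h1 := c.hwx
    rw [← c.hx, hvan b c.x hpb, map_zero] at h1
    exact zero_ne_one h1
  obtain ⟨U, hp', hdat⟩ := exists_datum φZ hRZ hred hTZ (IsLocalRing.closedPoint k)
  have hU : ∀ s : SK, s ∈ U := fun s => (IsLocalRing.specializes_closedPoint s).mem_open U.2 hp'
  obtain ⟨RZ, hroots, hRe⟩ := exists_rootData_of_datum φZ hRZ hred hTZ hdat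
  let DZ := RZ.splitRed hU hred hTZ
  let c₀ : DZ.idx := ⟨a, hroots.symm ▸ haZ⟩
  have hDline : ∀ c : DZ.idx, ∃ q : ℤ, DZ.P.root c = q • a₀ := fun c => hΦline c.1 (hroots ▸ c.2)
  -- the two centralizers agree
  haveI : IsMonHom (Red.DSmap SK p) := TorusTorsion.isMonHom_DSmap SK p
  haveI : Mono (Red.DSmap SK p) := ⟨fun u v e => DSPts.char_injective (MonoidHom.ext fun m => by
    obtain ⟨m', hm'⟩ := hp m.toAdd
    have h1 := congrArg (fun w => DSPts.char w (Multiplicative.ofAdd m')) e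
    simp only [SplitSub.char_DSmap] at h1
    rw [show m = Multiplicative.ofAdd (p m') from congrArg Multiplicative.ofAdd hm'.symm]
    exact h1)⟩
  have hkilla : (Red.DSmap SK p ≫ eDS.inv) ≫ eDS.hom ≫ Red.chi SK a = 1 := by
    rw [Category.assoc, Iso.inv_hom_id_assoc, Red.chi, TorusTorsion.DSmap_comp, ← DSmap_zero']
    congr 1
    refine AddMonoidHom.ext fun n => ?_
    show p ((zmultiplesHom _ a) n) = 0
    rw [zmultiplesHom_apply, map_zsmul, hpa, smul_zero]
  haveI : Mono (Red.DSmap SK p ≫ eDS.inv) := mono_comp _ _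
  obtain ⟨g₁, hg₁⟩ := hmax _ (Red.DSmap SK p ≫ eDS.inv) (Groth.L25.RedField.isTorus_split _ _) hkilla
  obtain ⟨l, hl0⟩ : ∃ l : ℤ, a = l • a₀ := (hline a).1 hpa
  haveI : IsMonHom (Red.chi SK a₀) := TorusTorsion.isMonHom_DSmap SK _
  have hjβ : (j ≫ eDS.hom) ≫ Red.chi SK a₀ = 1 := by
    refine eq_one_of_zpow hTa _ (l := l) (fun h => ha (by rw [hl0, h, zero_smul])) ?_
    rw [← hjα]
    simp only [Category.assoc, Red.chi, TorusTorsion.DSmap_comp]
    congr 3
    refine AddMonoidHom.ext fun n => ?_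
    show (zmultiplesHom _ a₀) ((zmultiplesHom ℤ l) n) = (zmultiplesHom _ a) n
    rw [zmultiplesHom_apply, zmultiplesHom_apply, zmultiplesHom_apply, hl0, smul_smul, smul_eq_mul]
  obtain ⟨sec, hsec⟩ : ∃ sec : (Fin r' → ℤ) →+ (Fin C₀.r → ℤ), ∀ n, p (sec n) = n := by
    obtain ⟨s, hs'⟩ := Module.projective_lifting_property p.toIntLinearMap LinearMap.id hp
    exact ⟨s.toAddMonoidHom, fun n => LinearMap.congr_fun hs' n⟩
  let f₁ : Ta ⟶ Red.DS SK (Fin r' → ℤ) := (j ≫ eDS.hom) ≫ Red.DSmap SK sec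
  have hf₁ : f₁ ≫ Red.DSmap SK p = j ≫ eDS.hom := by
    refine DSPts.char_injective (MonoidHom.ext fun m => ?_)
    rw [SplitSub.char_DSmap, SplitSub.char_DSmap]
    show DSPts.char (j ≫ eDS.hom) (Multiplicative.ofAdd (sec (p m.toAdd))) = DSPts.char (j ≫ eDS.hom) m
    obtain ⟨q, hq⟩ := (hline (m.toAdd - sec (p m.toAdd))).1 (by rw [map_sub, hsec, sub_self])
    have h0 : DSPts.char (j ≫ eDS.hom) (Multiplicative.ofAdd a₀) = 1 := by
      rw [← Luna.SemiRank.gmFn_chi', hjβ, GmPts.gmFn_one]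
    have h1 : DSPts.char (j ≫ eDS.hom) (Multiplicative.ofAdd (q • a₀)) = 1 := by
      have e : DSPts.char (j ≫ eDS.hom) (Multiplicative.ofAdd (-a₀)) = 1 := by
        have := map_mul (DSPts.char (j ≫ eDS.hom)) (Multiplicative.ofAdd a₀) (Multiplicative.ofAdd (-a₀))
        rw [← ofAdd_add, add_neg_cancel, ofAdd_zero, map_one, h0, _root_.one_mul] at this
        exact this.symm
      rcases Int.eq_nat_or_neg q with ⟨w, rfl | rfl⟩
      · rw [natCast_zsmul, ofAdd_nsmul, map_pow, h0, one_pow]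
      · rw [neg_smul, natCast_zsmul, ← smul_neg, ofAdd_nsmul, map_pow, e, one_pow]
    conv_rhs => rw [show m = Multiplicative.ofAdd (q • a₀ + sec (p m.toAdd)) by rw [← hq, sub_add_cancel, ofAdd_toAdd],
      ofAdd_add, map_mul, h1, _root_.one_mul]
  haveI : Mono C₀.eq.inv := inferInstance
  haveI := hzH.1; haveI := hzH.2.1
  have hj' : f₁ ≫ torHom ((AddMonoidAlgebra.mapDomainBialgHom k p).comp φ) = (j ≫ i) ≫ C₀.eq.hom := by
    rw [torHom_mapDomain, hφ, reassoc_of% hf₁, Category.assoc, Iso.hom_inv_id_assoc]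
  have hp'' : torHom ((AddMonoidAlgebra.mapDomainBialgHom k p).comp φ) = g₁ ≫ (j ≫ i) ≫ C₀.eq.hom := by
    rw [torHom_mapDomain, hφ, ← Category.assoc _ eDS.inv, ← hg₁]
    simp only [Category.assoc]
  let zH : P k H ⟶ G := spB ψ ≫ C₀.eq.inv
  haveI : Mono zH := mono_comp _ _
  have hcz : Red.IsCentralizerOf (j ≫ i) zH := by
    refine ⟨inferInstanceAs (IsMonHom (spB ψ ≫ C₀.eq.inv)), inferInstance, fun X g => ⟨fun ⟨w, hw⟩ X' x h => ?_, fun hg => ?_⟩⟩
    · have h1 := (hzH.2.2 X (w ≫ spB ψ)).1 ⟨w, rfl⟩ X' x (h ≫ f₁)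
      rw [Category.assoc h f₁, hj'] at h1
      have h2 := congrArg (· ≫ C₀.eq.inv) h1
      simp only [MonObj.mul_comp, Category.assoc, Iso.hom_inv_id, Category.comp_id] at h2
      rw [← hw]
      exact h2
    · obtain ⟨w, hw⟩ := (hzH.2.2 X (g ≫ C₀.eq.hom)).2 fun X' x h => by
        have h1 := congrArg (· ≫ C₀.eq.hom) (hg X' x (h ≫ g₁))
        simp only [MonObj.mul_comp, Category.assoc] at h1
        rw [hp'']
        simpa only [Category.assoc] using h1
      exact ⟨w, by rw [← Category.assoc, hw, Category.assoc, Iso.hom_inv_id, Category.comp_id]⟩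
  obtain ⟨w, hw, hw', hwm, hwm'⟩ := Groth.L08.TorusWeights.exists_iso_centralizer hcz hz
  haveI := hwm; haveI := hwm'
  have hit : torHom φZ ≫ zH = eDS.inv ≫ i := by
    show torHom φZ ≫ spB ψ ≫ C₀.eq.inv = _
    rw [← Category.assoc, torHom_comp, hnat, hφ]
    simp only [Category.assoc, Iso.hom_inv_id, Category.comp_id]
  -- the kernel of the map to the characters orthogonal to the coroots
  let l₂ : (Fin C₀.r → ℤ) →+ ℤ := RZ.lam c₀
  have hl₂ : l₂ a = 2 := RZ.two c₀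
  let N : AddSubgroup DZ.M := (l₂.ker : AddSubgroup (Fin C₀.r → ℤ))
  have hN : ∀ m, m ∈ N ↔ ∀ c, DZ.P.coroot c m = 0 := fun m =>
    ⟨fun h c => coroot_eq_zero_of_line DZ ha₀ hDline c₀ h c, fun h => h c₀⟩
  obtain ⟨F, hFm, hFi, -⟩ := Groth.Agent.S5572.result DZ N hN
  haveI := hFm
  obtain ⟨C, _, f₀, hf₀, hcomm, hk⟩ := hker
  haveI := hf₀
  haveI : Nonempty SK := ⟨(⊥ : PrimeSpectrum k)⟩
  obtain ⟨b⟩ := Groth.L14.AlmostSimple.exists_base DZ
  let lam : Red.Gm SK ⟶ T := Groth.L14.Coroot.coav DZ c₀ ≫ eDS.inv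
  have hcoav : Groth.L14.Coroot.coav DZ c₀ = Red.DSmap SK l₂ := by
    show Red.DSmap SK l₂ ≫ RZ.e.inv.hom.hom = _
    rw [hRe]
    exact Category.comp_id _
  have hlamE : lam ≫ eDS.hom = Red.DSmap SK l₂ := by
    show (Groth.L14.Coroot.coav DZ c₀ ≫ eDS.inv) ≫ eDS.hom = _
    erw [Category.assoc, Iso.inv_hom_id, Category.comp_id]
    exact hcoav
  haveI : IsMonHom (Red.DSmap SK l₂) := TorusTorsion.isMonHom_DSmap SK _
  have hlm : IsMonHom lam := by
    show IsMonHom (Groth.L14.Coroot.coav DZ c₀ ≫ eDS.inv)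
    rw [hcoav]
    exact inferInstanceAs (IsMonHom (Red.DSmap SK l₂ ≫ eDS.inv))
  refine ⟨lam, ⟨hlm, ?_, ?_⟩, fun lam' ⟨hlm', ⟨c', hc'⟩, hα'⟩ => ?_⟩
  · -- in the derived group
    haveI : IsMonHom (w.hom ≫ f₀) := inferInstance
    have h1 : (Groth.L14.Coroot.coav DZ c₀ ≫ DZ.i ≫ w.hom) ≫ f₀ = 1 := by
      have h := Groth.L14.Coroot.coav_comp_eq_one (D := DZ) b (w.hom ≫ f₀) hcomm c₀ (𝟙 _)
      rw [Category.id_comp] at h
      simpa only [Category.assoc] using h
    obtain ⟨c, hc⟩ : ∃ c : Red.Gm SK ⟶ D, c ≫ d = Groth.L14.Coroot.coav DZ c₀ ≫ DZ.i ≫ w.hom :=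
      ⟨hk.lift (Groth.L14.Coroot.coav DZ c₀ ≫ DZ.i ≫ w.hom) (toUnit _) (h1.trans Hom.one_def), hk.lift_fst _ _ _⟩
    refine ⟨c, ?_⟩
    rw [← Category.assoc, hc]
    show (Groth.L14.Coroot.coav DZ c₀ ≫ torHom φZ ≫ w.hom) ≫ z = (Groth.L14.Coroot.coav DZ c₀ ≫ eDS.inv) ≫ i
    simp only [Category.assoc, hw]
    erw [hit]
    rfl
  · rw [← Category.assoc, hlamE, Red.chi, Red.chi, TorusTorsion.DSmap_comp]
    congr 1
    refine AddMonoidHom.ext fun n => ?_
    show l₂ ((zmultiplesHom _ a) n) = (zmultiplesHom ℤ (2 : ℤ)) n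
    rw [zmultiplesHom_apply, zmultiplesHom_apply, map_zsmul, hl₂]
  · -- uniqueness
    haveI := hlm'
    obtain ⟨χ, hχ⟩ := Groth.Agent.S14754.exists_DSmap (k := k) (lam' ≫ eDS.hom)
    rw [← cancel_mono eDS.hom, hlamE, hχ]
    congr 1
    have hdF : d ≫ w.inv ≫ F = 1 := by
      refine hkill (Red.DS SK ↥N) (w.inv ≫ F) fun X u v => DSPts.char_injective ?_
      rw [DSPts.char_mul, DSPts.char_mul, mul_comm]
    have h1 : c' ≫ d = (lam' ≫ eDS.hom) ≫ DZ.i ≫ w.hom := by
      rw [← cancel_mono z, Category.assoc, hc']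
      show lam' ≫ i = ((lam' ≫ eDS.hom) ≫ torHom φZ ≫ w.hom) ≫ z
      simp only [Category.assoc, hw, hit, Iso.hom_inv_id_assoc]
    have h2 : Red.DSmap SK χ ≫ Red.DSmap SK N.subtype = 1 := by
      have h := congrArg (· ≫ w.inv ≫ F) h1
      simp only [Category.assoc, Iso.hom_inv_id_assoc] at h
      erw [hdF, MonObj.comp_one, hFi] at h
      rw [← hχ, Category.assoc]
      refine Eq.trans ?_ h.symm
      show _ = lam' ≫ eDS.hom ≫ RZ.e.hom.hom.hom ≫ Red.DSmap SK N.subtype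
      rw [hRe]
      exact congrArg (fun m => lam' ≫ eDS.hom ≫ m) (Category.id_comp _).symm
    rw [TorusTorsion.DSmap_comp, ← DSmap_zero'] at h2
    have h3 := Groth.Agent.S14754.DSmap_injective (k := k) h2
    have hχa : χ a = 2 := by
      rw [← Category.assoc, hχ, Red.chi, Red.chi, TorusTorsion.DSmap_comp] at hα'
      have h4 := DFunLike.congr_fun (Groth.Agent.S14754.DSmap_injective (k := k) hα') 1
      change χ ((zmultiplesHom _ a) 1) = (zmultiplesHom ℤ (2 : ℤ)) 1 at h4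
      rwa [zmultiplesHom_apply, zmultiplesHom_apply, one_zsmul, one_zsmul] at h4
    refine AddMonoidHom.ext fun m => ?_
    have hm : ((2 : ℤ) • m - l₂ m • a : Fin C₀.r → ℤ) ∈ l₂.ker := by
      show l₂ _ = 0
      rw [map_sub, map_zsmul, map_zsmul, hl₂, smul_eq_mul, smul_eq_mul, mul_comm, sub_self]
    have h5 := DFunLike.congr_fun h3 ⟨_, hm⟩
    change χ ((2 : ℤ) • m - l₂ m • a) = 0 at h5
    rw [map_sub, map_zsmul, map_zsmul, hχa, smul_eq_mul, smul_eq_mul, sub_eq_zero, mul_comm _ (2 : ℤ)] at h5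
    exact mul_left_cancel₀ two_ne_zero h5

end Groth.L14.Splitting
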