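import Groth.Agent.L14.Splitting.RootGroup
import Mathlib.RingTheory.Kaehler.Basic
import Mathlib.RingTheory.Flat.LocallyFree
import Mathlib.LinearAlgebra.TensorProduct.Tower

/-!
# The weight decomposition of the cotangent space at the origin, over any base ring
-/

set_option autoImplicit false
set_option linter.unusedSectionVars false
set_option linter.style.haveILetI false
set_option backward.isDefEq.respectTransparency.types false
set_option maxHeartbeats 1000000

universe u

open TensorProduct
open Groth.L25.Dyn (Pt)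

noncomputable section

namespace Groth.L14.Splitting

variable {K : Type u} [CommRing K] {A : Type u} [CommRing A] [HopfAlgebra K A] {r : ℕ}
  (φ : A →ₐc[K] AddMonoidAlgebra K (Fin r → ℤ))

variable (K A) in
/-- Constants and the square of the augmentation ideal. -/
def sqK : Submodule K A := (aug K A ^ 2).restrictScalars K ⊔ Submodule.span K {1}

variable (K A) in
/-- The cotangent space at the origin. -/
abbrev Omega0 : Type u := A ⧸ sqK K A

variable (K A) in
/-- The differential at the origin. -/
def dq : A →ₗ[K] Omega0 K A := (sqK K A).mkQ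

theorem sub_counit_mem (a : A) : a - algebraMap K A (Bialgebra.counitAlgHom K A a) ∈ aug K A := by
  refine RingHom.mem_ker.2 ?_
  rw [map_sub, AlgHom.commutes, Algebra.algebraMap_self, RingHom.id_apply, sub_self]

theorem mem_sq_of_mem_sqK {a : A} (h : a ∈ sqK K A) (h0 : Bialgebra.counitAlgHom K A a = 0) : a ∈ aug K A ^ 2 := by
  obtain ⟨z, hz, o, ho, rfl⟩ := Submodule.mem_sup.1 h
  obtain ⟨c, rfl⟩ := Submodule.mem_span_singleton.1 ho
  have hz' : z ∈ aug K A ^ 2 := hz
  have hz0 : Bialgebra.counitAlgHom K A z = 0 := RingHom.mem_ker.1 (Ideal.pow_le_self two_ne_zero hz')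
  rw [map_add, hz0, zero_add, map_smul, map_one, smul_eq_mul, _root_.mul_one] at h0
  rw [h0, zero_smul, add_zero]
  exact hz'

theorem dq_one : dq K A 1 = 0 :=
  (Submodule.Quotient.mk_eq_zero _).2 (Submodule.mem_sup_right (Submodule.mem_span_singleton_self _))

theorem dq_algebraMap (c : K) : dq K A (algebraMap K A c) = 0 := by
  rw [Algebra.algebraMap_eq_smul_one, map_smul, dq_one, smul_zero]

theorem dq_mul (a b : A) : dq K A (a * b) =
    Bialgebra.counitAlgHom K A a • dq K A b + Bialgebra.counitAlgHom K A b • dq K A a := by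
  set c := Bialgebra.counitAlgHom K A a
  set d := Bialgebra.counitAlgHom K A b
  have h : (a - algebraMap K A c) * (b - algebraMap K A d) ∈ sqK K A :=
    Submodule.mem_sup_left (show _ ∈ aug K A ^ 2 by
      rw [pow_two]; exact Ideal.mul_mem_mul (sub_counit_mem a) (sub_counit_mem b))
  have h' : dq K A ((a - algebraMap K A c) * (b - algebraMap K A d)) = 0 := (Submodule.Quotient.mk_eq_zero _).2 h
  rw [show (a - algebraMap K A c) * (b - algebraMap K A d) =
    a * b - c • b - d • a + algebraMap K A (c * d) by simp [Algebra.smul_def, map_mul]; ring] at h'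
  rw [map_add, map_sub, map_sub, map_smul, map_smul, dq_algebraMap, add_zero, sub_sub, sub_eq_zero] at h'
  exact h'

/-- tangent functionals with values in an algebra -/
def IsTan {F : Type u} [CommRing F] [Algebra K F] (w : A →ₗ[K] F) : Prop :=
  ∀ b c, w (b * c) =
    algebraMap K F (Bialgebra.counitAlgHom K A b) * w c + algebraMap K F (Bialgebra.counitAlgHom K A c) * w b

variable {F : Type u} [CommRing F] [Algebra K F]

theorem isTan_comp (h : Omega0 K A →ₗ[K] F) : IsTan (h ∘ₗ dq K A) := fun b c => by
  simp only [LinearMap.comp_apply, dq_mul, map_add, map_smul, Algebra.smul_def]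

theorem IsTan.sqK_le {w : A →ₗ[K] F} (hw : IsTan w) : sqK K A ≤ LinearMap.ker w := by
  refine sup_le (fun z hz => LinearMap.mem_ker.2 ?_) ?_
  · have hz : z ∈ aug K A ^ 2 := hz
    rw [pow_two] at hz
    refine Submodule.mul_induction_on hz (fun a ha b hb => ?_) (fun a b ha hb => by rw [map_add, ha, hb, add_zero])
    rw [hw, RingHom.mem_ker.1 ha, RingHom.mem_ker.1 hb, map_zero, zero_mul, zero_mul, add_zero]
  · rw [Submodule.span_singleton_le_iff_mem, LinearMap.mem_ker]
    simpa using hw 1 1

section Finite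

variable [Algebra.FormallySmooth K A] [Algebra.FinitePresentation K A]

theorem finite_projective : Module.Finite K (Omega0 K A) ∧ Module.Projective K (Omega0 K A) := by
  letI : Module A (Omega0 K A) := Module.compHom _ (Bialgebra.counitAlgHom K A : A →+* K)
  have hsmul : ∀ (a : A) (v : Omega0 K A), a • v = Bialgebra.counitAlgHom K A a • v := fun a v => rfl
  haveI : IsScalarTower K A (Omega0 K A) := ⟨fun c a v => by rw [hsmul, hsmul, map_smul, smul_eq_mul, mul_smul]⟩
  let Dq : Derivation K A (Omega0 K A) :=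
    { toLinearMap := dq K A
      map_one_eq_zero' := dq_one
      leibniz' := fun a b => by rw [hsmul, hsmul, dq_mul] }
  let l := Dq.liftKaehlerDifferential
  obtain ⟨n, s, f, -, -, hsf⟩ := Module.Finite.exists_comp_eq_id_of_projective A Ω[A⁄K]
  let g : A →ₗ[K] (Fin n → K) := LinearMap.pi fun i =>
    (Bialgebra.counitAlgHom K A).toLinearMap ∘ₗ (LinearMap.proj i ∘ₗ f).restrictScalars K ∘ₗ
      (KaehlerDifferential.D K A).toLinearMap
  have hg : ∀ i, IsTan (F := K) (LinearMap.proj i ∘ₗ g) := fun i b c => by
    show Bialgebra.counitAlgHom K A (f (KaehlerDifferential.D K A (b * c)) i) = _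
    rw [Derivation.leibniz, map_add, map_smul, map_smul, Pi.add_apply, Pi.smul_apply, Pi.smul_apply, map_add,
      smul_eq_mul, smul_eq_mul, map_mul, map_mul, Algebra.algebraMap_self, RingHom.id_apply, RingHom.id_apply]
    rfl
  let g' : Omega0 K A →ₗ[K] (Fin n → K) := (sqK K A).liftQ g fun z hz =>
    LinearMap.mem_ker.2 (funext fun i => LinearMap.mem_ker.1 ((hg i).sqK_le hz))
  let h : (Fin n → K) →ₗ[K] Omega0 K A :=
    ∑ i, (LinearMap.proj i : (Fin n → K) →ₗ[K] K).smulRight (l (s (Pi.single i 1)))
  have hsplit : h ∘ₗ g' = LinearMap.id := by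
    refine LinearMap.ext fun v => ?_
    obtain ⟨b, rfl⟩ := Submodule.mkQ_surjective _ v
    show h (g b) = dq K A b
    have e : f (KaehlerDifferential.D K A b) = ∑ i, f (KaehlerDifferential.D K A b) i • Pi.single i (1 : A) :=
      pi_eq_sum_univ' _
    have e2 := congrArg (fun v => l (s v)) e
    simp only [map_sum, map_smul, hsmul] at e2
    rw [show s (f (KaehlerDifferential.D K A b)) = KaehlerDifferential.D K A b from LinearMap.congr_fun hsf _,
      Derivation.liftKaehlerDifferential_comp_D] at e2
    show h (g b) = Dq b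
    rw [e2]
    simp [h, g]
  exact ⟨Module.Finite.of_surjective h fun v => ⟨g' v, LinearMap.congr_fun hsplit v⟩,
    Module.Projective.of_split g' h hsplit⟩

instance : Module.Finite K (Omega0 K A) := finite_projective.1

instance : Module.Projective K (Omega0 K A) := finite_projective.2

end Finite

/-- The projector on a weight. -/
def wproj (m : Fin r → ℤ) : Omega0 K A →ₗ[K] Omega0 K A :=
  (sqK K A).mapQ (sqK K A) (pieceL φ m) (sup_le
    (fun _ hz => Submodule.mem_sup_left (piece_sq φ hz m))
    (Submodule.span_le.2 (Set.singleton_subset_iff.2 (Submodule.mem_sup_right (by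
      rw [pieceL_apply, piece_one]
      split_ifs
      · exact Submodule.mem_span_singleton_self _
      · exact zero_mem _)))))

theorem wproj_dq (m : Fin r → ℤ) (a : A) : wproj φ m (dq K A a) = dq K A (piece φ m a) := rfl

theorem wproj_wproj (m n : Fin r → ℤ) (v : Omega0 K A) :
    wproj φ m (wproj φ n v) = if n = m then wproj φ n v else 0 := by
  classical
  obtain ⟨a, rfl⟩ := Submodule.mkQ_surjective _ v
  show wproj φ m (wproj φ n (dq K A a)) = _
  rw [wproj_dq, wproj_dq, piece_piece]
  split_ifs with h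
  · rfl
  · exact map_zero _

/-- The cotangent vectors of a given weight. -/
abbrev OmegaW (m : Fin r → ℤ) : Submodule K (Omega0 K A) := LinearMap.range (wproj φ m)

/-- the projection on a weight space -/
def wto (m : Fin r → ℤ) : Omega0 K A →ₗ[K] OmegaW φ m := (wproj φ m).rangeRestrict

theorem wto_coe (m : Fin r → ℤ) (v : OmegaW φ m) : wto φ m v.1 = v := by
  obtain ⟨w, hw⟩ := v.2
  refine Subtype.ext ?_
  show wproj φ m v.1 = v.1
  rw [← hw, wproj_wproj, if_pos rfl]

/-- The tangent functionals of a given weight. -/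
def TanW (m : Fin r → ℤ) (F : Type u) [CommRing F] [Algebra K F] : Submodule F (A →ₗ[K] F) where
  carrier := {w | IsTan w ∧ ∀ n b, n ≠ m → w (piece φ n b) = 0}
  add_mem' {v w} hv hw := ⟨fun b c => by simp only [LinearMap.add_apply, hv.1 b c, hw.1 b c]; ring,
    fun n b h => by simp [hv.2 n b h, hw.2 n b h]⟩
  zero_mem' := ⟨fun b c => by simp, fun n b _ => rfl⟩
  smul_mem' c {w} hw := ⟨fun b c' => by simp only [LinearMap.smul_apply, smul_eq_mul, hw.1 b c']; ring,
    fun n b h => by simp [hw.2 n b h]⟩

theorem tanW_piece {m : Fin r → ℤ} {w : A →ₗ[K] F} (hw : w ∈ TanW φ m F) (b : A) : w (piece φ m b) = w b := by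
  classical
  conv_rhs => rw [← sum_piece φ b, map_sum]
  rw [Finset.sum_eq_single m (fun n _ hn => hw.2 n b hn) fun hm => by
    rw [piece, Finsupp.notMem_support_iff.1 hm, map_zero]]

/-- Tangent functionals are functionals on the cotangent space. -/
def tanEquiv (m : Fin r → ℤ) : (OmegaW φ m →ₗ[K] F) ≃ₗ[F] TanW φ m F where
  toFun h := ⟨h ∘ₗ wto φ m ∘ₗ dq K A, isTan_comp (h ∘ₗ wto φ m), fun n b hn => by
    show h (wto φ m (dq K A (piece φ n b))) = 0
    rw [show wto φ m (dq K A (piece φ n b)) = 0 from Subtype.ext (by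
      show wproj φ m (dq K A (piece φ n b)) = _
      rw [← wproj_dq, wproj_wproj, if_neg hn]; rfl), map_zero]⟩
  map_add' _ _ := Subtype.ext rfl
  map_smul' _ _ := Subtype.ext rfl
  invFun w := (sqK K A).liftQ w.1 w.2.1.sqK_le ∘ₗ (OmegaW φ m).subtype
  left_inv h := LinearMap.ext fun v => by
    obtain ⟨b, hb⟩ := Submodule.mkQ_surjective _ v.1
    have e : wto φ m (dq K A b) = v := by rw [show dq K A b = v.1 from hb, wto_coe]
    simp only [LinearMap.comp_apply, Submodule.subtype_apply, ← hb]
    show h (wto φ m (dq K A b)) = h v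
    rw [e]
  right_inv w := Subtype.ext (LinearMap.ext fun b => tanW_piece φ w.2 b)

theorem exists_roots_finset [Algebra.FormallySmooth K A] [Algebra.FinitePresentation K A] :
    ∃ S : Finset (Fin r → ℤ), (∀ m, m ∉ S → wproj φ m = 0) ∧ ∀ v, ∑ m ∈ S, wproj φ m v = v := by
  classical
  obtain ⟨s, hs⟩ := (inferInstance : Module.Finite K (Omega0 K A)).fg_top
  let rep : Omega0 K A → A := Function.surjInv (Submodule.mkQ_surjective (sqK K A))
  have hrep : ∀ v, dq K A (rep v) = v := Function.surjInv_eq _
  refine ⟨s.biUnion fun v => (torO φ (rep v)).coeff.support, fun m hm => LinearMap.ext_on hs fun v hv => ?_, ?_⟩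
  · rw [← hrep v, wproj_dq, piece, Finsupp.notMem_support_iff.1 fun h => hm (Finset.mem_biUnion.2 ⟨v, hv, h⟩)]
    exact map_zero _
  · have key : ∑ m ∈ s.biUnion (fun v => (torO φ (rep v)).coeff.support), wproj φ m = LinearMap.id := by
      refine LinearMap.ext_on hs fun v hv => ?_
      rw [LinearMap.sum_apply, LinearMap.id_apply, ← hrep v]
      simp only [wproj_dq, ← map_sum]
      congr 1
      refine (Finset.sum_subset (fun m h => Finset.mem_biUnion.2 ⟨v, hv, h⟩) fun m _ hm => ?_).symm.trans
        (sum_piece φ _)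
      rw [piece, Finsupp.notMem_support_iff.1 hm]
    exact fun v => (LinearMap.sum_apply _ _ _).symm.trans (LinearMap.congr_fun key v)

section Rank

variable [Algebra.FormallySmooth K A] [Algebra.FinitePresentation K A]

instance finite_omegaW (m : Fin r → ℤ) : Module.Finite K (OmegaW φ m) :=
  Module.Finite.of_surjective (wto φ m) (LinearMap.surjective_rangeRestrict _)

instance projective_omegaW (m : Fin r → ℤ) : Module.Projective K (OmegaW φ m) :=
  Module.Projective.of_split (OmegaW φ m).subtype (wto φ m) (LinearMap.ext fun v => wto_coe φ m v)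

/-- The multiplicity of a weight. -/
def mult (m : Fin r → ℤ) (p : PrimeSpectrum K) : ℕ := Module.rankAtStalk (R := K) (OmegaW φ m) p

theorem isLocallyConstant_mult (m : Fin r → ℤ) : IsLocallyConstant (mult φ m) := by
  haveI : Module.FinitePresentation K (OmegaW φ m) := Module.finitePresentation_of_projective K _
  exact Module.isLocallyConstant_rankAtStalk

theorem finrank_hom {N : Type u} [AddCommGroup N] [Module K N] [Module.Finite K N] [Module.Flat K N]
    (L : Type u) [Field L] [Algebra K L] :
    Module.finrank L (N →ₗ[K] L) =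
      Module.rankAtStalk (R := K) N ((⊥ : PrimeSpectrum L).comap (algebraMap K L)) := by
  let e : (N →ₗ[K] L) ≃ₗ[L] Module.Dual L (L ⊗[K] N) := LinearMap.liftBaseChangeEquiv L
  rw [e.finrank_eq, Subspace.dual_finrank_eq, ← Module.rankAtStalk_baseChange (S := L) ⊥,
    Module.rankAtStalk_eq_finrank_of_free, Pi.natCast_apply, Nat.cast_id]

theorem finrank_tanW (m : Fin r → ℤ) (L : Type u) [Field L] [Algebra K L] :
    Module.finrank L (TanW φ m L) = mult φ m ((⊥ : PrimeSpectrum L).comap (algebraMap K L)) :=
  (tanEquiv φ m).finrank_eq.symm.trans (finrank_hom L)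

theorem comap_bot_residueField (p : PrimeSpectrum K) :
    (⊥ : PrimeSpectrum p.asIdeal.ResidueField).comap (algebraMap K p.asIdeal.ResidueField) = p :=
  PrimeSpectrum.ext (Ideal.ker_algebraMap_residueField p.asIdeal)

theorem mult_eq_finrank (m : Fin r → ℤ) (p : PrimeSpectrum K) :
    mult φ m p = Module.finrank p.asIdeal.ResidueField (TanW φ m p.asIdeal.ResidueField) := by
  rw [finrank_tanW, comap_bot_residueField]

theorem exists_value_notMem {m : Fin r → ℤ} {p : PrimeSpectrum K} (h : mult φ m p ≠ 0) :
    ∃ (x : A) (w : A →ₗ[K] K), piece φ m x = x ∧ w ∈ TanW φ m K ∧ w x ∉ p.asIdeal := by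
  by_contra hcon
  push Not at hcon
  obtain ⟨n, s, f, -, -, hsf⟩ := Module.Finite.exists_comp_eq_id_of_projective K (OmegaW φ m)
  have hmem : ∀ (i : Fin n) (v : OmegaW φ m), f v i ∈ p.asIdeal := fun i v => by
    obtain ⟨b, hb⟩ := Submodule.mkQ_surjective (sqK K A) v.1
    have h1 := hcon (piece φ m b) (tanEquiv φ m (LinearMap.proj i ∘ₗ f)).1 (by rw [piece_piece, if_pos rfl])
      (tanEquiv φ m (LinearMap.proj i ∘ₗ f)).2
    rw [tanW_piece φ (tanEquiv φ m (LinearMap.proj i ∘ₗ f)).2] at h1
    have h2 : wto φ m (dq K A b) = v := by rw [show dq K A b = v.1 from hb, wto_coe]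
    change f (wto φ m (dq K A b)) i ∈ p.asIdeal at h1
    rwa [h2] at h1
  have hzero : ∀ g : OmegaW φ m →ₗ[K] p.asIdeal.ResidueField, g = 0 := fun g => by
    refine LinearMap.ext fun v => ?_
    rw [← LinearMap.id_apply (R := K) v, ← hsf, LinearMap.comp_apply, pi_eq_sum_univ' (f v), map_sum, map_sum]
    refine Finset.sum_eq_zero fun i _ => ?_
    rw [map_smul, map_smul, Algebra.smul_def,
      Ideal.algebraMap_residueField_eq_zero.2 (hmem i v), zero_mul]
  haveI : Subsingleton (OmegaW φ m →ₗ[K] p.asIdeal.ResidueField) := ⟨fun a b => by rw [hzero a, hzero b]⟩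
  refine h ?_
  rw [mult, ← comap_bot_residueField p, ← finrank_hom]
  exact Module.finrank_zero_of_subsingleton

end Rank

/-! ### base change -/

section BaseChange

variable (L : Type u) [CommRing L] [Algebra K L] {F : Type u} [CommRing F] [Algebra K F] [Algebra L F]
  [IsScalarTower K L F]

theorem counit_tmul' (c : L) (a : A) :
    Bialgebra.counitAlgHom L (L ⊗[K] A) (c ⊗ₜ a) = c * algebraMap K L (Bialgebra.counitAlgHom K A a) := by
  simp [TensorProduct.counit_tmul, Algebra.smul_def, mul_comm]

theorem tanW_restrict {m : Fin r → ℤ} {w : L ⊗[K] A →ₗ[L] F} (hw : w ∈ TanW (phiBC φ L) m F) :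
    (LinearMap.liftBaseChangeEquiv L).symm w ∈ TanW φ m F := by
  have e : ∀ a, (LinearMap.liftBaseChangeEquiv L).symm w a = w ((1 : L) ⊗ₜ a) := fun a => by
    rw [LinearMap.liftBaseChangeEquiv_symm_apply]
  refine ⟨fun b c => ?_, fun n b hn => ?_⟩
  · have h := hw.1 ((1 : L) ⊗ₜ b) ((1 : L) ⊗ₜ c)
    rw [Algebra.TensorProduct.tmul_mul_tmul, _root_.one_mul, counit_tmul', counit_tmul', _root_.one_mul,
      _root_.one_mul, ← IsScalarTower.algebraMap_apply, ← IsScalarTower.algebraMap_apply] at h
    rw [e, e, e]; exact h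
  · rw [e, ← piece_tmul]; exact hw.2 n _ hn

theorem tanW_extend {m : Fin r → ℤ} {w : A →ₗ[K] F} (hw : w ∈ TanW φ m F) :
    LinearMap.liftBaseChangeEquiv L w ∈ TanW (phiBC φ L) m F := by
  have e : ∀ (c : L) a, LinearMap.liftBaseChangeEquiv L w (c ⊗ₜ a) = algebraMap L F c * w a := fun c a => by
    rw [LinearMap.liftBaseChange_tmul, Algebra.smul_def]
  refine ⟨fun b c => ?_, fun n b hn => ?_⟩
  · induction b using TensorProduct.induction_on with
    | zero => simp
    | add p q hp hq => simp only [add_mul, map_add, hp, hq]; ring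
    | tmul x a =>
      induction c using TensorProduct.induction_on with
      | zero => simp
      | add p q hp hq => simp only [mul_add, map_add, hp, hq]; ring
      | tmul y b =>
        rw [Algebra.TensorProduct.tmul_mul_tmul, e, e, e, counit_tmul', counit_tmul', hw.1 a b]
        simp only [map_mul, ← IsScalarTower.algebraMap_apply K L F]
        ring
  · induction b using TensorProduct.induction_on with
    | zero => rw [← pieceL_apply, map_zero, map_zero]
    | add p q hp hq => rw [piece_add, map_add, hp, hq, add_zero]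
    | tmul c a => rw [piece_tmul, e, hw.2 n a hn, mul_zero]

/-- tangent functionals after base change -/
def tanBC (m : Fin r → ℤ) : TanW (phiBC φ L) m F ≃ₗ[F] TanW φ m F where
  toFun w := ⟨(LinearMap.liftBaseChangeEquiv L).symm w.1, tanW_restrict φ L w.2⟩
  map_add' u v := Subtype.ext (map_add _ _ _)
  map_smul' c v := Subtype.ext (LinearMap.ext fun a => by simp [LinearMap.liftBaseChangeEquiv_symm_apply])
  invFun w := ⟨LinearMap.liftBaseChangeEquiv L w.1, tanW_extend φ L w.2⟩
  left_inv w := Subtype.ext ((LinearMap.liftBaseChangeEquiv L).apply_symm_apply _)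
  right_inv w := Subtype.ext ((LinearMap.liftBaseChangeEquiv L).symm_apply_apply _)

theorem mult_baseChange [Algebra.FormallySmooth K A] [Algebra.FinitePresentation K A] (m : Fin r → ℤ)
    (q : PrimeSpectrum L) : mult (phiBC φ L) m q = mult φ m (q.comap (algebraMap K L)) := by
  letI : Algebra K q.asIdeal.ResidueField := Algebra.compHom _ (algebraMap K L)
  haveI : IsScalarTower K L q.asIdeal.ResidueField := IsScalarTower.of_algebraMap_eq fun _ => rfl
  rw [mult_eq_finrank, (tanBC φ L m).finrank_eq, finrank_tanW,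
    IsScalarTower.algebraMap_eq K L q.asIdeal.ResidueField, PrimeSpectrum.comap_comp_apply,
    comap_bot_residueField]

end BaseChange

/-! ### root lines -/

/-- A free root line. -/
theorem exists_line_gen [Algebra.FormallySmooth K A] [Algebra.FinitePresentation K A] {a : Fin r → ℤ}
    (h1 : ∀ p, mult φ a p = 1) {x : A} (hx : piece φ a x = x) {w : A →ₗ[K] K} (hw : w ∈ TanW φ a K)
    (hwx : w x = 1) (b : A) : dq K A (piece φ a b) = w b • dq K A x := by
  let v : OmegaW φ a := wto φ a (dq K A x)
  let f : OmegaW φ a →ₗ[K] K := (tanEquiv φ a).symm ⟨w, hw⟩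
  have hf : ∀ c, f (wto φ a (dq K A c)) = w c := fun c =>
    LinearMap.congr_fun (congrArg Subtype.val ((tanEquiv φ a).apply_symm_apply ⟨w, hw⟩)) c
  have hs : Function.Surjective f := fun c => ⟨c • v, by rw [map_smul, hf, hwx, smul_eq_mul, _root_.mul_one]⟩
  have hbij := Module.bijective_of_surjective_of_rankAtStalk_eq hs fun p hp => by
    haveI : Nontrivial K := (Ideal.Quotient.mk p).domain_nontrivial
    rw [Module.rankAtStalk_self]; exact h1 _
  have he : wto φ a (dq K A b) = w b • v := hbij.1 (by rw [map_smul, hf, hf, hwx, smul_eq_mul, _root_.mul_one])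
  have h2 := congrArg Subtype.val he
  change wproj φ a (dq K A b) = w b • wproj φ a (dq K A x) at h2
  rwa [wproj_dq, wproj_dq, hx] at h2

/-- The root line of a weight of multiplicity one, given that the other positive weights do not occur. -/
def RootVec.ofMult [Algebra.FormallySmooth K A] [Algebra.FinitePresentation K A] {nu : (Fin r → ℤ) →+ ℤ}
    {a : Fin r → ℤ} (pos : 0 < nu a) (h1 : ∀ p, mult φ a p = 1)
    (h0 : ∀ m, 0 < nu m → m ≠ a → ∀ p, mult φ m p = 0)
    (x : A) (hx : piece φ a x = x) (w : A →ₗ[K] K) (hw : w ∈ TanW φ a K) (hwx : w x = 1) : RootVec φ nu a where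
  pos := pos
  x := x
  hx := hx
  w := w
  hw b c := by simpa using hw.1 b c
  hw0 m b hm := hw.2 m b hm
  hwx := hwx
  gen m b hm := by
    have ha0 : a ≠ 0 := fun e => by rw [e, map_zero] at pos; exact pos.false
    have hm0 : m ≠ 0 := fun e => by rw [e, map_zero] at hm; exact hm.false
    by_cases hma : m = a
    · subst hma
      refine ⟨w b, mem_sq_of_mem_sqK ?_ ?_⟩
      · rw [← Submodule.Quotient.eq, Submodule.Quotient.mk_smul]
        exact exists_line_gen φ h1 hx hw hwx b
      · rw [map_sub, map_smul, RingHom.mem_ker.1 (counit_piece φ hm0 b), ← hx,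
          RingHom.mem_ker.1 (counit_piece φ ha0 x), smul_zero, sub_zero]
    · refine ⟨0, ?_⟩
      rw [zero_smul, sub_zero]
      refine mem_sq_of_mem_sqK ((Submodule.Quotient.mk_eq_zero _).1 ?_) (RingHom.mem_ker.1 (counit_piece φ hm0 b))
      haveI : Subsingleton (OmegaW φ m) := Module.rankAtStalk_eq_zero_iff_subsingleton.1 (funext (h0 m hm hma))
      show dq K A (piece φ m b) = 0
      rw [← wproj_dq]
      exact congrArg Subtype.val (Subsingleton.elim (wto φ m (dq K A b)) 0)

end Groth.L14.Splitting
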