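import Groth.Agent.L14.Luna.SemiRank.SplitField

/-!
# The data of a splitting
-/

set_option autoImplicit false
set_option linter.unusedSectionVars false
set_option linter.style.haveILetI false
set_option linter.deprecated false
set_option backward.isDefEq.respectTransparency.types false
set_option maxHeartbeats 1000000

universe u

open CategoryTheory CategoryTheory.Limits MonoidalCategory CartesianMonoidalCategory MonObj AlgebraicGeometry
open Groth.L25

noncomputable section

namespace Groth.L14.Splitting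

variable {r : ℕ}

/-- The reflection of a root and a coroot. -/
abbrev reflHom (l : (Fin r → ℤ) →+ ℤ) (a : Fin r → ℤ) : (Fin r → ℤ) →+ (Fin r → ℤ) :=
  AddMonoidHom.id _ - AddMonoidHom.mk' (fun m => l m • a) fun x y => by rw [map_add, add_smul]

variable {S : Scheme.{u}}

/-- The data of a splitting of `G` relative to `i`, valid over a subset of the base. -/
structure RootData (G T : Over S) [GrpObj G] [GrpObj T] (i : T ⟶ G) (r : ℕ) (U : Set S) where
  /-- the splitting of the torus -/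
  e : Grp.mk T ≅ Grp.mk (Red.DS S (Fin r → ℤ))
  /-- the roots -/
  roots : Finset (Fin r → ℤ)
  /-- the coroots -/
  lam : {a // a ∈ roots} → (Fin r → ℤ) →+ ℤ
  two : ∀ a, lam a a.1 = 2
  perm : ∀ a b : {a // a ∈ roots}, b.1 - lam a b.1 • a.1 ∈ roots
  coperm : ∀ (a b : {a // a ∈ roots}) (m : Fin r → ℤ), lam ⟨_, perm a b⟩ m = lam b (m - lam a m • a.1)
  rootHom : ∀ a : {a // a ∈ roots}, ∃ u : Red.Ga S ⟶ G,
    Red.IsRootHom i (e.hom.hom.hom ≫ Red.chi S a.1) u
  refl : ∀ a : {a // a ∈ roots}, ∃ n : 𝟙_ (Over S) ⟶ G, ∀ (X : Over S), (∀ y, X.hom y ∈ U) →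
    ∀ t : X ⟶ T, (toUnit X ≫ n) * (t ≫ i) * (toUnit X ≫ n)⁻¹ =
      t ≫ e.hom.hom.hom ≫ Red.DSmap S (reflHom (lam a) a.1) ≫ e.inv.hom.hom ≫ i
  dim : ∀ (L : Type u) [Field L] (θ : Spec (CommRingCat.of L) ⟶ S), (∀ y, θ y ∈ U) →
    topologicalKrullDim ↥(Red.bc θ G).left = ((r + roots.card : ℕ) : WithBot ℕ∞)

namespace RootData

variable {G T : Over S} [GrpObj G] [GrpObj T] {i : T ⟶ G} {U : Set S}

section Pairing

variable (R : RootData G T i r U)

theorem ne_zero (a : {a // a ∈ R.roots}) : a.1 ≠ 0 := fun h => by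
  have := R.two a
  rw [h, map_zero] at this
  exact two_ne_zero this.symm

theorem lam_injective : Function.Injective R.lam := by
  intro a b hab
  by_contra hne
  have hd : a.1 - b.1 ≠ 0 := fun h => hne (Subtype.ext (sub_eq_zero.1 h))
  have h2 : ∀ x : {a // a ∈ R.roots}, R.lam a x.1 = 2 → x.1 + (2 : ℤ) • (b.1 - a.1) ∈ R.roots :=
    fun x hx => by
      have h := R.perm b ⟨_, R.perm a x⟩
      have e : x.1 - R.lam a x.1 • a.1 - R.lam b (x.1 - R.lam a x.1 • a.1) • b.1 = x.1 + (2 : ℤ) • (b.1 - a.1) := by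
        rw [← hab, map_sub, map_zsmul, R.two a, hx, smul_eq_mul]
        module
      exact e ▸ h
  have hl : R.lam a (b.1 - a.1) = 0 := by
    rw [map_sub, R.two a, hab, R.two b, sub_self]
  have hmem : ∀ k : ℕ, ∃ x : {a // a ∈ R.roots}, x.1 = b.1 + (2 * (k : ℤ)) • (b.1 - a.1) := fun k => by
    induction k with
    | zero => exact ⟨b, by simp⟩
    | succ k ih =>
      obtain ⟨x, hx⟩ := ih
      refine ⟨⟨_, h2 x ?_⟩, ?_⟩
      · rw [hx, map_add, map_zsmul, hl, smul_zero, add_zero, hab, R.two b]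
      · show x.1 + _ = _
        rw [hx]
        push_cast
        module
  choose x hx using hmem
  haveI : IsAddTorsionFree (Fin r → ℤ) := inferInstance
  refine not_injective_infinite_finite x fun k l hkl => ?_
  have e := (hx k).symm.trans ((congrArg Subtype.val hkl).trans (hx l))
  rw [add_right_inj] at e
  have := smul_left_injective ℤ (fun h : b.1 - a.1 = 0 => hd (by rw [← neg_sub, h, neg_zero])) e
  omega

/-- The reflection as a permutation of the roots. -/
def reflPerm (a : {a // a ∈ R.roots}) : {a // a ∈ R.roots} ≃ {a // a ∈ R.roots} :=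
  Function.Involutive.toPerm (fun b => ⟨_, R.perm a b⟩) fun b => Subtype.ext (by
    show b.1 - R.lam a b.1 • a.1 - R.lam a (b.1 - R.lam a b.1 • a.1) • a.1 = b.1
    rw [map_sub, map_zsmul, R.two a, smul_eq_mul]
    module)

/-- The root datum. -/
def rootPairing : RootPairing {a // a ∈ R.roots} ℤ (Fin r → ℤ) (Module.Dual ℤ (Fin r → ℤ)) where
  toLinearMap := Module.Dual.eval ℤ (Fin r → ℤ)
  root := Function.Embedding.subtype _
  coroot := ⟨fun a => (R.lam a).toIntLinearMap, fun a b h => R.lam_injective (AddMonoidHom.ext fun m =>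
    LinearMap.congr_fun h m)⟩
  root_coroot_two := R.two
  reflectionPerm := R.reflPerm
  reflectionPerm_root := fun _ _ => rfl
  reflectionPerm_coroot := fun a b => LinearMap.ext fun m => by
    show R.lam b m - R.lam b a.1 * R.lam a m = R.lam ⟨_, R.perm a b⟩ m
    rw [R.coperm, map_sub, map_zsmul, smul_eq_mul, mul_comm]

end Pairing

variable (R : RootData G T i r U)

/-- The splitting given by the data. -/
def splitRed (hU : ∀ s, s ∈ U) (hG : Red.IsReductive G) (hT : Red.IsMaximalTorus i) : Red.SplitRed G where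
  T := T
  i := i
  M := Fin r → ℤ
  idx := {a // a ∈ R.roots}
  P := R.rootPairing
  pairing_eq := rfl
  u a := (R.rootHom a).choose
  reductive := hG
  maximalTorus := hT
  split := R.e
  rootHom a := (R.rootHom a).choose_spec
  refl a := by
    obtain ⟨n, hn⟩ := R.refl a
    refine ⟨n, fun X t => ?_⟩
    have e : (R.rootPairing.reflection a).toLinearMap.toAddMonoidHom = reflHom (R.lam a) a.1 :=
      AddMonoidHom.ext fun m => rfl
    rw [e]
    exact hn X (fun y => hU _) t
  dim_fibre s := by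
    rw [Module.finrank_fin_fun, Fintype.card_coe]
    exact R.dim _ (Red.geomPt s) fun y => hU _

section BC

variable {V : Scheme.{u}} (j : V ⟶ S)

omit [GrpObj G] [GrpObj T] in
theorem hom_mem (hj : ∀ v, j v ∈ U) (X : Over V) (y : (Over.mk (X.hom ≫ j) : Over S).left) :
    (Over.mk (X.hom ≫ j)).hom y ∈ U :=
  hj _

/-- The splitting of the torus after base change. -/
def eBC : Grp.mk (Red.bc j T) ≅ Grp.mk (Red.DS V (Fin r → ℤ)) :=
  (Over.pullback j).mapGrp.mapIso R.e ≪≫ Grp.mkIso' (SplitSub.bcDS j)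

theorem char_eBC {X : Over V} (t : X ⟶ Red.bc j T) :
    DSPts.char (t ≫ (R.eBC j).hom.hom.hom) = DSPts.char (NilAction.toBase j t ≫ R.e.hom.hom.hom) := by
  show DSPts.char (t ≫ (Over.pullback j).map R.e.hom.hom.hom ≫ (SplitSub.bcDS j).hom) = _
  rw [← Category.assoc, SplitSub.char_bcDS, Groth.L14.RankOne.toBase_comp_map]

include R in
theorem rootHom_bc [IsMonHom i] (a : {a // a ∈ R.roots}) : ∃ u : Red.Ga V ⟶ Red.bc j G,
    Red.IsRootHom ((Over.pullback j).map i) ((R.eBC j).hom.hom.hom ≫ Red.chi V a.1) u := by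
  obtain ⟨u, hum, huc, heq⟩ := R.rootHom a
  haveI := hum; haveI := huc
  haveI := Luna.SemiRank.isMonHom_map' j u
  haveI := Luna.SemiRank.isMonHom_bcGa j
  haveI : IsIso (Luna.SemiRank.bcGa j).inv.left := (Over.forget _).map_isIso _
  haveI : IsClosedImmersion ((Over.pullback j).map u).left :=
    MorphismProperty.overPullbackMap (P := @IsClosedImmersion) _ _ huc
  refine ⟨(Luna.SemiRank.bcGa j).inv ≫ (Over.pullback j).map u,
    inferInstanceAs (IsMonHom ((Luna.SemiRank.bcGa j).inv ≫ (Over.pullback j).map u)),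
    inferInstanceAs (IsClosedImmersion ((Luna.SemiRank.bcGa j).inv.left ≫ ((Over.pullback j).map u).left)),
    fun X t x => ?_⟩
  obtain ⟨y, hy, hyv⟩ := heq (Over.mk (X.hom ≫ j)) (NilAction.toBase j t)
    (NilAction.toBase j (x ≫ (Luna.SemiRank.bcGa j).inv))
  refine ⟨NilAction.ofBase j y ≫ (Luna.SemiRank.bcGa j).hom, ?_, ?_⟩
  · refine Luna.SemiRank.toBase_inj j ?_
    have hinv : ∀ z : X ⟶ Red.bc j G, NilAction.toBase j z⁻¹ = (NilAction.toBase j z)⁻¹ := fun z =>
      map_inv (MonoidHom.mk' (NilAction.toBase j : (X ⟶ Red.bc j G) → _) (NilAction.toBase_mul j)) z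
    simp only [Category.assoc, Iso.hom_inv_id_assoc, NilAction.toBase_mul, hinv]
    rw [← Category.assoc x, Groth.L14.RankOne.toBase_comp_map, Groth.L14.RankOne.toBase_comp_map,
      Groth.L14.RankOne.toBase_comp_map, NilAction.toBase_ofBase, hy]
  · rw [Luna.SemiRank.gaFn_bcGa, NilAction.toBase_ofBase, hyv]
    congr 1
    · rw [← Category.assoc t, Luna.SemiRank.gmFn_chi', char_eBC, ← Luna.SemiRank.gmFn_chi', Category.assoc]
    · rw [← Luna.SemiRank.gaFn_bcGa, Category.assoc, Iso.inv_hom_id, Category.comp_id]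

include R in
theorem refl_bc [IsMonHom i] (hj : ∀ v, j v ∈ U) (a : {a // a ∈ R.roots}) :
    ∃ n : 𝟙_ (Over V) ⟶ Red.bc j G, ∀ (X : Over V), (∀ y, X.hom y ∈ (Set.univ : Set V)) →
      ∀ t : X ⟶ Red.bc j T, (toUnit X ≫ n) * (t ≫ (Over.pullback j).map i) * (toUnit X ≫ n)⁻¹ =
        t ≫ (R.eBC j).hom.hom.hom ≫ Red.DSmap V (reflHom (R.lam a) a.1) ≫ (R.eBC j).inv.hom.hom ≫
          (Over.pullback j).map i := by
  obtain ⟨n, hn⟩ := R.refl a
  refine ⟨NilAction.ofBase j (toUnit _ ≫ n), fun X _ t => ?_⟩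
  let n' : 𝟙_ (Over V) ⟶ Red.bc j G := NilAction.ofBase j (toUnit _ ≫ n)
  have hn' : NilAction.toBase j (toUnit X ≫ n') = toUnit (Over.mk (X.hom ≫ j)) ≫ n := by
    rw [CentralLift.toBase_comp, NilAction.toBase_ofBase, ← Category.assoc]
    congr 1
  have hinv : ∀ z : X ⟶ Red.bc j G, NilAction.toBase j z⁻¹ = (NilAction.toBase j z)⁻¹ := fun z =>
    map_inv (MonoidHom.mk' (NilAction.toBase j : (X ⟶ Red.bc j G) → _) (NilAction.toBase_mul j)) z
  refine Luna.SemiRank.toBase_inj j ?_
  rw [NilAction.toBase_mul, NilAction.toBase_mul, hinv, hn', Groth.L14.RankOne.toBase_comp_map,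
    hn (Over.mk (X.hom ≫ j)) (fun y => hj _) (NilAction.toBase j t)]
  simp only [← Category.assoc]
  rw [Groth.L14.RankOne.toBase_comp_map]
  congr 1
  -- both are points of the torus with the same characters
  haveI : IsIso R.e.hom.hom.hom :=
    ⟨R.e.inv.hom.hom, congrArg (fun f => f.hom.hom) R.e.hom_inv_id, congrArg (fun f => f.hom.hom) R.e.inv_hom_id⟩
  rw [← cancel_mono R.e.hom.hom.hom]
  refine DSPts.char_injective ?_
  simp only [Category.assoc]
  rw [show R.e.inv.hom.hom ≫ R.e.hom.hom.hom = 𝟙 _ from congrArg (fun f => f.hom.hom) R.e.inv_hom_id,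
    Category.comp_id, ← char_eBC, Category.assoc, Category.assoc, Category.assoc,
    show (R.eBC j).inv.hom.hom ≫ (R.eBC j).hom.hom.hom = 𝟙 _ from
      congrArg (fun f => f.hom.hom) (R.eBC j).inv_hom_id, Category.comp_id]
  refine MonoidHom.ext fun m => ?_
  rw [← Category.assoc, ← Category.assoc t, SplitSub.char_DSmap, SplitSub.char_DSmap, char_eBC]

include R in
theorem dim_bc (hj : ∀ v, j v ∈ U) (L : Type u) [Field L] (θ : Spec (CommRingCat.of L) ⟶ V) :
    topologicalKrullDim ↥(Red.bc θ (Red.bc j G)).left = ((r + R.roots.card : ℕ) : WithBot ℕ∞) := by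
  rw [← R.dim L (θ ≫ j) fun y => hj _]
  exact IsHomeomorph.topologicalKrullDim_eq _
    ((Over.forget _).mapIso (ActBC.bcCompIso θ j G (rfl : θ ≫ j = θ ≫ j))).hom.homeomorph.isHomeomorph

/-- Base change of the data. -/
def bc [IsMonHom i] (hj : ∀ v, j v ∈ U) :
    RootData (Red.bc j G) (Red.bc j T) ((Over.pullback j).map i) r (Set.univ : Set V) where
  e := R.eBC j
  roots := R.roots
  lam := R.lam
  two := R.two
  perm := R.perm
  coperm := R.coperm
  rootHom := R.rootHom_bc j
  refl := R.refl_bc j hj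
  dim L _ θ _ := R.dim_bc j hj L θ

end BC

end RootData

end Groth.L14.Splitting
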