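import Groth.Agent.L14.Splitting.Roots
import Groth.Agent.L25.SplitSub.LocalChar

/-!
# The root datum near a point
-/

set_option autoImplicit false
set_option linter.unusedSectionVars false
set_option linter.style.haveILetI false
set_option linter.deprecated false
set_option backward.isDefEq.respectTransparency.types false
set_option maxHeartbeats 1000000

universe u

open CategoryTheory CategoryTheory.Limits MonoidalCategory CartesianMonoidalCategory MonObj AlgebraicGeometry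
open WithConv TensorProduct
open Groth.L25.Bridge (P)

noncomputable section

namespace Groth.L14.Splitting

variable {K : Type u} [CommRing K] {A : Type u} [CommRing A] [HopfAlgebra K A] {r : ℕ}

local notation "SK" => Spec (CommRingCat.of K)

/-- The roots are a given set at all points, with free root lines. -/
structure ConstRoots (φ : A →ₐc[K] AddMonoidAlgebra K (Fin r → ℤ)) (Φ : Finset (Fin r → ℤ)) : Prop where
  ne_zero : ∀ a ∈ Φ, a ≠ 0
  coord : ∀ a ∈ Φ, Nonempty (Coord φ a)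
  off : ∀ m, m ∉ Φ → m ≠ 0 → ∀ p, mult φ m p = 0

variable (φ : A →ₐc[K] AddMonoidAlgebra K (Fin r → ℤ)) [Algebra.FormallySmooth K A]
  [Algebra.FinitePresentation K A]

/-- near a point the roots are the roots at the point -/
theorem exists_roots_nhd (p : PrimeSpectrum K) :
    ∃ (Φ : Finset (Fin r → ℤ)) (f : K), f ∉ p.asIdeal ∧
      (∀ a ∈ Φ, a ≠ 0 ∧ ∃ (x : A) (w : A →ₗ[K] K), piece φ a x = x ∧ w ∈ TanW φ a K ∧ w x ∣ f) ∧
      ∀ m, m ∉ Φ → m ≠ 0 → ∀ q : PrimeSpectrum K, f ∉ q.asIdeal → mult φ m q = 0 := by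
  classical
  obtain ⟨S, hS, -⟩ := exists_roots_finset φ
  let Φ := S.filter fun m => m ≠ 0 ∧ mult φ m p ≠ 0
  have hzero : ∀ m, m ∉ S → ∀ q, mult φ m q = 0 := fun m hm q => by
    haveI : Subsingleton (OmegaW φ m) := ⟨fun v w => Subtype.ext (by
      obtain ⟨v', hv⟩ := v.2; obtain ⟨w', hw⟩ := w.2
      rw [← hv, ← hw, hS m hm]; rfl)⟩
    exact congrFun Module.rankAtStalk_eq_zero_of_subsingleton q
  choose x w hx hw hwx using fun a : {a // a ∈ Φ} => exists_value_notMem φ (Finset.mem_filter.1 a.2).2.2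
  let V : Set (PrimeSpectrum K) := ⋂ m ∈ S, {q | mult φ m q = mult φ m p}
  have hV : IsOpen V := isOpen_biInter_finset fun m _ =>
    (isLocallyConstant_mult φ m).isOpen_fiber _
  obtain ⟨_, ⟨g, rfl⟩, hgp, hgV⟩ := PrimeSpectrum.isTopologicalBasis_basic_opens.exists_subset_of_mem_open
    (show p ∈ V from Set.mem_iInter₂.2 fun m _ => rfl) hV
  refine ⟨Φ, g * ∏ a : {a // a ∈ Φ}, w a (x a), ?_, fun a ha => ⟨(Finset.mem_filter.1 ha).2.1,
    x ⟨a, ha⟩, w ⟨a, ha⟩, hx _, hw _, Dvd.dvd.mul_left (Finset.dvd_prod_of_mem _ (Finset.mem_univ _)) _⟩,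
    fun m hm hm0 q hq => ?_⟩
  · refine p.2.mul_notMem hgp ?_
    rw [Ideal.IsPrime.prod_mem_iff]
    rintro ⟨a, -, ha⟩
    exact hwx a ha
  · by_cases hmS : m ∈ S
    · have hqV : q ∈ V := hgV fun hg => hq (q.asIdeal.mul_mem_right _ hg)
      rw [Set.mem_iInter₂.1 hqV m hmS]
      by_contra h
      exact hm (Finset.mem_filter.2 ⟨hmS, hm0, h⟩)
    · exact hzero m hmS q

/-- over a local ring the roots are constant -/
theorem exists_constRoots_local [IsLocalRing K] : ∃ Φ, ConstRoots φ Φ := by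
  obtain ⟨Φ, f, hf, h1, h2⟩ := exists_roots_nhd φ (IsLocalRing.closedPoint K)
  have hfu : IsUnit f := by
    by_contra h
    exact hf ((IsLocalRing.mem_maximalIdeal f).2 h)
  refine ⟨Φ, fun a ha => (h1 a ha).1, fun a ha => ?_, fun m hm hm0 q => h2 m hm hm0 q fun hq =>
    q.2.ne_top (Ideal.eq_top_of_isUnit_mem _ hq hfu)⟩
  obtain ⟨x, w, hx, hw, hd⟩ := (h1 a ha).2
  obtain ⟨c, hc⟩ := isUnit_of_dvd_unit hd hfu
  refine ⟨⟨x, hx, ((c⁻¹ : Kˣ) : K) • w, (TanW φ a K).smul_mem _ hw, ?_⟩⟩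
  rw [LinearMap.smul_apply, smul_eq_mul, ← hc, Units.inv_mul]

/-- after localizing the roots are constant -/
theorem constRoots_baseChange (L : Type u) [CommRing L] [Algebra K L] {Φ : Finset (Fin r → ℤ)} {f : K}
    (hf : IsUnit (algebraMap K L f))
    (h1 : ∀ a ∈ Φ, a ≠ 0 ∧ ∃ (x : A) (w : A →ₗ[K] K), piece φ a x = x ∧ w ∈ TanW φ a K ∧ w x ∣ f)
    (h2 : ∀ m, m ∉ Φ → m ≠ 0 → ∀ q : PrimeSpectrum K, f ∉ q.asIdeal → mult φ m q = 0) :
    ConstRoots (phiBC φ L) Φ := by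
  refine ⟨fun a ha => (h1 a ha).1, fun a ha => ?_, fun m hm hm0 q => ?_⟩
  · obtain ⟨x, w, hx, hw, hd⟩ := (h1 a ha).2
    obtain ⟨c, hc⟩ := isUnit_of_dvd_unit (map_dvd (algebraMap K L) hd) hf
    let w' : A →ₗ[K] L := Algebra.linearMap K L ∘ₗ w
    have hw' : w' ∈ TanW φ a L := ⟨fun b b' => by
      show algebraMap K L (w (b * b')) = _ * algebraMap K L (w b') + _ * algebraMap K L (w b)
      rw [hw.1 b b', map_add, map_mul, map_mul, Algebra.algebraMap_self, RingHom.id_apply, RingHom.id_apply],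
      fun n b hn => by show algebraMap K L (w (piece φ n b)) = 0; rw [hw.2 n b hn, map_zero]⟩
    refine ⟨⟨(1 : L) ⊗ₜ x, by rw [piece_tmul, hx],
      ((c⁻¹ : Lˣ) : L) • LinearMap.liftBaseChangeEquiv L w', (TanW (phiBC φ L) a L).smul_mem _ (tanW_extend φ L hw'),
      ?_⟩⟩
    rw [LinearMap.smul_apply, smul_eq_mul]
    show _ * LinearMap.liftBaseChange L w' ((1 : L) ⊗ₜ x) = 1
    rw [LinearMap.liftBaseChange_tmul, one_smul, show w' x = algebraMap K L (w x) from rfl, ← hc, Units.inv_mul]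
  · rw [mult_baseChange]
    exact h2 m hm hm0 _ fun hq => q.2.ne_top (Ideal.eq_top_of_isUnit_mem _ hq hf)

theorem chi_torHom {X : Over SK} (t : X ⟶ Red.DS SK (Fin r → ℤ)) (a : Fin r → ℤ) (l : (Fin r → ℤ) →+ ℤ) :
    (t ≫ Red.chi SK a ≫ Red.DSmap SK l ≫ torHom φ)⁻¹ * (t ≫ torHom φ) =
      t ≫ Red.DSmap SK (AddMonoidHom.id _ - AddMonoidHom.mk' (fun m => l m • a) fun x y => by
        rw [map_add, add_smul]) ≫ torHom φ := by
  simp only [← Category.assoc]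
  rw [← @GrpObj.inv_comp _ _ _ _ _ _ _ _ _ (torHom φ) (isMonHom_torHom φ),
    ← @MonObj.mul_comp _ _ _ _ _ _ _ _ _ _ (torHom φ) (isMonHom_torHom φ)]
  congr 1
  refine Groth.L25.DSPts.char_injective (MonoidHom.ext fun m => ?_)
  let u : X ⟶ Red.DS SK (Fin r → ℤ) := (t ≫ Red.chi SK a) ≫ Red.DSmap SK l
  have hu : Groth.L25.DSPts.char u m = Groth.L25.DSPts.char t (Multiplicative.ofAdd (l m.toAdd • a)) := by
    rw [Groth.L25.SplitSub.char_DSmap, Red.chi, Groth.L25.SplitSub.char_DSmap]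
    rfl
  have hinv : Groth.L25.DSPts.char u⁻¹ m * Groth.L25.DSPts.char u m = 1 := by
    rw [← MonoidHom.mul_apply, ← Groth.L25.DSPts.char_mul, inv_mul_cancel, Groth.L25.DSPts.char_one,
      MonoidHom.one_apply]
  rw [Groth.L25.DSPts.char_mul, MonoidHom.mul_apply, Groth.L25.SplitSub.char_DSmap]
  show Groth.L25.DSPts.char u⁻¹ m * Groth.L25.DSPts.char t m =
    Groth.L25.DSPts.char t (Multiplicative.ofAdd (m.toAdd - l m.toAdd • a))
  have hsplit : Groth.L25.DSPts.char t m = Groth.L25.DSPts.char t (Multiplicative.ofAdd (m.toAdd - l m.toAdd • a)) *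
      Groth.L25.DSPts.char u m := by
    rw [hu, ← map_mul, ← ofAdd_add, sub_add_cancel, ofAdd_toAdd]
  rw [hsplit]
  linear_combination Groth.L25.DSPts.char t (Multiplicative.ofAdd (m.toAdd - l m.toAdd • a)) * hinv

/-- The root datum near a point, on opens where the coroots are linear. -/
theorem exists_datum_of {Φ : Finset (Fin r → ℤ)} (hR : ConstRoots φ Φ) (hG : Red.IsReductive (P K A))
    (hT : Red.IsMaximalTorus (torHom φ)) (p : PrimeSpectrum K)
    (Q : (Spec (CommRingCat.of K)).Opens → Prop)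
    (hloc : ∀ (w : {a // a ∈ Φ} → (Red.Gm SK ⟶ Red.DS SK (Fin r → ℤ))), (∀ a, IsMonHom (w a)) →
      ∃ U : (Spec (CommRingCat.of K)).Opens, p ∈ U ∧ Q U ∧ ∀ a, ∃ l : (Fin r → ℤ) →+ ℤ,
        ∀ (X : Over SK), (∀ y, X.hom y ∈ U) → ∀ t : X ⟶ Red.DS SK ℤ, t ≫ w a = t ≫ Red.DSmap SK l) :
    ∃ U : (Spec (CommRingCat.of K)).Opens, p ∈ U ∧ Q U ∧
      ∃ (lam : ∀ a ∈ Φ, (Fin r → ℤ) →+ ℤ),
        (∀ a ha, lam a ha a = 2) ∧
        (∀ a ha, ∀ b ∈ Φ, b - lam a ha b • a ∈ Φ) ∧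
        (∀ a ha b hb (h : b - lam a ha b • a ∈ Φ) m, lam _ h m = lam b hb (m - lam a ha m • a)) ∧
        (∀ a ∈ Φ, ∃ u : Red.Ga SK ⟶ P K A, Red.IsRootHom (torHom φ) (Red.chi SK a) u) ∧
        ∀ a ha, ∃ n : 𝟙_ (Over SK) ⟶ P K A, ∀ (X : Over SK), (∀ y, X.hom y ∈ U) →
          ∀ t : X ⟶ Red.DS SK (Fin r → ℤ), (toUnit X ≫ n) * (t ≫ torHom φ) * (toUnit X ≫ n)⁻¹ =
            t ≫ Red.DSmap SK (AddMonoidHom.id _ - AddMonoidHom.mk' (fun m => lam a ha m • a) fun x y => by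
              rw [map_add, add_smul]) ≫ torHom φ := by
  classical
  haveI := hT.1
  have hs := isMaximalTorus_spB hT
  have hmult : ∀ a ∈ Φ, mult φ a p ≠ 0 := fun a ha => mult_ne_zero_of_coord (hR.coord a ha).some p
  have hneg : ∀ a ∈ Φ, -a ∈ Φ := fun a ha => by
    by_contra h
    have h0 := hR.off _ h (neg_ne_zero.2 (hR.ne_zero a ha)) p
    rw [(mult_facts φ hG hs p (hR.ne_zero a ha) (hmult a ha)).2.1] at h0
    exact one_ne_zero h0
  choose up um av n hup hum hav hsq hconj using fun a : {a // a ∈ Φ} =>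
    exists_rankOne hG hT (hR.ne_zero a.1 a.2) (hR.coord a.1 a.2).some (hR.coord _ (hneg a.1 a.2)).some
  obtain ⟨U, hpU, hQ, hlamU⟩ := hloc av hav
  choose lam₀ hlam using hlamU
  -- the reflections
  have hrefl : ∀ (a : Fin r → ℤ) (ha : a ∈ Φ) (X : Over SK), (∀ y, X.hom y ∈ U) →
      ∀ t : X ⟶ Red.DS SK (Fin r → ℤ), (toUnit X ≫ n ⟨a, ha⟩) * (t ≫ torHom φ) * (toUnit X ≫ n ⟨a, ha⟩)⁻¹ =
        t ≫ Red.DSmap SK (AddMonoidHom.id _ - AddMonoidHom.mk' (fun m => lam₀ ⟨a, ha⟩ m • a) fun x y => by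
          rw [map_add, add_smul]) ≫ torHom φ := fun a ha X hX t => by
    rw [hconj ⟨a, ha⟩ X t, ← chi_torHom φ t a]
    congr 2
    have h := hlam ⟨a, ha⟩ X hX (t ≫ Red.chi SK a)
    simp only [Category.assoc] at h ⊢
    rw [reassoc_of% h]
  have htwo : ∀ a : {a // a ∈ Φ}, lam₀ a a.1 = 2 := fun a => by
    let F := p.asIdeal.ResidueField
    let B := AddMonoidAlgebra F ℤ
    let X : Over SK := (Spec (CommRingCat.of B)).asOver (Spec (CommRingCat.of K))
    have hX : ∀ y, X.hom y ∈ U := fun y => by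
      have e : X.hom y = p := by
        show PrimeSpectrum.comap (algebraMap K B) y = p
        rw [IsScalarTower.algebraMap_eq K F B, PrimeSpectrum.comap_comp_apply,
          Subsingleton.elim (PrimeSpectrum.comap (algebraMap F B) y) (⊥ : PrimeSpectrum F), comap_bot_residueField]
      rw [e]; exact hpU
    let z : X ⟶ Red.Gm SK := Groth.L25.DSPts.pt ((iotaSpec (K := K) B : B →* _).comp (AddMonoidAlgebra.of F ℤ))
    have h1 := hlam a X hX z
    have h2 : z ≫ av a ≫ Red.chi SK a.1 = z * z := by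
      rw [hsq a, MonObj.comp_pow, Category.comp_id, pow_two]
    rw [← Category.assoc, h1] at h2
    have h3 := congrArg (fun w => Groth.L25.DSPts.char w (Multiplicative.ofAdd (1 : ℤ))) h2
    simp only [Red.chi, Groth.L25.SplitSub.char_DSmap, Groth.L25.DSPts.char_mul, MonoidHom.mul_apply] at h3
    rw [← map_mul] at h3
    change Groth.L25.DSPts.char z (Multiplicative.ofAdd (lam₀ a ((zmultiplesHom _ a.1) 1))) = _ at h3
    rw [zmultiplesHom_apply, one_zsmul, Groth.L25.DSPts.char_pt, ← ofAdd_add] at h3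
    have h4 : (AddMonoidAlgebra.single (lam₀ a a.1) (1 : F) : B) = AddMonoidAlgebra.single (1 + 1) 1 :=
      (iotaSpec_bijective (K := K) B).1 h3
    exact AddMonoidAlgebra.single_left_inj one_ne_zero |>.1 h4
  choose g hg using fun a : {a // a ∈ Φ} => exists_val_section (n a)
  have hact : ∀ (a : Fin r → ℤ) (ha : a ∈ Φ), ActsPt φ (g ⟨a, ha⟩)
      (AddMonoidHom.id _ - AddMonoidHom.mk' (fun m => lam₀ ⟨a, ha⟩ m • a) fun x y => by rw [map_add, add_smul])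
      p.asIdeal.ResidueField := fun a ha =>
    actsPt_of_conj (hg ⟨a, ha⟩) (U := (U : Set SK)) (hrefl a ha) _ fun y => by
      show PrimeSpectrum.comap (algebraMap K p.asIdeal.ResidueField) y ∈ U
      rw [Subsingleton.elim y (⊥ : PrimeSpectrum p.asIdeal.ResidueField), comap_bot_residueField]
      exact hpU
  have hinvol : ∀ (a : Fin r → ℤ) (ha : a ∈ Φ) (m : Fin r → ℤ),
      (m - lam₀ ⟨a, ha⟩ m • a) - lam₀ ⟨a, ha⟩ (m - lam₀ ⟨a, ha⟩ m • a) • a = m := fun a ha m => by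
    rw [map_sub, map_zsmul, htwo ⟨a, ha⟩, smul_eq_mul]
    module
  have hperm : ∀ a ha, ∀ b ∈ Φ, b - lam₀ ⟨a, ha⟩ b • a ∈ Φ := fun a ha b hb => by
    by_contra h
    have h0 : b - lam₀ ⟨a, ha⟩ b • a ≠ 0 := fun e => hR.ne_zero b hb (by
      have := hinvol a ha b
      rw [e, map_zero, zero_smul, sub_zero] at this
      exact this.symm)
    exact mult_transform (hact a ha) (fun m => hinvol a ha m) (hmult b hb) (hR.off _ h h0 p)
  refine ⟨U, hpU, hQ, fun a ha => lam₀ ⟨a, ha⟩, ?_, ?_, ?_, ?_, ?_⟩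
  · exact fun a ha => htwo ⟨a, ha⟩
  · exact hperm
  rotate_left
  · exact fun a ha => ⟨up ⟨a, ha⟩, hup ⟨a, ha⟩⟩
  · exact fun a ha => ⟨n ⟨a, ha⟩, hrefl a ha⟩
  intro a ha b hb h m
  let sa : (Fin r → ℤ) →+ (Fin r → ℤ) :=
    AddMonoidHom.id _ - AddMonoidHom.mk' (fun m => lam₀ ⟨a, ha⟩ m • a) fun x y => by rw [map_add, add_smul]
  have key := eq_of_reflections (φ := φ) hG hT (p := p) (hR.ne_zero _ h) (l := lam₀ ⟨_, h⟩)
    (l' := (lam₀ ⟨b, hb⟩).comp sa) (htwo ⟨_, h⟩) (by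
      show lam₀ ⟨b, hb⟩ ((b - lam₀ ⟨a, ha⟩ b • a) - lam₀ ⟨a, ha⟩ (b - lam₀ ⟨a, ha⟩ b • a) • a) = 2
      rw [hinvol a ha b]; exact htwo ⟨b, hb⟩) (hact _ h)
    (by
      convert ((hact a ha).comp (hact b hb)).comp (hact a ha) using 1
      refine AddMonoidHom.ext fun x => ?_
      show x - lam₀ ⟨b, hb⟩ (x - lam₀ ⟨a, ha⟩ x • a) • (b - lam₀ ⟨a, ha⟩ b • a) =
        ((x - lam₀ ⟨a, ha⟩ x • a) - lam₀ ⟨b, hb⟩ (x - lam₀ ⟨a, ha⟩ x • a) • b) -
          lam₀ ⟨a, ha⟩ ((x - lam₀ ⟨a, ha⟩ x • a) - lam₀ ⟨b, hb⟩ (x - lam₀ ⟨a, ha⟩ x • a) • b) • a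
      simp only [map_sub, map_zsmul, htwo ⟨a, ha⟩, smul_eq_mul]
      module)
  exact DFunLike.congr_fun key m

/-- The root datum near a point. -/
theorem exists_datum {Φ : Finset (Fin r → ℤ)} (hR : ConstRoots φ Φ) (hG : Red.IsReductive (P K A))
    (hT : Red.IsMaximalTorus (torHom φ)) (p : PrimeSpectrum K) :
    ∃ U : (Spec (CommRingCat.of K)).Opens, p ∈ U ∧
      ∃ (lam : ∀ a ∈ Φ, (Fin r → ℤ) →+ ℤ),
        (∀ a ha, lam a ha a = 2) ∧
        (∀ a ha, ∀ b ∈ Φ, b - lam a ha b • a ∈ Φ) ∧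
        (∀ a ha b hb (h : b - lam a ha b • a ∈ Φ) m, lam _ h m = lam b hb (m - lam a ha m • a)) ∧
        (∀ a ∈ Φ, ∃ u : Red.Ga SK ⟶ P K A, Red.IsRootHom (torHom φ) (Red.chi SK a) u) ∧
        ∀ a ha, ∃ n : 𝟙_ (Over SK) ⟶ P K A, ∀ (X : Over SK), (∀ y, X.hom y ∈ U) →
          ∀ t : X ⟶ Red.DS SK (Fin r → ℤ), (toUnit X ≫ n) * (t ≫ torHom φ) * (toUnit X ≫ n)⁻¹ =
            t ≫ Red.DSmap SK (AddMonoidHom.id _ - AddMonoidHom.mk' (fun m => lam a ha m • a) fun x y => by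
              rw [map_add, add_smul]) ≫ torHom φ := by
  classical
  haveI : Monoid.FG (Multiplicative (Fin r → ℤ)) := inferInstance
  obtain ⟨U, hp, -, h⟩ := exists_datum_of φ hR hG hT p (fun _ => True) fun w hw => by
    choose U₀ hU₀ lam₀ hlam using fun a : {a // a ∈ Φ} =>
      haveI := hw a
      Groth.L25.SplitSub.exists_local_DSmap (w a) (show SK from p)
    refine ⟨⟨⋂ a : {a // a ∈ Φ}, (U₀ a : Set SK), isOpen_iInter_of_finite fun a => (U₀ a).2⟩,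
      Set.mem_iInter.2 hU₀, trivial, fun a => ⟨lam₀ a, fun X hX => hlam a X fun y => Set.mem_iInter.1 (hX y) a⟩⟩
  exact ⟨U, hp, h⟩

end Groth.L14.Splitting
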