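import Groth.Agent.L14.Splitting.Datum
import Groth.Agent.L14.Splitting.Data

/-!
# Splittings near a point
-/

set_option autoImplicit false
set_option linter.unusedSectionVars false
set_option linter.style.haveILetI false
set_option linter.deprecated false
set_option backward.isDefEq.respectTransparency.types false
set_option maxHeartbeats 1000000

universe u

open CategoryTheory CategoryTheory.Limits MonoidalCategory CartesianMonoidalCategory MonObj AlgebraicGeometry
open WithConv TensorProduct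
open Groth.L25.Bridge (P)

noncomputable section

namespace Groth.L14.Splitting

variable {K : Type u} [CommRing K] {A : Type u} [CommRing A] [HopfAlgebra K A] {r : ℕ}

local notation "SK" => Spec (CommRingCat.of K)

variable (φ : A →ₐc[K] AddMonoidAlgebra K (Fin r → ℤ)) [Algebra.FormallySmooth K A]
  [Algebra.FinitePresentation K A]

theorem mult_eq_zero_of_wproj {m : Fin r → ℤ} (h : wproj φ m = 0) (q : PrimeSpectrum K) : mult φ m q = 0 := by
  haveI : Subsingleton (OmegaW φ m) := ⟨fun v w => Subtype.ext (by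
    obtain ⟨v', hv⟩ := v.2; obtain ⟨w', hw⟩ := w.2
    rw [← hv, ← hw, h]; rfl)⟩
  exact congrFun Module.rankAtStalk_eq_zero_of_subsingleton q

section Field

variable (L : Type u) [Field L] [Algebra K L]

/-- the tangent space is the sum of the weight spaces -/
def tanSum {B : Type u} [CommRing B] [HopfAlgebra L B] (ψ : B →ₐc[L] AddMonoidAlgebra L (Fin r → ℤ))
    (S : Finset (Fin r → ℤ)) (hS : ∀ w ∈ Groth.L06.RootLines.Tan L B, ∀ b, ∑ m ∈ S, w (piece ψ m b) = w b) :
    Groth.L06.RootLines.Tan L B ≃ₗ[L] Π m : {m // m ∈ S}, Groth.L06.RootLines.Wt ψ m.1 where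
  toFun w m := ⟨w.1 ∘ₗ pieceL ψ m.1, Groth.L06.RootLines.comp_mem_Wt ψ w.2 m.1⟩
  map_add' _ _ := rfl
  map_smul' _ _ := rfl
  invFun v := ⟨∑ m, (v m).1, Submodule.sum_mem _ fun m _ => Groth.L06.RootLines.Wt_le ψ m.1 (v m).2⟩
  left_inv w := Subtype.ext (LinearMap.ext fun b => by
    show (∑ m : {m // m ∈ S}, w.1 ∘ₗ pieceL ψ m.1) b = w.1 b
    rw [LinearMap.sum_apply]
    exact (Finset.sum_coe_sort S fun m => w.1 (piece ψ m b)).trans (hS w.1 w.2 b))
  right_inv v := funext fun n => Subtype.ext (LinearMap.ext fun b => by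
    show (∑ m : {m // m ∈ S}, (v m).1) (piece ψ n.1 b) = (v n).1 b
    rw [LinearMap.sum_apply]
    exact (Finset.sum_eq_single n (fun m _ hm => (v m).2.2 n.1 b fun e => hm (Subtype.ext e).symm)
      (fun h => absurd (Finset.mem_univ _) h)).trans (Groth.L06.RootLines.Wt_apply ψ (v n).2 b))

set_option backward.isDefEq.respectTransparency false in
theorem dim_fibre {Φ : Finset (Fin r → ℤ)} (hR : ConstRoots φ Φ) (hG : Red.IsReductive (P K A))
    (hT : Red.IsMaximalTorus (torHom φ)) :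
    topologicalKrullDim ↥(P L (L ⊗[K] A)).left = ((r + Φ.card : ℕ) : WithBot ℕ∞) := by
  classical
  have hs := isMaximalTorus_spB hT
  obtain ⟨hGL, -⟩ := phiBC_data L φ hG hs
  haveI := hGL.2.1
  haveI : IsIso (𝟙 (P L (L ⊗[K] A))) := inferInstance
  rw [Groth.L06.RootLines.finrank_Tan_eq (𝟙 (P L (L ⊗[K] A)))]
  congr 2
  let q : PrimeSpectrum K := (⊥ : PrimeSpectrum L).comap (algebraMap K L)
  let ψ := phiBC φ L
  obtain ⟨S, hS0, hS⟩ := exists_roots_finset ψ
  have hzero : ∀ m, m ∉ S → mult φ m q = 0 := fun m hm => by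
    rw [← mult_baseChange φ L m ⊥]
    exact mult_eq_zero_of_wproj ψ (hS0 m hm) _
  have hWt : ∀ m, Module.finrank L (Groth.L06.RootLines.Wt ψ m) = mult φ m q := fun m => by
    rw [← tanW_eq L ψ m, (tanBC φ L m).finrank_eq, finrank_tanW]
  haveI : ∀ m, Module.Finite L (Groth.L06.RootLines.Wt ψ m) := fun m =>
    haveI := (Groth.L06.RootLines.finrank_Tan (K := L) (A := L ⊗[K] A)).1
    Submodule.finiteDimensional_of_le (Groth.L06.RootLines.Wt_le ψ m)
  have hsum : ∀ w ∈ Groth.L06.RootLines.Tan L (L ⊗[K] A), ∀ b, ∑ m ∈ S, w (piece ψ m b) = w b := fun w hw b => by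
    have hw' : IsTan (K := L) (A := L ⊗[K] A) w := fun b c => by simpa using hw b c
    let h := (sqK L (L ⊗[K] A)).liftQ w hw'.sqK_le
    have hh : ∀ c, h (dq L (L ⊗[K] A) c) = w c := fun c => rfl
    rw [← hh b, ← hS (dq L (L ⊗[K] A) b), map_sum]
    exact Finset.sum_congr rfl fun m _ => by rw [wproj_dq, hh]
  haveI : ∀ m : {m // m ∈ S}, Module.Free L (Groth.L06.RootLines.Wt ψ m.1) := fun m =>
    @Module.Free.of_divisionRing L (Groth.L06.RootLines.Wt ψ m.1) _ _ (Groth.L06.RootLines.Wt ψ m.1).module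
  rw [(tanSum L ψ S hsum).finrank_eq, Module.finrank_pi_fintype]
  simp only [hWt]
  rw [Finset.sum_coe_sort S fun m => mult φ m q,
    Finset.sum_subset (Finset.subset_union_left (s₂ := insert 0 Φ)) fun m _ hm => hzero m hm,
    ← Finset.sum_subset (Finset.subset_union_right (s₁ := S)) fun m _ hm =>
      hR.off m (fun h => hm (Finset.mem_insert_of_mem h)) (fun h => hm (h ▸ Finset.mem_insert_self _ _)) q,
    Finset.sum_insert fun h => hR.ne_zero 0 h rfl,
    mult_zero φ (fun C _ _ g hg => cent_P hG hT C g hg) (surjective_P hT) q,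
    Finset.sum_congr rfl fun a ha => (mult_facts φ hG hs q (hR.ne_zero a ha)
      (mult_ne_zero_of_coord (hR.coord a ha).some q)).1,
    Finset.sum_const, smul_eq_mul, _root_.mul_one]

end Field

/-- The data of a splitting from a root datum, in coordinates. -/
theorem exists_rootData_of_datum {Φ : Finset (Fin r → ℤ)} (hR : ConstRoots φ Φ) (hG : Red.IsReductive (P K A))
    (hT : Red.IsMaximalTorus (torHom φ)) {U : (Spec (CommRingCat.of K)).Opens}
    (h : ∃ (lam : ∀ a ∈ Φ, (Fin r → ℤ) →+ ℤ),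
        (∀ a ha, lam a ha a = 2) ∧
        (∀ a ha, ∀ b ∈ Φ, b - lam a ha b • a ∈ Φ) ∧
        (∀ a ha b hb (h : b - lam a ha b • a ∈ Φ) m, lam _ h m = lam b hb (m - lam a ha m • a)) ∧
        (∀ a ∈ Φ, ∃ u : Red.Ga SK ⟶ P K A, Red.IsRootHom (torHom φ) (Red.chi SK a) u) ∧
        ∀ a ha, ∃ n : 𝟙_ (Over SK) ⟶ P K A, ∀ (X : Over SK), (∀ y, X.hom y ∈ U) →
          ∀ t : X ⟶ Red.DS SK (Fin r → ℤ), (toUnit X ≫ n) * (t ≫ torHom φ) * (toUnit X ≫ n)⁻¹ =
            t ≫ Red.DSmap SK (AddMonoidHom.id _ - AddMonoidHom.mk' (fun m => lam a ha m • a) fun x y => by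
              rw [map_add, add_smul]) ≫ torHom φ) :
    ∃ R : RootData (P K A) (Red.DS SK (Fin r → ℤ)) (torHom φ) r (U : Set SK), R.roots = Φ ∧ R.e = Iso.refl _ := by
  obtain ⟨lam, htwo, hperm, hco, hu, hn⟩ := h
  refine ⟨
    { e := Iso.refl _
      roots := Φ
      lam := fun a => lam a.1 a.2
      two := fun a => htwo a.1 a.2
      perm := fun a b => hperm a.1 a.2 b.1 b.2
      coperm := fun a b m => hco a.1 a.2 b.1 b.2 _ m
      rootHom := fun a => ?_
      refl := fun a => ?_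
      dim := fun L _ θ _ => ?_ }, rfl, rfl⟩
  · obtain ⟨u, hu⟩ := hu a.1 a.2
    refine ⟨u, ?_⟩
    show Red.IsRootHom (torHom φ) (𝟙 _ ≫ Red.chi SK a.1) u
    rwa [Category.id_comp]
  · obtain ⟨n, hn⟩ := hn a.1 a.2
    refine ⟨n, fun X hX t => ?_⟩
    show _ = t ≫ 𝟙 _ ≫ Red.DSmap SK (reflHom (lam a.1 a.2) a.1) ≫ 𝟙 _ ≫ torHom φ
    rw [Category.id_comp, Category.id_comp]
    exact hn X hX t
  · obtain ⟨f, rfl⟩ : ∃ f, Spec.map f = θ := ⟨_, Spec.map_preimage θ⟩
    letI : Algebra K L := f.hom.toAlgebra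
    rw [← dim_fibre φ L hR hG hT]
    exact IsHomeomorph.topologicalKrullDim_eq _
      ((Over.forget _).mapIso ((Grp.forget _).mapIso (Groth.L25.Bridge.bcIso K A L))).hom.homeomorph.isHomeomorph

/-- The data of a splitting from a root datum. -/
theorem rootData_of_datum {Φ : Finset (Fin r → ℤ)} (hR : ConstRoots φ Φ) (hG : Red.IsReductive (P K A))
    (hT : Red.IsMaximalTorus (torHom φ)) {U : (Spec (CommRingCat.of K)).Opens}
    (h : ∃ (lam : ∀ a ∈ Φ, (Fin r → ℤ) →+ ℤ),
        (∀ a ha, lam a ha a = 2) ∧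
        (∀ a ha, ∀ b ∈ Φ, b - lam a ha b • a ∈ Φ) ∧
        (∀ a ha b hb (h : b - lam a ha b • a ∈ Φ) m, lam _ h m = lam b hb (m - lam a ha m • a)) ∧
        (∀ a ∈ Φ, ∃ u : Red.Ga SK ⟶ P K A, Red.IsRootHom (torHom φ) (Red.chi SK a) u) ∧
        ∀ a ha, ∃ n : 𝟙_ (Over SK) ⟶ P K A, ∀ (X : Over SK), (∀ y, X.hom y ∈ U) →
          ∀ t : X ⟶ Red.DS SK (Fin r → ℤ), (toUnit X ≫ n) * (t ≫ torHom φ) * (toUnit X ≫ n)⁻¹ =
            t ≫ Red.DSmap SK (AddMonoidHom.id _ - AddMonoidHom.mk' (fun m => lam a ha m • a) fun x y => by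
              rw [map_add, add_smul]) ≫ torHom φ) :
    Nonempty (RootData (P K A) (Red.DS SK (Fin r → ℤ)) (torHom φ) r (U : Set SK)) :=
  let ⟨R, _⟩ := exists_rootData_of_datum φ hR hG hT h
  ⟨R⟩

/-- The data of a splitting near a point, in coordinates. -/
theorem exists_rootData {Φ : Finset (Fin r → ℤ)} (hR : ConstRoots φ Φ) (hG : Red.IsReductive (P K A))
    (hT : Red.IsMaximalTorus (torHom φ)) (p : PrimeSpectrum K) :
    ∃ U : (Spec (CommRingCat.of K)).Opens, p ∈ U ∧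
      Nonempty (RootData (P K A) (Red.DS SK (Fin r → ℤ)) (torHom φ) r (U : Set SK)) :=
  let ⟨U, hp, h⟩ := exists_datum φ hR hG hT p
  ⟨U, hp, rootData_of_datum φ hR hG hT h⟩

namespace RootData

variable {S : Scheme.{u}} {G G' T T' : Over S} [GrpObj G] [GrpObj G'] [GrpObj T] [GrpObj T'] {i : T ⟶ G}
  {i' : T' ⟶ G'} {U : Set S}

/-- transport of the data along isomorphisms -/
def transport (R : RootData G T i r U) (eG : Grp.mk G ≅ Grp.mk G') (eT : Grp.mk T ≅ Grp.mk T')
    (h : eT.hom.hom.hom ≫ i' = i ≫ eG.hom.hom.hom) : RootData G' T' i' r U where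
  e := eT.symm ≪≫ R.e
  roots := R.roots
  lam := R.lam
  two := R.two
  perm := R.perm
  coperm := R.coperm
  rootHom a := by
    obtain ⟨u, hum, huc, heq⟩ := R.rootHom a
    haveI := hum; haveI := huc
    haveI : IsMonHom eG.hom.hom.hom := eG.hom.hom.isMonHom_hom
    haveI : IsIso eG.hom.hom.hom.left :=
      inferInstanceAs (IsIso ((Over.forget _).map ((Grp.forget _).mapIso eG).hom))
    have h' : i' = eT.inv.hom.hom ≫ i ≫ eG.hom.hom.hom := by
      rw [← h, ← Category.assoc, show eT.inv.hom.hom ≫ eT.hom.hom.hom = 𝟙 _ from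
        congrArg (fun f => f.hom.hom) eT.inv_hom_id, Category.id_comp]
    refine ⟨u ≫ eG.hom.hom.hom, inferInstance,
      inferInstanceAs (IsClosedImmersion (u.left ≫ eG.hom.hom.hom.left)), fun X t x => ?_⟩
    obtain ⟨y, hy, hyv⟩ := heq X (t ≫ eT.inv.hom.hom) x
    refine ⟨y, ?_, ?_⟩
    · rw [← Category.assoc, hy, MonObj.mul_comp, MonObj.mul_comp, GrpObj.inv_comp, h']
      simp only [Category.assoc]
    · rw [hyv]
      show _ = Red.gmFn (t ≫ (eT.inv.hom.hom ≫ R.e.hom.hom.hom) ≫ Red.chi S a.1) * _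
      simp only [Category.assoc]
  refl a := by
    obtain ⟨n, hn⟩ := R.refl a
    haveI : IsMonHom eG.hom.hom.hom := eG.hom.hom.isMonHom_hom
    have h' : i' = eT.inv.hom.hom ≫ i ≫ eG.hom.hom.hom := by
      rw [← h, ← Category.assoc, show eT.inv.hom.hom ≫ eT.hom.hom.hom = 𝟙 _ from
        congrArg (fun f => f.hom.hom) eT.inv_hom_id, Category.id_comp]
    refine ⟨n ≫ eG.hom.hom.hom, fun X hX t => ?_⟩
    have := congrArg (· ≫ eG.hom.hom.hom) (hn X hX (t ≫ eT.inv.hom.hom))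
    simp only [MonObj.mul_comp, GrpObj.inv_comp, Category.assoc] at this
    show _ = t ≫ (eT.inv.hom.hom ≫ R.e.hom.hom.hom) ≫ _ ≫ (R.e.inv.hom.hom ≫ eT.hom.hom.hom) ≫ i'
    simp only [Category.assoc]
    rw [h, h']
    exact this
  dim L _ θ hθ := by
    rw [← R.dim L θ hθ]
    haveI : IsIso eG.inv.hom.hom :=
      ⟨eG.hom.hom.hom, congrArg (fun f => f.hom.hom) eG.inv_hom_id, congrArg (fun f => f.hom.hom) eG.hom_inv_id⟩
    exact IsHomeomorph.topologicalKrullDim_eq _
      ((Over.forget _).mapIso ((Over.pullback θ).mapIso (asIso eG.inv.hom.hom))).hom.homeomorph.isHomeomorph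

end RootData

end Groth.L14.Splitting
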