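import Groth.Agent.L14.Splitting.Weights
import Groth.Agent.L25.Dyn.Cell
import Groth.Agent.L25.MultType.Diag

/-!
# Points conjugated by the torus, and naturality of the weight grading
-/

set_option autoImplicit false
set_option linter.unusedSectionVars false
set_option linter.deprecated false
set_option linter.style.haveILetI false
set_option backward.isDefEq.respectTransparency.types false
set_option maxHeartbeats 1000000

universe u

open TensorProduct WithConv AddMonoidAlgebra
open Groth.L25.Dyn (Pt pmap cO pr Hom hom_pr sum_pr resPt)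

noncomputable section

namespace Groth.L14.Splitting

variable {K : Type u} [CommRing K] {A : Type u} [CommRing A] [HopfAlgebra K A] {r : ℕ}
  (φ : A →ₐc[K] AddMonoidAlgebra K (Fin r → ℤ))

/-- components as linear maps -/
def pieceL (m : Fin r → ℤ) : A →ₗ[K] A :=
  { toFun := piece φ m
    map_add' := fun a b => piece_add φ a b m
    map_smul' := fun c a => by simp [piece] }

theorem pieceL_apply (m : Fin r → ℤ) (a : A) : pieceL φ m a = piece φ m a := rfl

theorem piece_piece [DecidableEq (Fin r → ℤ)] (m n : Fin r → ℤ) (a : A) :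
    piece φ m (piece φ n a) = if n = m then piece φ n a else 0 := by
  show (torO φ (piece φ n a)).coeff m = _
  rw [torO_piece, coeff_single_apply]

theorem piece_one (m : Fin r → ℤ) [DecidableEq (Fin r → ℤ)] :
    piece φ m (1 : A) = if (0 : Fin r → ℤ) = m then 1 else 0 := by
  show (torO φ 1).coeff m = _
  rw [map_one, AddMonoidAlgebra.one_def, coeff_single_apply]

theorem piece_sq {z : A} (hz : z ∈ aug K A ^ 2) (m : Fin r → ℤ) : piece φ m z ∈ aug K A ^ 2 := by
  rw [pow_two] at hz ⊢
  refine Submodule.mul_induction_on hz (fun a ha b hb => ?_) fun a b ha hb => ?_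
  · rw [piece_mul]
    exact Ideal.sum_mem _ fun i _ => Ideal.mul_mem_mul (piece_mem_aug φ ha i) (piece_mem_aug φ hb _)
  · rw [piece_add]; exact Ideal.add_mem _ ha hb

/-- a component is homogeneous for every one-parameter subgroup -/
theorem hom_piece (w : (Fin r → ℤ) →+ ℤ) (m : Fin r → ℤ) (a : A) : Hom (lamW φ w) (w m) (piece φ m a) := by
  show cO (lamW φ w) (piece φ m a) = _
  rw [← mapDomain_torO, torO_piece]
  exact AddMonoidAlgebra.mapDomain_single

/-- a homogeneous element of weight `m` -/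
theorem hom_of_piece_eq {w : (Fin r → ℤ) →+ ℤ} {m : Fin r → ℤ} {a : A} (h : piece φ m a = a) :
    Hom (lamW φ w) (w m) a := h ▸ hom_piece φ w m a

theorem torO_of_piece_eq {m : Fin r → ℤ} {a : A} (h : piece φ m a = a) : torO φ a = single m a := by
  conv_lhs => rw [← h]
  rw [torO_piece, h]

/-- the grading of a one-parameter subgroup is a coarsening -/
theorem pr_eq_sum (w : (Fin r → ℤ) →+ ℤ) (n : ℤ) (a : A) :
    pr (lamW φ w) n a = ∑ m ∈ (torO φ a).coeff.support.filter (fun m => w m = n), piece φ m a := by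
  classical
  conv_lhs => rw [← sum_piece φ a, map_sum]
  rw [Finset.sum_filter]
  exact Finset.sum_congr rfl fun m _ => (hom_piece φ w m a).pr_eq _

/-- the point of the torus of a character point -/
abbrev torPt {C : Type u} [CommRing C] [Algebra K C] (χ : AddMonoidAlgebra K (Fin r → ℤ) →ₐ[K] C) :
    Pt (k := K) A C := toConv (χ.comp (φ : A →ₐ[K] AddMonoidAlgebra K (Fin r → ℤ)))

/-- **conjugation by a point of the torus rescales the homogeneous coordinates** -/
theorem conj_apply {C : Type u} [CommRing C] [Algebra K C] (χ : AddMonoidAlgebra K (Fin r → ℤ) →ₐ[K] C)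
    (g : Pt (k := K) A C) {m : Fin r → ℤ} {a : A} (ha : piece φ m a = a) :
    (torPt φ χ * g * (torPt φ χ)⁻¹).ofConv a = χ (single m 1) * g.ofConv a := by
  let ev : AddMonoidAlgebra C (Fin r → ℤ) →ₐ[K] C :=
    AddMonoidAlgebra.liftNCAlgHom (AlgHom.id K C)
      ((χ : AddMonoidAlgebra K (Fin r → ℤ) →* C).comp (AddMonoidAlgebra.of K (Fin r → ℤ)))
      (fun _ _ => Commute.all _ _)
  have hev : ∀ (m : Fin r → ℤ) (c : C), ev (single m c) = c * χ (single m 1) := fun m c => by
    show AddMonoidAlgebra.liftNC _ _ (single m c) = _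
    rw [AddMonoidAlgebra.liftNC_single]
    rfl
  have h1 : pmap ev (torP φ C) = torPt φ χ := by
    refine WithConv.ext (AlgHom.ext fun b => ?_)
    show ev (mapAlgHom _ (Algebra.ofId K C) (φ b)) = χ (φ b)
    generalize φ b = x
    induction x using AddMonoidAlgebra.induction_linear with
    | zero => simp
    | add p q hp hq => simp only [map_add, hp, hq]
    | single m c =>
      rw [mapAlgHom_single, hev]
      show algebraMap K C c * χ (single m 1) = χ (single m c)
      rw [← Algebra.smul_def, ← map_smul, smul_single, smul_eq_mul, _root_.mul_one]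
  have h2 : pmap ev (pmap (cstM (M := Fin r → ℤ) C) g) = g := by
    refine WithConv.ext (AlgHom.ext fun b => ?_)
    show ev (single 0 (g.ofConv b)) = g.ofConv b
    rw [hev, show (single 0 1 : AddMonoidAlgebra K (Fin r → ℤ)) = 1 from rfl, map_one, _root_.mul_one]
  have h := congrArg (pmap ev) (mapAlgHom_torO φ g.ofConv)
  rw [map_mul, map_mul, map_inv, h1, toConv_ofConv, h2] at h
  rw [← h]
  show ev (mapAlgHom _ g.ofConv (torO φ a)) = _
  rw [torO_of_piece_eq φ ha, mapAlgHom_single, hev, mul_comm]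

/-- a point commuting with the torus kills the weights other than zero -/
theorem kills_of_torCommutes {C : Type u} [CommRing C] [Algebra K C] {g : A →ₐ[K] C} (h : TorCommutes φ g)
    {m : Fin r → ℤ} (hm : m ≠ 0) (a : A) : g (piece φ m a) = 0 := by
  classical
  have h1 := h (AddMonoidAlgebra C (Fin r → ℤ)) (cstM C) (mapAlgHom (Fin r → ℤ) (Algebra.ofId K C))
  have h2 : pmap (mapAlgHom (Fin r → ℤ) g) (toConv (torO φ)) = pmap (cstM C) (toConv g) := by
    rw [mapAlgHom_torO]
    exact mul_inv_eq_iff_eq_mul.2 h1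
  have h3 := congrArg (fun z : AddMonoidAlgebra C (Fin r → ℤ) => z.coeff m)
    (DFunLike.congr_fun (congrArg WithConv.ofConv h2) a)
  skip
  have h4 : (mapAlgHom (Fin r → ℤ) g (torO φ a)).coeff m = g (piece φ m a) := coeff_mapAlgHom _ _ _
  refine h4.symm.trans (h3.trans ?_)
  show (single (0 : Fin r → ℤ) (g a)).coeff m = 0
  rw [coeff_single_apply, if_neg fun e => hm e.symm]

/-! ### naturality -/

section Natural

variable {A' : Type u} [CommRing A'] [HopfAlgebra K A'] {φ' : A' →ₐc[K] AddMonoidAlgebra K (Fin r → ℤ)}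

theorem piece_natural (ψ : A →ₐc[K] A') (h : φ'.comp ψ = φ) (m : Fin r → ℤ) (a : A) :
    piece φ' m (ψ a) = ψ (piece φ m a) := by
  have hp : ∀ (C : Type u) [CommRing C] [Algebra K C] (x y : Pt (k := K) A' C),
      (toConv ((x * y).ofConv.comp (ψ : A →ₐ[K] A')) : Pt (k := K) A C) =
        toConv (x.ofConv.comp (ψ : A →ₐ[K] A')) * toConv (y.ofConv.comp (ψ : A →ₐ[K] A')) :=
    fun C _ _ x y => WithConv.ext (AlgHom.convMul_comp_bialgHom_distrib x y ψ)
  let P : Pt (k := K) A' (AddMonoidAlgebra A' (Fin r → ℤ)) →* Pt (k := K) A (AddMonoidAlgebra A' (Fin r → ℤ)) :=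
    MonoidHom.mk' (fun x => toConv (x.ofConv.comp (ψ : A →ₐ[K] A'))) (hp _)
  have ht : P (torP φ' A') = torP φ A' := by
    subst h
    rfl
  have hs : P (pmap (cstM (M := Fin r → ℤ) A') (toConv (AlgHom.id K A'))) =
      pmap (cstM (M := Fin r → ℤ) A') (toConv (ψ : A →ₐ[K] A')) := rfl
  have h2 : P (toConv (torO φ')) = pmap (mapAlgHom (Fin r → ℤ) (ψ : A →ₐ[K] A')) (toConv (torO φ)) := by
    rw [mapAlgHom_torO, torO, toConv_ofConv, map_mul, map_mul, map_inv, ht, hs]
  have h3 : torO φ' (ψ a) = mapAlgHom (Fin r → ℤ) (ψ : A →ₐ[K] A') (torO φ a) :=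
    DFunLike.congr_fun (congrArg WithConv.ofConv h2) a
  show (torO φ' (ψ a)).coeff m = _
  rw [h3, coeff_mapAlgHom]
  rfl

end Natural

/-! ### base change -/

section BaseChange

variable (L : Type u) [CommRing L] [Algebra K L]

/-- `L ⊗ K[M] ≅ L[M]` -/
def dBase (K : Type u) [CommRing K] (L : Type u) [CommRing L] [Algebra K L] (r : ℕ) :
    (L ⊗[K] AddMonoidAlgebra K (Fin r → ℤ)) ≃ₐc[L] AddMonoidAlgebra L (Fin r → ℤ) :=
  ((Groth.L25.MultType.baseChangeEquiv (R := K) (S := L)
      (AddMonoidAlgebra.toMultiplicativeBialgEquiv K K (Fin r → ℤ))).trans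
    (Groth.L25.MultType.scalarBialg K L (Multiplicative (Fin r → ℤ))).symm).trans
    (AddMonoidAlgebra.toMultiplicativeBialgEquiv L L (Fin r → ℤ)).symm

theorem dBase_tmul (c : L) (m : Fin r → ℤ) (x : K) :
    dBase K L r (c ⊗ₜ AddMonoidAlgebra.single m x) = AddMonoidAlgebra.single m (c * algebraMap K L x) := by
  have h1 : ∀ c : L, dBase K L r (c ⊗ₜ AddMonoidAlgebra.single m 1) = AddMonoidAlgebra.single m c := fun c => by
    show (AddMonoidAlgebra.toMultiplicativeBialgEquiv L L (Fin r → ℤ)).symm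
      ((Groth.L25.MultType.scalarBialg K L (Multiplicative (Fin r → ℤ))).symm
        (Groth.L25.MultType.baseChangeEquiv (R := K) (S := L)
          (AddMonoidAlgebra.toMultiplicativeBialgEquiv K K (Fin r → ℤ)) (c ⊗ₜ AddMonoidAlgebra.single m 1))) = _
    refine (AddMonoidAlgebra.toMultiplicativeBialgEquiv L L (Fin r → ℤ)).injective ?_
    refine ((AddMonoidAlgebra.toMultiplicativeBialgEquiv L L (Fin r → ℤ)).apply_symm_apply _).trans ?_
    refine (Groth.L25.MultType.scalarBialg K L (Multiplicative (Fin r → ℤ))).injective ?_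
    refine ((Groth.L25.MultType.scalarBialg K L (Multiplicative (Fin r → ℤ))).apply_symm_apply _).trans ?_
    have e1 : (Groth.L25.MultType.baseChangeEquiv (R := K) (S := L)
        (AddMonoidAlgebra.toMultiplicativeBialgEquiv K K (Fin r → ℤ))) (c ⊗ₜ AddMonoidAlgebra.single m 1) =
        c ⊗ₜ MonoidAlgebra.single (Multiplicative.ofAdd m) 1 := by
      simp [Groth.L25.MultType.baseChangeEquiv]
    have e2 : (AddMonoidAlgebra.toMultiplicativeBialgEquiv L L (Fin r → ℤ)) (AddMonoidAlgebra.single m c) =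
        MonoidAlgebra.single (Multiplicative.ofAdd m) c := by simp
    refine e1.trans (Eq.trans ?_ (congrArg (Groth.L25.MultType.scalarBialg K L (Multiplicative (Fin r → ℤ))) e2).symm)
    exact (Groth.L25.MultType.scalarHom_single K L _ (Multiplicative.ofAdd m) c).symm
  have e : c ⊗ₜ[K] (AddMonoidAlgebra.single m x : AddMonoidAlgebra K (Fin r → ℤ)) =
      (c * algebraMap K L x) ⊗ₜ[K] (AddMonoidAlgebra.single m 1 : AddMonoidAlgebra K (Fin r → ℤ)) := by
    rw [mul_comm c, ← Algebra.smul_def, TensorProduct.smul_tmul, AddMonoidAlgebra.smul_single', _root_.mul_one]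
  rw [e, h1]

/-- the base change of the torus of a coordinate ring -/
def phiBC : (L ⊗[K] A) →ₐc[L] AddMonoidAlgebra L (Fin r → ℤ) :=
  (dBase K L r : (L ⊗[K] AddMonoidAlgebra K (Fin r → ℤ)) →ₐc[L] AddMonoidAlgebra L (Fin r → ℤ)).comp
    (Bialgebra.TensorProduct.map (BialgHom.id L L) φ)

theorem phiBC_tmul (c : L) (a : A) : phiBC φ L (c ⊗ₜ a) = dBase K L r (c ⊗ₜ φ a) := by
  simp [phiBC]

theorem resPt_torP (D : Type u) [CommRing D] [Algebra K D] [Algebra L D] [IsScalarTower K L D] :
    resPt (k := K) (torP (phiBC φ L) D) = torP φ D := by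
  refine WithConv.ext (AlgHom.ext fun a => ?_)
  show mapAlgHom _ (Algebra.ofId L D) (phiBC φ L ((1 : L) ⊗ₜ a)) = mapAlgHom _ (Algebra.ofId K D) (φ a)
  rw [phiBC_tmul]
  generalize φ a = z
  induction z using AddMonoidAlgebra.induction_linear with
  | zero => simp
  | add u v hu hv => simp only [map_add, tmul_add, hu, hv]
  | single i x =>
    rw [dBase_tmul, _root_.one_mul, mapAlgHom_single, mapAlgHom_single]
    simp [Algebra.ofId_apply]

theorem torO_one_tmul (a : A) :
    torO (phiBC φ L) ((1 : L) ⊗ₜ a) =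
      mapAlgHom (Fin r → ℤ) (Algebra.TensorProduct.includeRight : A →ₐ[K] L ⊗[K] A) (torO φ a) := by
  have h : resPt (k := K) (toConv (torO (phiBC φ L))) =
      pmap (mapAlgHom (Fin r → ℤ) (Algebra.TensorProduct.includeRight : A →ₐ[K] L ⊗[K] A)) (toConv (torO φ)) := by
    rw [mapAlgHom_torO, torO, toConv_ofConv, map_mul, map_mul, map_inv, resPt_torP]
    congr 2
  exact DFunLike.congr_fun (congrArg WithConv.ofConv h) a

theorem piece_tmul (c : L) (a : A) (m : Fin r → ℤ) : piece (phiBC φ L) m (c ⊗ₜ a) = c ⊗ₜ piece φ m a := by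
  have h : (c ⊗ₜ[K] a : L ⊗[K] A) = c • ((1 : L) ⊗ₜ[K] a) := by
    rw [TensorProduct.smul_tmul', smul_eq_mul, _root_.mul_one]
  rw [h, ← pieceL_apply, map_smul, pieceL_apply]
  show c • (torO (phiBC φ L) ((1 : L) ⊗ₜ a)).coeff m = _
  rw [torO_one_tmul]
  simp [piece, TensorProduct.smul_tmul']

end BaseChange

end Groth.L14.Splitting
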