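import Groth.Agent.L14.Splitting.General
import Groth.Agent.S14754

/-!
# Global splittings over principal ideal domains
-/

set_option autoImplicit false
set_option linter.unusedSectionVars false
set_option linter.style.haveILetI false
set_option linter.deprecated false
set_option backward.isDefEq.respectTransparency.types false
set_option maxHeartbeats 1000000

universe u

open CategoryTheory CategoryTheory.Limits MonoidalCategory CartesianMonoidalCategory MonObj AlgebraicGeometry
open WithConv TensorProduct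
open Groth.L25.Bridge (P)
open Groth.L25

noncomputable section

namespace Groth.L14.Splitting

/-- maps of characters agreeing over an open around a point are equal -/
theorem char_map_unique {S : Scheme.{u}} {M N : Type} [AddCommGroup M] [AddCommGroup N] (s : S) {U : S.Opens}
    (hs : s ∈ U) {φ ψ : M →+ N}
    (h : ∀ (X : Over S), (∀ y, X.hom y ∈ U) → ∀ t : X ⟶ Red.DS S N, t ≫ Red.DSmap S φ = t ≫ Red.DSmap S ψ) :
    φ = ψ := by
  let θ : Spec (CommRingCat.of (S.residueField s)) ⟶ S := S.fromSpecResidueField s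
  refine Groth.Agent.S14754.DSmap_injective (k := S.residueField s) ?_
  let D := Red.DS (Spec (CommRingCat.of (S.residueField s))) N
  let t : Over.mk (D.hom ≫ θ) ⟶ Red.DS S N := NilAction.toBase θ (SplitSub.bcDS θ).inv
  have ht : DSPts.char t = DSPts.char (𝟙 D) :=
    (SplitSub.char_bcDS θ (SplitSub.bcDS θ).inv).symm.trans (congrArg DSPts.char (Iso.inv_hom_id _))
  have h1 := h (Over.mk (D.hom ≫ θ)) (fun y => by
    have e : θ (D.hom y) = s := Scheme.fromSpecResidueField_apply s _
    exact e.symm ▸ hs) t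
  rw [← Category.id_comp (Red.DSmap _ φ), ← Category.id_comp (Red.DSmap _ ψ)]
  refine DSPts.char_injective (MonoidHom.ext fun m => ?_)
  rw [SplitSub.char_DSmap, SplitSub.char_DSmap]
  have h2 := congrArg (fun z => DSPts.char z m) h1
  simp only [SplitSub.char_DSmap, ht] at h2
  exact h2

/-- on an irreducible base a homomorphism of split groups comes from a map of characters -/
theorem exists_global_DSmap {S : Scheme.{u}} [IrreducibleSpace S] {M N : Type} [AddCommGroup M] [AddCommGroup N]
    [Monoid.FG (Multiplicative M)] (w : Red.DS S N ⟶ Red.DS S M) [IsMonHom w] :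
    ∃ φ : M →+ N, w = Red.DSmap S φ := by
  choose U hU φ hφ using fun s : S => Groth.L25.SplitSub.exists_local_DSmap w s
  obtain ⟨s₀⟩ := (inferInstance : Nonempty S)
  have heq : ∀ s, φ s = φ s₀ := fun s => by
    obtain ⟨z, hz1, hz2⟩ := nonempty_preirreducible_inter (U s).2 (U s₀).2 ⟨s, hU s⟩ ⟨s₀, hU s₀⟩
    exact char_map_unique z (U := U s ⊓ U s₀) ⟨hz1, hz2⟩ fun X hX t => by
      rw [← hφ s X (fun y => (hX y).1) t, ← hφ s₀ X (fun y => (hX y).2) t]
  refine ⟨φ s₀, ?_⟩
  let D := Red.DS S N
  refine Over.OverMorphism.ext (Scheme.Cover.hom_ext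
    (Scheme.openCoverOfIsOpenCover D.left (fun s => D.hom ⁻¹ᵁ U s) ?_) _ _ fun s => ?_)
  · exact TopologicalSpace.IsOpenCover.mk (top_le_iff.1 fun x _ =>
      TopologicalSpace.Opens.mem_iSup.2 ⟨D.hom x, hU _⟩)
  · let t : Over.mk ((D.hom ⁻¹ᵁ U s).ι ≫ D.hom) ⟶ D := Over.homMk (D.hom ⁻¹ᵁ U s).ι
    have h := hφ s (Over.mk ((D.hom ⁻¹ᵁ U s).ι ≫ D.hom)) (fun y => y.2) t
    rw [heq s] at h
    exact congrArg CommaMorphism.left h

variable {K : Type u} [CommRing K] {A : Type u} [CommRing A] [HopfAlgebra K A] {r : ℕ}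

local notation "SK" => Spec (CommRingCat.of K)

variable (φ : A →ₐc[K] AddMonoidAlgebra K (Fin r → ℤ)) [Algebra.FormallySmooth K A]
  [Algebra.FinitePresentation K A]

/-- over a principal ideal domain a line has a coordinate -/
theorem exists_coord_pid [IsDomain K] [IsPrincipalIdealRing K] {a : Fin r → ℤ} (h : ∀ p, mult φ a p = 1) :
    Nonempty (Coord φ a) := by
  classical
  haveI : Module.IsTorsionFree K (OmegaW φ a) := inferInstance
  haveI : Module.Free K (OmegaW φ a) := Module.free_of_finite_type_torsion_free'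
  have hr : Module.finrank K (OmegaW φ a) = 1 := by
    have h1 := h ⟨⊥, Ideal.isPrime_bot⟩
    rwa [mult, Module.rankAtStalk_eq_finrank_of_free] at h1
  let b := Module.finBasisOfFinrankEq K (OmegaW φ a) hr
  obtain ⟨y, hy⟩ := Submodule.mkQ_surjective (sqK K A) (b 0).1
  have hp : piece φ a (piece φ a y) = piece φ a y := by rw [piece_piece, if_pos rfl]
  let f : OmegaW φ a →ₗ[K] K := b.coord 0
  refine ⟨⟨piece φ a y, hp, (tanEquiv φ a f).1, (tanEquiv φ a f).2, ?_⟩⟩
  show f (wto φ a (dq K A (piece φ a y))) = 1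
  have e : wto φ a (dq K A (piece φ a y)) = b 0 := by
    refine Subtype.ext ?_
    show wproj φ a (dq K A (piece φ a y)) = _
    rw [wproj_dq, hp, ← wproj_dq, show dq K A y = (b 0).1 from hy]
    exact congrArg Subtype.val (wto_coe φ a (b 0))
  rw [e]
  simp [f]

/-- over a principal ideal domain the roots are constant -/
theorem exists_constRoots_pid [IsDomain K] [IsPrincipalIdealRing K] (hG : Red.IsReductive (P K A))
    (hT : Red.IsMaximalTorus (torHom φ)) : ∃ Φ, ConstRoots φ Φ := by
  classical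
  obtain ⟨S, hS, -⟩ := exists_roots_finset φ
  let ξ : PrimeSpectrum K := ⟨⊥, Ideal.isPrime_bot⟩
  have hc : ∀ m p, mult φ m p = mult φ m ξ := fun m p =>
    (isLocallyConstant_mult φ m).apply_eq_of_preconnectedSpace p ξ
  let Φ := S.filter fun m => m ≠ 0 ∧ mult φ m ξ ≠ 0
  refine ⟨Φ, fun a ha => (Finset.mem_filter.1 ha).2.1, fun a ha => ?_, fun m hm hm0 p => ?_⟩
  · exact exists_coord_pid φ fun p => (mult_facts φ hG (isMaximalTorus_spB hT) p (Finset.mem_filter.1 ha).2.1
      (by rw [hc]; exact (Finset.mem_filter.1 ha).2.2)).1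
  · by_contra h
    refine hm (Finset.mem_filter.2 ⟨?_, hm0, hc m p ▸ h⟩)
    by_contra hmS
    exact h (mult_eq_zero_of_wproj φ (hS m hmS) p)

/-- over a principal ideal domain a split maximal torus gives a splitting -/
theorem exists_rootData_pid {K : Type u} [CommRing K] [IsDomain K] [IsPrincipalIdealRing K]
    {G T : Over (Spec (CommRingCat.of K))} [GrpObj G] [GrpObj T] (hG : Red.IsReductive G) (i : T ⟶ G)
    (hT : Red.IsMaximalTorus i) (e : Grp.mk T ≅ Grp.mk (Red.DS (Spec (CommRingCat.of K)) (Fin r → ℤ))) :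
    Nonempty (RootData G T i r (Set.univ : Set (Spec (CommRingCat.of K)))) := by
  obtain ⟨A, _, _, eG, φ, hφ, hG', hT', _, _⟩ := exists_coords_data hG i hT e
  obtain ⟨Φ, hR⟩ := exists_constRoots_pid φ hG' hT'
  haveI : IrreducibleSpace ↥(Spec (CommRingCat.of K)) := inferInstanceAs (IrreducibleSpace (PrimeSpectrum K))
  obtain ⟨U, -, rfl, h⟩ := exists_datum_of φ hR hG' hT' ⟨⊥, Ideal.isPrime_bot⟩ (fun U => U = ⊤) fun w hw =>
    ⟨⊤, trivial, rfl, fun a => by
      haveI := hw a
      obtain ⟨l, hl⟩ := exists_global_DSmap (w a)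
      exact ⟨l, fun X _ t => by rw [hl]⟩⟩
  obtain ⟨R⟩ := rootData_of_datum φ hR hG' hT' h
  rw [TopologicalSpace.Opens.coe_top] at R
  refine ⟨R.transport eG.symm e.symm ?_⟩
  show e.inv.hom.hom ≫ i = torHom φ ≫ eG.inv.hom.hom
  rw [hφ, Category.assoc, Category.assoc,
    show eG.hom.hom.hom ≫ eG.inv.hom.hom = 𝟙 _ from congrArg (fun f => f.hom.hom) eG.hom_inv_id, Category.comp_id]

end Groth.L14.Splitting
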