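import Groth.Agent.L14.Splitting.Centralizer
import Groth.Agent.L14.RankOne.DualPair
import Groth.Agent.L14.RankOne.WeylElt
import Groth.Agent.L14.Luna.SemiRank.Lattice
import Groth.Agent.L14.Luna.SemiRank.SplitField
import Groth.Agent.L14.Coroot.Coav

/-!
# The rank one pair of a root over any base ring
-/

set_option autoImplicit false
set_option linter.unusedSectionVars false
set_option linter.style.haveILetI false
set_option linter.deprecated false
set_option backward.isDefEq.respectTransparency.types false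
set_option maxHeartbeats 1000000

universe u

open CategoryTheory CategoryTheory.Limits MonoidalCategory CartesianMonoidalCategory MonObj AlgebraicGeometry
open WithConv TensorProduct
open Groth.L25.Bridge (P)

noncomputable section

namespace Groth.L14.Splitting

variable {K : Type u} [CommRing K] {A : Type u} [CommRing A] [HopfAlgebra K A] {r : ℕ}
  {φ : A →ₐc[K] AddMonoidAlgebra K (Fin r → ℤ)}

local notation "SK" => Spec (CommRingCat.of K)

/-- A coordinate and a functional on a weight, dual to each other. -/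
structure Coord (φ : A →ₐc[K] AddMonoidAlgebra K (Fin r → ℤ)) (a : Fin r → ℤ) : Type u where
  x : A
  hx : piece φ a x = x
  w : A →ₗ[K] K
  hw : w ∈ TanW φ a K
  hwx : w x = 1

theorem mult_ne_zero_of_coord [Algebra.FormallySmooth K A] [Algebra.FinitePresentation K A] {a : Fin r → ℤ}
    (c : Coord φ a) (p : PrimeSpectrum K) : mult φ a p ≠ 0 := by
  intro h
  let F := p.asIdeal.ResidueField
  haveI : Module.Finite F (OmegaW φ a →ₗ[K] F) := Module.Finite.equiv (LinearMap.liftBaseChangeEquiv F).symm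
  haveI : Module.Finite F (TanW φ a F) := Module.Finite.equiv (tanEquiv φ a)
  rw [mult_eq_finrank, Submodule.finrank_eq_zero] at h
  have hm : (Algebra.linearMap K F ∘ₗ c.w) ∈ TanW φ a F := by
    refine ⟨fun b b' => ?_, fun n b hn => ?_⟩
    · show algebraMap K F (c.w (b * b')) = _ * algebraMap K F (c.w b') + _ * algebraMap K F (c.w b)
      rw [c.hw.1 b b', map_add, map_mul, map_mul]
      simp
    · show algebraMap K F (c.w (piece φ n b)) = 0
      rw [c.hw.2 n b hn, map_zero]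
  rw [h, Submodule.mem_bot] at hm
  have := LinearMap.congr_fun hm c.x
  simp [c.hwx] at this

/-- coordinates pass to the centralizer of the kernel -/
theorem exists_coord_centralizer {r' : ℕ} (p : (Fin r → ℤ) →+ (Fin r' → ℤ)) {H : Type u} [CommRing H]
    [HopfAlgebra K H] {ψ : A →ₐc[K] H} {φZ : H →ₐc[K] AddMonoidAlgebra K (Fin r → ℤ)} (hs : Function.Surjective ψ)
    (hnat : φZ.comp ψ = φ)
    (hfac : ∀ (C : Type u) [CommRing C] [Algebra K C] (g : A →ₐ[K] C),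
      (∀ m b, p m ≠ 0 → g (piece φ m b) = 0) → ∃ g' : H →ₐ[K] C, g = g'.comp (ψ : A →ₐ[K] H))
    {a : Fin r → ℤ} (ha : p a = 0) (c : Coord φ a) : Nonempty (Coord φZ a) := by
  have hw1 : c.w 1 = 0 := by simpa using c.hw.1 1 1
  let gl : A →ₗ[K] DualNumber K :=
    Algebra.linearMap K (DualNumber K) ∘ₗ (Bialgebra.counitAlgHom K A).toLinearMap +
      (TrivSqZeroExt.inrHom K K).restrictScalars K ∘ₗ c.w
  have hgf : ∀ b, TrivSqZeroExt.fst (gl b) = Bialgebra.counitAlgHom K A b := fun b => by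
    simp [gl, TrivSqZeroExt.algebraMap_eq_inl']
  have hgs : ∀ b, TrivSqZeroExt.snd (gl b) = c.w b := fun b => by
    simp [gl, TrivSqZeroExt.algebraMap_eq_inl']
  let g : A →ₐ[K] DualNumber K := AlgHom.ofLinearMap gl
    (TrivSqZeroExt.ext (by rw [hgf, map_one]; rfl) (by rw [hgs, hw1]; rfl))
    (fun b b' => TrivSqZeroExt.ext (by rw [hgf, TrivSqZeroExt.fst_mul, hgf, hgf, map_mul])
      (by rw [hgs, TrivSqZeroExt.snd_mul, hgf, hgf, hgs, hgs, c.hw.1 b b', op_smul_eq_smul, smul_eq_mul, smul_eq_mul,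
        Algebra.algebraMap_self, RingHom.id_apply, RingHom.id_apply]))
  obtain ⟨g', hg'⟩ := hfac _ g fun m b hm => by
    have hma : m ≠ a := fun e => hm (e ▸ ha)
    have hm0 : m ≠ 0 := fun e => hm (e ▸ map_zero p)
    refine TrivSqZeroExt.ext ((hgf _).trans ?_) ((hgs _).trans ?_)
    · rw [RingHom.mem_ker.1 (counit_piece φ hm0 b)]; rfl
    · rw [c.hw.2 m b hma]; rfl
  have hfst : ∀ b, TrivSqZeroExt.fst (g' (ψ b)) = Bialgebra.counitAlgHom K H (ψ b) := fun b => by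
    rw [show g' (ψ b) = g b from (DFunLike.congr_fun hg' b).symm]
    exact (hgf b).trans (CoalgHomClass.counit_comp_apply ψ b).symm
  have hsnd : ∀ b, TrivSqZeroExt.snd (g' (ψ b)) = c.w b := fun b => by
    rw [show g' (ψ b) = g b from (DFunLike.congr_fun hg' b).symm]
    exact hgs b
  refine ⟨⟨ψ c.x, by rw [piece_natural φ ψ hnat, c.hx],
    (TrivSqZeroExt.sndHom K K).restrictScalars K ∘ₗ g'.toLinearMap, ⟨fun b b' => ?_, fun n b hn => ?_⟩,
    (hsnd c.x).trans c.hwx⟩⟩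
  · obtain ⟨b, rfl⟩ := hs b
    obtain ⟨b', rfl⟩ := hs b'
    show TrivSqZeroExt.snd (g' (ψ b * ψ b')) = _ * TrivSqZeroExt.snd (g' (ψ b')) + _ * TrivSqZeroExt.snd (g' (ψ b))
    rw [map_mul, TrivSqZeroExt.snd_mul, hfst, hfst, op_smul_eq_smul, smul_eq_mul, smul_eq_mul,
      Algebra.algebraMap_self, RingHom.id_apply, RingHom.id_apply]
  · obtain ⟨b, rfl⟩ := hs b
    show TrivSqZeroExt.snd (g' (piece φZ n (ψ b))) = 0
    rw [piece_natural φ ψ hnat, hsnd, c.hw.2 n b hn]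

/-- the rank one situation inside the centralizer -/
theorem exists_lineData [Algebra.FormallySmooth K A] [Algebra.FinitePresentation K A] (hG : Red.IsReductive (P K A))
    (hT : Red.IsMaximalTorus (torHom φ)) {a a₀ : Fin r → ℤ} (ha : a ≠ 0) {r' : ℕ}
    (p : (Fin r → ℤ) →+ (Fin r' → ℤ)) (hker : ∀ m, p m = 0 ↔ ∃ q : ℤ, m = q • a₀) (hpa : p a = 0)
    (hvan : ∀ m b, p m ≠ 0 → piece φ m b = 0) (c : Coord φ a) (c' : Coord φ (-a))
    (nu : (Fin r → ℤ) →+ ℤ) (hnu : 0 < nu a) : Nonempty (LineData φ nu a) := by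
  classical
  have hs := isMaximalTorus_spB hT
  have h1 : ∀ q, mult φ a q = 1 := fun q => (mult_facts φ hG hs q ha (mult_ne_zero_of_coord c q)).1
  have h1' : ∀ q, mult φ (-a) q = 1 := fun q =>
    (mult_facts φ hG hs q (neg_ne_zero.2 ha) (mult_ne_zero_of_coord c' q)).1
  obtain ⟨q₁, hq₁⟩ := (hker a).1 hpa
  have hnu0 : nu a₀ ≠ 0 := fun e => by rw [hq₁, map_zsmul, e, smul_zero] at hnu; exact hnu.false
  have hq₁0 : q₁ ≠ 0 := fun e => ha (by rw [hq₁, e, zero_smul])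
  have hoff : ∀ m, p m ≠ 0 → ∀ q, mult φ m q = 0 := fun m hm q => by
    have hz : wproj φ m = 0 := LinearMap.ext fun v => by
      obtain ⟨b, rfl⟩ := Submodule.mkQ_surjective _ v
      show wproj φ m (dq K A b) = 0
      rw [wproj_dq, hvan m b hm, map_zero]
    haveI : Subsingleton (OmegaW φ m) := ⟨fun v w => Subtype.ext (by
      obtain ⟨v', hv⟩ := v.2; obtain ⟨w', hw⟩ := w.2
      rw [← hv, ← hw, hz]; rfl)⟩
    exact congrFun Module.rankAtStalk_eq_zero_of_subsingleton q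
  have hother : ∀ m, nu m ≠ 0 → m ≠ a → m ≠ -a → ∀ q, mult φ m q = 0 := fun m hm hma hma' q => by
    by_contra h
    by_cases hpm : p m = 0
    swap
    · exact h (hoff m hpm q)
    obtain ⟨q₂, hq₂⟩ := (hker m).1 hpm
    rcases (mult_facts φ hG hs q ha (mult_ne_zero_of_coord c q)).2.2 m (fun e => hm (by rw [e, map_zero])) h
      (fun f hf => by
        rw [hq₁, map_zsmul, smul_eq_mul, mul_eq_zero] at hf
        rw [hq₂, map_zsmul, hf.resolve_left hq₁0, smul_zero]) with e | e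
    · exact hma e
    · exact hma' e
  refine ⟨{
    pos := RootVec.ofMult φ hnu h1 (fun m hm hma => hother m hm.ne' hma fun e => by
      rw [e, map_neg] at hm; linarith) c.x c.hx c.w c.hw c.hwx
    neg := RootVec.ofMult φ (nu := -nu) (a := -a) (by simpa using hnu) h1' (fun m hm hma => hother m (by
      rw [AddMonoidHom.neg_apply] at hm; linarith) (fun e => by
        rw [AddMonoidHom.neg_apply, e] at hm; linarith) hma) c'.x c'.hx c'.w c'.hw c'.hwx
    line := fun m b hm hm0 => hvan m b fun hpm => by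
      obtain ⟨q₂, hq₂⟩ := (hker m).1 hpm
      rw [hq₂, map_zsmul, smul_eq_mul, mul_eq_zero] at hm
      exact hm0 (by rw [hq₂, hm.resolve_right hnu0, zero_smul])
    cent := cent_P hG hT
    surj := surjective_P hT }⟩

theorem gmFn_chi_torus {X : Over SK} (t : X ⟶ Red.DS SK (Fin r → ℤ)) (m : Fin r → ℤ) :
    Red.gmFn (t ≫ Red.chi SK m) = charAlg t (AddMonoidAlgebra.single m 1) := by
  rw [Groth.L14.Luna.SemiRank.gmFn_chi', charAlg_single, one_smul]

theorem RootVec.conj_hom [Algebra.FormallySmooth K A] {nu : (Fin r → ℤ) →+ ℤ} {b : Fin r → ℤ}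
    (V : RootVec φ nu b) {X : Over SK} (t : X ⟶ Red.DS SK (Fin r → ℤ)) (x : X ⟶ Red.Ga SK) :
    ∃ x' : X ⟶ Red.Ga SK, x' ≫ V.hom = (t ≫ torHom φ) * (x ≫ V.hom) * (t ≫ torHom φ)⁻¹ ∧
      Red.gaFn x' = charAlg t (AddMonoidAlgebra.single b 1) * Red.gaFn x := by
  refine ⟨Groth.L25.GaPts.ptOfElt (charAlg t (AddMonoidAlgebra.single b 1) * Red.gaFn x), ?_,
    Groth.L25.GaPts.gaFn_ptOfElt _⟩
  rw [V.comp_hom, Groth.L25.GaPts.gaFn_ptOfElt, ← V.pt_conj, ofFn_mul, ofFn_mul, ofFn_inv, ← comp_torHom,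
    ← V.comp_hom]

theorem chi_geom_ne_one {a : Fin r → ℤ} (ha : a ≠ 0) (s : SK) :
    (Over.pullback (Red.geomPt s)).map (Red.chi SK a) ≠ 1 := by
  intro h
  let Ω := AlgebraicClosure ((Spec (CommRingCat.of K)).residueField s)
  obtain ⟨j, hj⟩ := Function.ne_iff.1 ha
  obtain ⟨w, hw⟩ := Groth.L14.Chev.Cell.exists_unit_zpow_ne_one (K := Ω) (k := a j) hj
  let Y : Over (Spec (CommRingCat.of Ω)) := Over.mk (𝟙 _)
  let X : Over SK := (Over.map (Red.geomPt s)).obj Y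
  let e := Scheme.ΓSpecIso (CommRingCat.of Ω)
  let χ : Multiplicative (Fin r → ℤ) →* Γ(X.left, ⊤) :=
    (show Ω →* Γ(X.left, ⊤) from e.inv.hom.toMonoidHom).comp ((Units.coeHom Ω).comp
      ((zpowersHom Ωˣ w).comp (AddMonoidHom.toMultiplicative (Pi.evalAddMonoidHom (fun _ => ℤ) j))))
  let t : X ⟶ Red.DS SK (Fin r → ℤ) := Groth.L25.DSPts.pt χ
  have h1 : (Over.pullback (Red.geomPt s)).map (Red.chi SK a) = (Over.pullback (Red.geomPt s)).map 1 :=
    h.trans (Functor.map_one _).symm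
  have h2 : t ≫ Red.chi SK a = t ≫ 1 := by
    refine ((Over.mapPullbackAdj (Red.geomPt s)).homEquiv Y _).injective ?_
    rw [Adjunction.homEquiv_naturality_right, Adjunction.homEquiv_naturality_right, h1]
  have h3 := congrArg Red.gmFn h2
  rw [MonObj.comp_one, GmPts.gmFn_one, Groth.L14.Luna.SemiRank.gmFn_chi', Groth.L25.DSPts.char_pt] at h3
  have h4 : e.inv.hom ((w ^ a j : Ωˣ) : Ω) = e.inv.hom 1 := h3.trans (map_one e.inv.hom).symm
  exact hw ((ConcreteCategory.bijective_of_isIso e.inv).1 h4)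

/-- The rank one pair of a root. -/
theorem exists_rankOne [Algebra.FormallySmooth K A] [Algebra.FinitePresentation K A] (hG : Red.IsReductive (P K A))
    (hT : Red.IsMaximalTorus (torHom φ)) {a : Fin r → ℤ} (ha : a ≠ 0) (c : Coord φ a) (c' : Coord φ (-a)) :
    ∃ (up um : Red.Ga SK ⟶ P K A) (av : Red.Gm SK ⟶ Red.DS SK (Fin r → ℤ)) (n : 𝟙_ (Over SK) ⟶ P K A),
      Red.IsRootHom (torHom φ) (Red.chi SK a) up ∧ Red.IsRootHom (torHom φ) (Red.chi SK (-a)) um ∧
      IsMonHom av ∧ av ≫ Red.chi SK a = (𝟙 (Red.Gm SK)) ^ 2 ∧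
      ∀ (X : Over SK) (t : X ⟶ Red.DS SK (Fin r → ℤ)),
        (toUnit X ≫ n) * (t ≫ torHom φ) * (toUnit X ≫ n)⁻¹ =
          (t ≫ Red.chi SK a ≫ av ≫ torHom φ)⁻¹ * (t ≫ torHom φ) := by
  classical
  obtain ⟨r', p, a₀, hp, -, hker, hpa, -⟩ := Groth.L14.Luna.SemiRank.exists_line_proj ha
  obtain ⟨H, _, _, ψ, φZ, hψs, hnat, hred, hTZ, hψc, hvan, hfac⟩ := exists_centralizer hG hT p hp
  obtain ⟨h1, h2⟩ := smooth_coords hred.2.1
  haveI := h1; haveI := h2
  obtain ⟨cZ⟩ := exists_coord_centralizer p hψs hnat hfac hpa c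
  obtain ⟨cZ'⟩ := exists_coord_centralizer p hψs hnat hfac (by rw [map_neg, hpa, neg_zero]) c'
  obtain ⟨nu, hnu⟩ : ∃ nu : (Fin r → ℤ) →+ ℤ, 0 < nu a := by
    obtain ⟨j, hj⟩ := Function.ne_iff.1 ha
    rcases lt_or_gt_of_ne hj with h | h
    · exact ⟨-Pi.evalAddMonoidHom (fun _ => ℤ) j, by simpa using h⟩
    · exact ⟨Pi.evalAddMonoidHom (fun _ => ℤ) j, h⟩
  obtain ⟨L⟩ := exists_lineData hred hTZ ha p hker hpa hvan cZ cZ' nu hnu
  haveI := hTZ.2.1
  haveI : IsMonHom (Red.chi SK a) := Groth.L25.TorusTorsion.isMonHom_DSmap SK _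
  have hpp : ∀ (X : Over SK) (t : X ⟶ Red.DS SK (Fin r → ℤ)) (x : X ⟶ Red.Ga SK), ∃ x' : X ⟶ Red.Ga SK,
      x' ≫ L.pos.hom = (t ≫ torHom φZ) * (x ≫ L.pos.hom) * (t ≫ torHom φZ)⁻¹ ∧
        Red.gaFn x' = Red.gmFn (t ≫ Red.chi SK a) * Red.gaFn x := fun X t x => by
    obtain ⟨x', e1, e2⟩ := L.pos.conj_hom t x
    exact ⟨x', e1, by rw [e2, gmFn_chi_torus]⟩
  have hpm : ∀ (X : Over SK) (t : X ⟶ Red.DS SK (Fin r → ℤ)) (y : X ⟶ Red.Ga SK), ∃ y' : X ⟶ Red.Ga SK,
      y' ≫ L.neg.hom = (t ≫ torHom φZ) * (y ≫ L.neg.hom) * (t ≫ torHom φZ)⁻¹ ∧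
        Red.gaFn y' * Red.gmFn (t ≫ Red.chi SK a) = Red.gaFn y := fun X t y => by
    obtain ⟨y', e1, e2⟩ := L.neg.conj_hom t y
    refine ⟨y', e1, ?_⟩
    rw [e2, gmFn_chi_torus, mul_right_comm, ← map_mul, AddMonoidAlgebra.single_mul_single, neg_add_cancel,
      _root_.mul_one, ← AddMonoidAlgebra.one_def, map_one, _root_.one_mul]
  obtain ⟨e, he, av, hav, hsys, -⟩ := Groth.L14.RankOne.exists_sys (i := torHom φZ) (α := Red.chi SK a)
    (pp := L.pos.hom) (pm := L.neg.hom) hred hTZ.2.2.1 L.isOpenImmersion_cell (chi_geom_ne_one ha) hpp hpm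
  haveI := he
  haveI := hav
  haveI : IsMonHom (spB ψ) := isMonHom_spB ψ
  haveI := hψc
  have hi : torHom φZ ≫ spB ψ = torHom φ := by rw [torHom_comp, hnat]
  have hroot : ∀ (b : Fin r → ℤ) (u : Red.Ga SK ⟶ P K H) [IsMonHom u] [IsClosedImmersion u.left],
      (∀ (X : Over SK) (t : X ⟶ Red.DS SK (Fin r → ℤ)) (x : X ⟶ Red.Ga SK), ∃ x' : X ⟶ Red.Ga SK,
        x' ≫ u = (t ≫ torHom φZ) * (x ≫ u) * (t ≫ torHom φZ)⁻¹ ∧
          Red.gaFn x' = charAlg t (AddMonoidAlgebra.single b 1) * Red.gaFn x) →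
      Red.IsRootHom (torHom φ) (Red.chi SK b) (u ≫ spB ψ) := by
    intro b u _ _ h
    refine ⟨inferInstance, ?_, fun X t x => ?_⟩
    · rw [Over.comp_left]
      exact MorphismProperty.comp_mem _ _ _ ‹IsClosedImmersion u.left› hψc
    · obtain ⟨x', e1, e2⟩ := h X t x
      refine ⟨x', ?_, by rw [e2, gmFn_chi_torus]⟩
      rw [← Category.assoc, e1, MonObj.mul_comp, MonObj.mul_comp, GrpObj.inv_comp, Category.assoc, Category.assoc,
        hi]
  refine ⟨L.pos.hom ≫ spB ψ, L.neg.hom ≫ spB ψ, av,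
    (Groth.L25.RankOne.rel hsys (𝟙_ (Over SK))).w 1 ≫ spB ψ, hroot a _ fun X t x => L.pos.conj_hom t x,
    hroot (-a) _ fun X t x => L.neg.conj_hom t x, hav, hsys.h2, fun X t => ?_⟩
  rw [← Category.assoc, Groth.L14.RankOne.comp_w_one hsys, ← hi]
  have h := Groth.L14.RankOne.w_conj_torus hsys (1 : (Γ(X.left, ⊤))ˣ) t
  have h' := congrArg (· ≫ spB ψ) h
  simp only [MonObj.mul_comp, GrpObj.inv_comp, Category.assoc] at h'
  exact h'

end Groth.L14.Splitting
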