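import Groth.Agent.L14.Splitting.Natural
import Groth.Agent.L25.Dyn.Unipotent
import Mathlib.RingTheory.Smooth.Basic
import Mathlib.Algebra.Polynomial.AlgebraMap
import Mathlib.RingTheory.Polynomial.Nilpotent

/-!
# The root group of a weight line, over any base ring

If the positive part of the cotangent space of a one-parameter subgroup is a free line spanned by a homogeneous
coordinate, then the subgroup of points with limit one is an additive group in that coordinate.
-/

set_option autoImplicit false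
set_option linter.unusedSectionVars false
set_option linter.style.haveILetI false
set_option backward.isDefEq.respectTransparency.types false
set_option maxHeartbeats 1000000

universe u

open TensorProduct WithConv Polynomial
open Groth.L25.Dyn (Pt pmap cO pr Hom hom_pr sum_pr jU NegKill ZeroUnit)

noncomputable section

namespace Groth.L14.Splitting

variable {K : Type u} [CommRing K] {A : Type u} [CommRing A] [HopfAlgebra K A] {r : ℕ}
  (φ : A →ₐc[K] AddMonoidAlgebra K (Fin r → ℤ))

/-- A free line of positive cotangent weights. -/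
structure RootVec (μ : (Fin r → ℤ) →+ ℤ) (a : Fin r → ℤ) : Type u where
  pos : 0 < μ a
  x : A
  hx : piece φ a x = x
  w : A →ₗ[K] K
  hw : ∀ b c, w (b * c) =
    Bialgebra.counitAlgHom K A b * w c + Bialgebra.counitAlgHom K A c * w b
  hw0 : ∀ m b, m ≠ a → w (piece φ m b) = 0
  hwx : w x = 1
  gen : ∀ m b, 0 < μ m → ∃ c : K, piece φ m b - c • x ∈ aug K A ^ 2

variable {φ} {μ : (Fin r → ℤ) →+ ℤ} {a : Fin r → ℤ} (V : RootVec φ μ a)

local notation "lam" => lamW φ μ

namespace RootVec

/-- The ideal of the root group. -/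
abbrev J (_V : RootVec φ μ a) : Ideal A := jU (lamW φ μ)

theorem hom_x : Hom lam (μ a) V.x := hom_of_piece_eq φ V.hx

theorem hom_pow (d : ℕ) : Hom lam (d * μ a) (V.x ^ d) := by
  induction d with
  | zero => simpa using Groth.L25.Dyn.hom_one lam
  | succ d ih =>
    rw [pow_succ]
    have h := ih.mul _ V.hom_x
    rwa [show ((d + 1 : ℕ) : ℤ) * μ a = d * μ a + μ a by push_cast; ring]

theorem mem_of_neg {n : ℤ} (hn : n < 0) {b : A} (hb : Hom lam n b) : b ∈ V.J :=
  Submodule.mem_sup_left (Ideal.subset_span ⟨n, hn, hb⟩)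

theorem mem_of_zero {b : A} (hb : Hom lam 0 b) :
    b - algebraMap K A (Coalgebra.counit (R := K) b) ∈ V.J :=
  Submodule.mem_sup_right (Ideal.subset_span ⟨b, hb, rfl⟩)

theorem pr_mem {b : A} (hb : b ∈ V.J) (n : ℤ) : pr lam n b ∈ V.J := by
  let I : Ideal A :=
    { carrier := {z | ∀ (c : A) (n : ℤ), pr lam n (c * z) ∈ V.J}
      add_mem' := fun {u v} hu hv c n => by rw [mul_add, map_add]; exact Ideal.add_mem _ (hu c n) (hv c n)
      zero_mem' := fun c n => by rw [mul_zero, map_zero]; exact Ideal.zero_mem _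
      smul_mem' := fun e z hz c n => by rw [smul_eq_mul, ← _root_.mul_assoc]; exact hz (c * e) n }
  have key : ∀ (p : ℤ) (y : A), Hom lam p y → y ∈ V.J → y ∈ I := fun p y hp hy c n => by
    rw [← sum_pr lam c, Finset.sum_mul, map_sum]
    refine Ideal.sum_mem _ fun q _ => ?_
    rw [((hom_pr lam q c).mul _ hp).pr_eq]
    split_ifs
    · exact V.J.mul_mem_left _ hy
    · exact Ideal.zero_mem _
  have hle : V.J ≤ I := by
    refine sup_le (Ideal.span_le.2 ?_) (Ideal.span_le.2 ?_)
    · rintro y ⟨p, hp, hy⟩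
      exact key p y hy (V.mem_of_neg hp hy)
    · rintro _ ⟨y, hy, rfl⟩
      refine key 0 _ ?_ (V.mem_of_zero hy)
      rw [sub_eq_add_neg, ← neg_one_smul K]
      exact hy.add _ ((Groth.L25.Dyn.hom_algebraMap lam _).smul _ _)
  have h := hle hb (1 : A) n
  rwa [_root_.one_mul] at h

theorem pr_gen {n : ℤ} (hn : 0 < n) (b : A) : ∃ c : K, pr lam n b - c • V.x ∈ aug K A ^ 2 := by
  classical
  rw [pr_eq_sum]
  generalize (AddMonoidAlgebra.coeff (torO φ b)).support = s
  suffices h : ∀ t : Finset (Fin r → ℤ), (∀ m ∈ t, μ m = n) →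
      ∃ c : K, ∑ m ∈ t, piece φ m b - c • V.x ∈ aug K A ^ 2 by
    exact h _ fun m hm => (Finset.mem_filter.1 hm).2
  intro t
  induction t using Finset.induction_on with
  | empty => exact fun _ => ⟨0, by simp⟩
  | @insert m t hm ih =>
    intro h
    obtain ⟨c, hc⟩ := ih fun m' hm' => h m' (Finset.mem_insert_of_mem hm')
    obtain ⟨d, hd⟩ := V.gen m b (by rw [h m (Finset.mem_insert_self _ _)]; exact hn)
    refine ⟨d + c, ?_⟩
    rw [Finset.sum_insert hm, add_smul, add_sub_add_comm]
    exact Ideal.add_mem _ hd hc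

/-- The coordinate on the quotient. -/
def π : K[X] →ₐ[K] A ⧸ V.J := Polynomial.aeval (Ideal.Quotient.mk V.J V.x)

theorem π_X : V.π X = Ideal.Quotient.mk V.J V.x := Polynomial.aeval_X _

theorem mk_mem_range_hom : ∀ (n : ℕ) (b : A), Hom lam (n : ℤ) b → Ideal.Quotient.mk V.J b ∈ V.π.range := by
  intro n
  induction n using Nat.strong_induction_on with
  | _ n ih =>
  intro b hb
  rcases Nat.eq_zero_or_pos n with rfl | hn
  · refine ⟨C (Coalgebra.counit (R := K) b), ?_⟩
    show V.π (C (Coalgebra.counit (R := K) b)) = Ideal.Quotient.mk V.J b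
    rw [π, Polynomial.aeval_C]
    exact (Ideal.Quotient.eq.2 (V.mem_of_zero hb)).symm
  obtain ⟨c, hc⟩ := V.pr_gen (n := (n : ℤ)) (by exact_mod_cast hn) b
  rw [hb.pr_eq, if_pos rfl] at hc
  have hx' : ∀ q : ℤ, Ideal.Quotient.mk V.J (pr lam q (c • V.x)) ∈ V.π.range := fun q => by
    rw [map_smul, V.hom_x.pr_eq]
    split_ifs
    · refine ⟨C c * X, ?_⟩
      show V.π (C c * X) = _
      rw [map_mul, V.π_X, π, Polynomial.aeval_C, Algebra.smul_def, map_mul]
      rfl
    · rw [smul_zero, map_zero]; exact zero_mem _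
  suffices hq : Ideal.Quotient.mk V.J (pr lam (n : ℤ) (b - c • V.x)) ∈ V.π.range by
    have h := add_mem hq (hx' n)
    rwa [← map_add, ← map_add, sub_add_cancel, hb.pr_eq, if_pos rfl] at h
  revert hc
  generalize b - c • V.x = z
  intro hz
  rw [pow_two] at hz
  refine Submodule.mul_induction_on hz (fun u hu v hv => ?_) fun u v hu hv => by
    rw [map_add, map_add]; exact add_mem hu hv
  conv => arg 2; rw [← sum_pr lam u, ← sum_pr lam v, Finset.sum_mul_sum, map_sum, map_sum]
  refine sum_mem fun p _ => ?_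
  rw [map_sum, map_sum]
  refine sum_mem fun q _ => ?_
  rw [((hom_pr lam p u).mul _ (hom_pr lam q v)).pr_eq]
  split_ifs with hpq
  swap; · rw [map_zero]; exact zero_mem _
  rw [map_mul]
  have hu0 : Bialgebra.counitAlgHom K A u = 0 := RingHom.mem_ker.1 hu
  have hv0 : Bialgebra.counitAlgHom K A v = 0 := RingHom.mem_ker.1 hv
  rw [Bialgebra.counitAlgHom_apply] at hu0 hv0
  by_cases hp : p ≤ 0
  · have : Ideal.Quotient.mk V.J (pr lam p u) = 0 := by
      rcases hp.lt_or_eq with hp | rfl
      · exact Ideal.Quotient.eq_zero_iff_mem.2 (V.mem_of_neg hp (hom_pr lam p u))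
      · have h := Ideal.Quotient.eq.2 (V.mem_of_zero (hom_pr lam 0 u))
        rw [Groth.L25.Dyn.counit_pr_zero, hu0, map_zero, map_zero] at h
        exact h
    rw [this, zero_mul]; exact zero_mem _
  by_cases hq : q ≤ 0
  · have : Ideal.Quotient.mk V.J (pr lam q v) = 0 := by
      rcases hq.lt_or_eq with hq | rfl
      · exact Ideal.Quotient.eq_zero_iff_mem.2 (V.mem_of_neg hq (hom_pr lam q v))
      · have h := Ideal.Quotient.eq.2 (V.mem_of_zero (hom_pr lam 0 v))
        rw [Groth.L25.Dyn.counit_pr_zero, hv0, map_zero, map_zero] at h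
        exact h
    rw [this, mul_zero]; exact zero_mem _
  obtain ⟨p', rfl⟩ : ∃ p' : ℕ, p = p' := ⟨p.toNat, by omega⟩
  obtain ⟨q', rfl⟩ : ∃ q' : ℕ, q = q' := ⟨q.toNat, by omega⟩
  exact mul_mem (ih p' (by omega) _ (hom_pr lam _ u)) (ih q' (by omega) _ (hom_pr lam _ v))

theorem π_surjective : Function.Surjective V.π := by
  intro z
  obtain ⟨b, rfl⟩ := Ideal.Quotient.mk_surjective z
  rw [← sum_pr lam b, map_sum]
  refine (sum_mem fun n _ => ?_ : _ ∈ V.π.range)
  by_cases hn : n < 0
  · rw [Ideal.Quotient.eq_zero_iff_mem.2 (V.mem_of_neg hn (hom_pr lam n b))]; exact zero_mem _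
  obtain ⟨m, rfl⟩ : ∃ m : ℕ, n = m := ⟨n.toNat, by omega⟩
  exact V.mk_mem_range_hom m _ (hom_pr lam _ b)

/-- The tangent point of the coordinate. -/
theorem exists_tangent : ∃ g : A →ₐ[K] K[X] ⧸ Ideal.span {(X : K[X]) ^ 2},
    (∀ b ∈ V.J, g b = 0) ∧ g V.x = Ideal.Quotient.mk _ X := by
  let Q := K[X] ⧸ Ideal.span {(X : K[X]) ^ 2}
  let t : Q := Ideal.Quotient.mk _ X
  have ht : t * t = 0 := by
    rw [← map_mul, ← pow_two]
    exact Ideal.Quotient.eq_zero_iff_mem.2 (Ideal.mem_span_singleton_self _)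
  have hw1 : V.w 1 = 0 := by simpa using V.hw 1 1
  let L : A →ₗ[K] Q := Algebra.linearMap K Q ∘ₗ (Coalgebra.counit (R := K) (A := A)) + LinearMap.mulRight K t ∘ₗ Algebra.linearMap K Q ∘ₗ V.w
  let g : A →ₐ[K] Q := AlgHom.ofLinearMap L (by simp [L, hw1]) fun b c => by
    simp only [L, LinearMap.add_apply, LinearMap.comp_apply, Algebra.linearMap_apply, LinearMap.mulRight_apply,
      Bialgebra.counit_mul, map_mul, V.hw, Bialgebra.counitAlgHom_apply, map_add]
    linear_combination -(algebraMap K Q (V.w b) * algebraMap K Q (V.w c)) * ht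
  have hgb : ∀ b, g b = algebraMap K Q (Coalgebra.counit (R := K) b) + algebraMap K Q (V.w b) * t := fun b => rfl
  refine ⟨g, ?_, ?_⟩
  · have hwpr : ∀ n ≤ 0, ∀ b, V.w (pr lam n b) = 0 := fun n hn b => by
      rw [pr_eq_sum, map_sum]
      refine Finset.sum_eq_zero fun m hm => V.hw0 m b fun e => ?_
      have := (Finset.mem_filter.1 hm).2
      rw [e] at this
      linarith [V.pos]
    refine (Groth.L25.Dyn.kills_jU lam g).2 ⟨fun n hn b hb => ?_, fun b hb => ?_⟩
    · have h := hwpr n hn.le b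
      rw [hb.pr_eq, if_pos rfl] at h
      rw [hgb, h, Groth.L25.Dyn.counit_eq_zero lam hb hn.ne, map_zero, zero_mul, add_zero]
    · have h := hwpr 0 le_rfl b
      rw [hb.pr_eq, if_pos rfl] at h
      rw [hgb, h, map_zero, zero_mul, add_zero]
  · rw [hgb, V.hwx, map_one, _root_.one_mul, Groth.L25.Dyn.counit_eq_zero lam V.hom_x V.pos.ne', map_zero, zero_add]

variable [Algebra.FormallySmooth K A]

theorem formallySmooth_quotient : Algebra.FormallySmooth K (A ⧸ V.J) :=
  Groth.L25.Dyn.formallySmooth_of_lifts (Groth.L25.Dyn.represents_jU lam)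
    fun B _ _ J hJ g hg => Groth.L25.Dyn.exists_unit_lift lam hJ g hg

theorem smul_pow_notMem {c : K} {q : ℕ} (h : c • V.x ^ q ∈ V.J) : c = 0 := by
  haveI := V.formallySmooth_quotient
  obtain ⟨g, hg, hgx⟩ := V.exists_tangent
  let I₁ := Ideal.span {(X : K[X]) ^ (q + 2)}
  let I₂ := Ideal.span {(X : K[X]) ^ 2}
  have hle : I₁ ≤ I₂ := Ideal.span_singleton_le_span_singleton.2 (pow_dvd_pow _ (by omega))
  let p : K[X] ⧸ I₁ →ₐ[K] K[X] ⧸ I₂ := Ideal.Quotient.factorₐ K hle
  have hp : Function.Surjective p := Ideal.Quotient.factor_surjective hle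
  have hnil : IsNilpotent (RingHom.ker (p : K[X] ⧸ I₁ →+* K[X] ⧸ I₂)) := by
    refine ⟨q + 2, ?_⟩
    rw [Submodule.zero_eq_bot, eq_bot_iff]
    refine (Ideal.pow_right_mono (J := Ideal.map (Ideal.Quotient.mk I₁) I₂) ?_ _).trans ?_
    · intro z hz
      obtain ⟨z, rfl⟩ := Ideal.Quotient.mk_surjective z
      exact Ideal.mem_map_of_mem _ (Ideal.Quotient.eq_zero_iff_mem.1 hz)
    · rw [← Ideal.map_pow, Ideal.span_singleton_pow, Ideal.map_le_iff_le_comap, ← RingHom.ker_eq_comap_bot,
        Ideal.mk_ker, ← pow_mul]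
      exact Ideal.span_singleton_le_span_singleton.2 (pow_dvd_pow _ (by omega))
  let g' : A ⧸ V.J →ₐ[K] K[X] ⧸ I₂ := Ideal.Quotient.liftₐ V.J g hg
  let f := Algebra.FormallySmooth.liftOfSurjective g' p hp hnil
  obtain ⟨P, hP⟩ := Ideal.Quotient.mk_surjective (f (Ideal.Quotient.mk V.J V.x))
  have h1 : Ideal.Quotient.mk I₂ P = Ideal.Quotient.mk I₂ X := by
    have e := Algebra.FormallySmooth.liftOfSurjective_apply g' p hp hnil (Ideal.Quotient.mk V.J V.x)
    rw [← hP] at e
    exact e.trans hgx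
  obtain ⟨R, hR⟩ := Ideal.mem_span_singleton.1 (Ideal.Quotient.eq.1 h1)
  obtain rfl : P = X * (1 + X * R) := by linear_combination hR
  have h2 : Ideal.Quotient.mk I₁ (C c * (X * (1 + X * R)) ^ q) = 0 := by
    have e := congrArg f (Ideal.Quotient.eq_zero_iff_mem.2 h)
    rw [map_zero, Algebra.smul_def, map_mul, map_pow, map_mul, map_pow, ← hP] at e
    rw [map_mul, map_pow]
    refine Eq.trans ?_ e
    refine congrArg (· * _) ?_
    exact (f.commutes c).symm
  obtain ⟨S, hS⟩ := Ideal.mem_span_singleton.1 (Ideal.Quotient.eq_zero_iff_mem.1 h2)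
  have h3 : (C c * (1 + X * R) ^ q) * X ^ q = (X ^ 2 * S) * X ^ q := by
    rw [show (X : K[X]) ^ (q + 2) = X ^ q * X ^ 2 from pow_add _ _ _] at hS
    rw [mul_pow] at hS
    linear_combination hS
  have h4 := congrArg (Polynomial.eval 0) ((monic_X_pow q).isRegular.right h3)
  simpa using h4

theorem π_injective : Function.Injective V.π := by
  classical
  refine (injective_iff_map_eq_zero _).2 fun P hP => ?_
  have hmem : Polynomial.aeval V.x P ∈ V.J := by
    refine Ideal.Quotient.eq_zero_iff_mem.1 ?_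
    rw [← hP, π]
    exact (Polynomial.aeval_algHom_apply (Ideal.Quotient.mkₐ K V.J) V.x P).symm
  ext q
  rw [coeff_zero]
  refine V.smul_pow_notMem (q := q) ?_
  have h := V.pr_mem hmem (q * μ a)
  rw [Polynomial.aeval_eq_sum_range' (n := max (P.natDegree + 1) (q + 1)) (by omega), map_sum,
    Finset.sum_eq_single q] at h
  · rwa [map_smul, (V.hom_pow q).pr_eq, if_pos rfl] at h
  · intro d _ hd
    rw [map_smul, (V.hom_pow d).pr_eq, if_neg fun e => hd (by
      exact_mod_cast mul_right_cancel₀ V.pos.ne' e), smul_zero]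
  · intro hq
    exact absurd (Finset.mem_range.2 (by omega)) hq

/-- The root group is the affine line. -/
def equiv : K[X] ≃ₐ[K] A ⧸ V.J := AlgEquiv.ofBijective V.π ⟨V.π_injective, V.π_surjective⟩

/-- The comorphism of the root group. -/
def u : A →ₐ[K] K[X] := (V.equiv.symm : (A ⧸ V.J) →ₐ[K] K[X]).comp (Ideal.Quotient.mkₐ K V.J)

theorem u_surjective : Function.Surjective V.u :=
  V.equiv.symm.surjective.comp Ideal.Quotient.mk_surjective

theorem π_u (b : A) : V.π (V.u b) = Ideal.Quotient.mk V.J b := V.equiv.apply_symm_apply _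

theorem u_eq_zero_iff (b : A) : V.u b = 0 ↔ b ∈ V.J := by
  rw [← V.π_injective.eq_iff, V.π_u, map_zero, Ideal.Quotient.eq_zero_iff_mem]

theorem u_x : V.u V.x = X := V.π_injective (by rw [V.π_u, V.π_X])

theorem u_aeval (P : K[X]) : V.u (Polynomial.aeval V.x P) = P := by
  rw [← Polynomial.aeval_algHom_apply, V.u_x, Polynomial.aeval_X_left_apply]

/-- homogeneous elements give monomials -/
theorem u_coeff_eq_zero {p : ℤ} {b : A} (hb : Hom lam p b) {d : ℕ} (hd : (d : ℤ) * μ a ≠ p) :
    (V.u b).coeff d = 0 := by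
  classical
  set P := V.u b
  have hmem : b - Polynomial.aeval V.x P ∈ V.J :=
    (V.u_eq_zero_iff _).1 (by rw [map_sub, V.u_aeval, sub_self])
  have h := V.pr_mem hmem (d * μ a)
  rw [map_sub, hb.pr_eq, if_neg hd.symm, zero_sub, neg_mem_iff,
    Polynomial.aeval_eq_sum_range' (n := max (P.natDegree + 1) (d + 1)) (by omega), map_sum,
    Finset.sum_eq_single d] at h
  · rw [map_smul, (V.hom_pow d).pr_eq, if_pos rfl] at h
    exact V.smul_pow_notMem h
  · intro e _ he
    rw [map_smul, (V.hom_pow e).pr_eq, if_neg fun e' => he (by exact_mod_cast mul_right_cancel₀ V.pos.ne' e'),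
      smul_zero]
  · intro hq
    exact absurd (Finset.mem_range.2 (by omega)) hq

/-! ### points -/

variable {C : Type u} [CommRing C] [Algebra K C]

/-- The point of the root group with coordinate `s`. -/
def pt (s : C) : Pt (k := K) A C := toConv ((Polynomial.aeval s).comp V.u)

theorem pt_x (s : C) : (V.pt s).ofConv V.x = s := by
  show Polynomial.aeval s (V.u V.x) = s
  rw [V.u_x, Polynomial.aeval_X]

theorem pt_kills (s : C) : ∀ b ∈ V.J, (V.pt s).ofConv b = 0 := fun b hb => by
  show Polynomial.aeval s (V.u b) = 0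
  rw [(V.u_eq_zero_iff b).2 hb, map_zero]

theorem eq_pt {g : Pt (k := K) A C} (hg : ∀ b ∈ V.J, g.ofConv b = 0) : g = V.pt (g.ofConv V.x) := by
  refine WithConv.ext (AlgHom.ext fun b => ?_)
  show g.ofConv b = Polynomial.aeval _ (V.u b)
  have h := hg _ ((V.u_eq_zero_iff (b - Polynomial.aeval V.x (V.u b))).1 (by rw [map_sub, V.u_aeval, sub_self]))
  rw [map_sub, sub_eq_zero] at h
  rw [h, ← Polynomial.aeval_algHom_apply]

theorem pt_hom {p : ℤ} {b : A} (hb : Hom lam p b) (hp : ¬ ∃ d : ℕ, (d : ℤ) * μ a = p) (s : C) :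
    (V.pt s).ofConv b = 0 := by
  show Polynomial.aeval s (V.u b) = 0
  rw [show V.u b = 0 from Polynomial.ext fun d => by
    rw [V.u_coeff_eq_zero hb fun e => hp ⟨d, e⟩, coeff_zero], map_zero]

theorem pt_hom_zero {b : A} (hb : Hom lam 0 b) (s : C) :
    (V.pt s).ofConv b = algebraMap K C (Coalgebra.counit (R := K) b) :=
  ((Groth.L25.Dyn.kills_jU lam (V.pt s).ofConv).1 (V.pt_kills s)).2 b hb

theorem pt_add (s t : C) : V.pt (s + t) = V.pt s * V.pt t := by
  classical
  have hk : ∀ b ∈ V.J, (V.pt s * V.pt t).ofConv b = 0 :=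
    (Groth.L25.Dyn.represents_jU lam _ _).2 (Groth.L25.Dyn.LimIsOne.mul lam
      ((Groth.L25.Dyn.represents_jU lam _ _).1 (V.pt_kills s))
      ((Groth.L25.Dyn.represents_jU lam _ _).1 (V.pt_kills t)))
  rw [V.eq_pt hk]
  congr 1
  obtain ⟨ι, S, x, y, p, q, hΔ, hs⟩ := Groth.L25.Dyn.exists_repr lam V.hom_x
  have hcl : ∑ i ∈ S, Coalgebra.counit (R := K) (x i) • y i = V.x := by
    have h := congrArg (TensorProduct.lid K A) (Coalgebra.rTensor_counit_comul (R := K) V.x)
    rw [hΔ, map_sum, map_sum] at h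
    simpa using h
  have hcr : ∑ i ∈ S, Coalgebra.counit (R := K) (y i) • x i = V.x := by
    have h := congrArg (TensorProduct.rid K A) (Coalgebra.lTensor_counit_comul (R := K) V.x)
    rw [hΔ, map_sum, map_sum] at h
    simpa using h
  rw [Groth.L25.Dyn.mul_apply_sum _ _ S x y hΔ]
  have hterm : ∀ i ∈ S, (V.pt s).ofConv (x i) * (V.pt t).ofConv (y i) =
      (if q i = 0 then algebraMap K C (Coalgebra.counit (R := K) (y i)) * (V.pt s).ofConv (x i) else 0) +
      (if p i = 0 then algebraMap K C (Coalgebra.counit (R := K) (x i)) * (V.pt t).ofConv (y i) else 0) := by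
    intro i hi
    obtain ⟨hpq, hx, hy⟩ := hs i hi
    by_cases hq : q i = 0
    · rw [if_pos hq, if_neg (by have := V.pos; omega), add_zero, mul_comm, V.pt_hom_zero (hq ▸ hy)]
    by_cases hp : p i = 0
    · rw [if_neg hq, if_pos hp, zero_add, V.pt_hom_zero (hp ▸ hx)]
    rw [if_neg hq, if_neg hp, add_zero]
    by_cases hd : ∃ d : ℕ, (d : ℤ) * μ a = p i
    · obtain ⟨d, hd⟩ := hd
      have hpos := V.pos
      refine mul_eq_zero_of_right _ (V.pt_hom hy ?_ t)
      rintro ⟨e, he⟩
      rcases Nat.eq_zero_or_pos d with rfl | hd'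
      · exact hp (by simpa using hd.symm)
      rcases Nat.eq_zero_or_pos e with rfl | he'
      · exact hq (by simpa using he.symm)
      have hde : ((d + e : ℕ) : ℤ) * μ a = 1 * μ a := by
        push_cast
        rw [add_mul, hd, he, hpq, _root_.one_mul]
      have := mul_right_cancel₀ V.pos.ne' hde
      omega
    · exact mul_eq_zero_of_left (V.pt_hom hx hd s) _
  rw [Finset.sum_congr rfl hterm, Finset.sum_add_distrib]
  have e1 : ∀ i ∈ S, (if q i = 0 then algebraMap K C (Coalgebra.counit (R := K) (y i)) * (V.pt s).ofConv (x i)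
      else 0) = (V.pt s).ofConv (Coalgebra.counit (R := K) (y i) • x i) := fun i hi => by
    split_ifs with h
    · rw [map_smul, Algebra.smul_def]
    · rw [Groth.L25.Dyn.counit_eq_zero lam (hs i hi).2.2 h, zero_smul, map_zero]
  have e2 : ∀ i ∈ S, (if p i = 0 then algebraMap K C (Coalgebra.counit (R := K) (x i)) * (V.pt t).ofConv (y i)
      else 0) = (V.pt t).ofConv (Coalgebra.counit (R := K) (x i) • y i) := fun i hi => by
    split_ifs with h
    · rw [map_smul, Algebra.smul_def]
    · rw [Groth.L25.Dyn.counit_eq_zero lam (hs i hi).2.1 h, zero_smul, map_zero]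
  rw [Finset.sum_congr rfl e1, Finset.sum_congr rfl e2, ← map_sum, ← map_sum, hcl, hcr, V.pt_x, V.pt_x]

theorem pt_conj (χ : AddMonoidAlgebra K (Fin r → ℤ) →ₐ[K] C) (s : C) :
    torPt φ χ * V.pt s * (torPt φ χ)⁻¹ = V.pt (χ (AddMonoidAlgebra.single a 1) * s) := by
  classical
  have hk : ∀ b ∈ V.J, (torPt φ χ * V.pt s * (torPt φ χ)⁻¹).ofConv b = 0 := by
    refine (Groth.L25.Dyn.kills_jU lam _).2 ⟨fun n hn b hb => ?_, fun b hb => ?_⟩
    · rw [← show pr lam n b = b by rw [hb.pr_eq, if_pos rfl], pr_eq_sum, map_sum]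
      refine Finset.sum_eq_zero fun m hm => ?_
      have he : piece φ m (piece φ m b) = piece φ m b := by rw [piece_piece, if_pos rfl]
      rw [conj_apply φ χ _ he, V.pt_kills s _ (V.mem_of_neg hn ?_), mul_zero]
      exact (Finset.mem_filter.1 hm).2 ▸ hom_piece φ μ m b
    · rw [← show pr lam 0 b = b by rw [hb.pr_eq, if_pos rfl], pr_eq_sum, map_sum, map_sum, map_sum]
      refine Finset.sum_congr rfl fun m hm => ?_
      have he : piece φ m (piece φ m b) = piece φ m b := by rw [piece_piece, if_pos rfl]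
      rw [conj_apply φ χ _ he, V.pt_hom_zero ((Finset.mem_filter.1 hm).2 ▸ hom_piece φ μ m b)]
      by_cases hm0 : m = 0
      · subst hm0
        rw [show (AddMonoidAlgebra.single (0 : Fin r → ℤ) (1 : K)) = 1 from rfl, map_one, _root_.one_mul]
      · have this : Bialgebra.counitAlgHom K A (piece φ m b) = 0 := RingHom.mem_ker.1 (counit_piece φ hm0 b)
        rw [Bialgebra.counitAlgHom_apply] at this
        rw [this, map_zero, mul_zero]
  rw [V.eq_pt hk, conj_apply φ χ _ V.hx, V.pt_x]

end RootVec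

end Groth.L14.Splitting
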