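import Groth.Agent.L14.Splitting.RankOne
import Groth.Agent.L06.CoxeterElt.Weyl
import Mathlib.Algebra.DualNumber

/-!
# The reflections permute the roots
-/

set_option autoImplicit false
set_option linter.unusedSectionVars false
set_option linter.style.haveILetI false
set_option linter.deprecated false
set_option backward.isDefEq.respectTransparency.types false
set_option maxHeartbeats 1000000

universe u

open CategoryTheory CategoryTheory.Limits MonoidalCategory CartesianMonoidalCategory MonObj AlgebraicGeometry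
open WithConv TensorProduct
open Groth.L25.Bridge (P)
open Groth.L25.Dyn (Pt pmap)

noncomputable section

namespace Groth.L14.Splitting

variable {K : Type u} [CommRing K] {A : Type u} [CommRing A] [HopfAlgebra K A] {r : ℕ}

local notation "SK" => Spec (CommRingCat.of K)

/-- a point of the base with values in an algebra -/
def rPt (g : A →ₐ[K] K) (C : Type u) [CommRing C] [Algebra K C] : Pt (k := K) A C :=
  toConv ((Algebra.ofId K C).comp g)

theorem pmap_rPt {C D : Type u} [CommRing C] [Algebra K C] [CommRing D] [Algebra K D] (f : C →ₐ[K] D)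
    (g : A →ₐ[K] K) : pmap f (rPt g C) = rPt g D :=
  WithConv.ext (AlgHom.ext fun b => f.commutes (g b))

/-- a section is given by an algebra map -/
theorem exists_val_section (n : 𝟙_ (Over SK) ⟶ P K A) :
    ∃ g : A →ₐ[K] K, ∀ X : Over SK, val (toUnit X ≫ n) = rPt g Γ(X.left, ⊤) := by
  let Y : Over SK := (Spec (CommRingCat.of K)).asOver (Spec (CommRingCat.of K))
  let e := AlgEquiv.ofBijective (iotaSpec (K := K) K) (iotaSpec_bijective K)
  refine ⟨(e.symm : _ →ₐ[K] K).comp (val (toUnit Y ≫ n)).ofConv, fun X => ?_⟩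
  let q : X ⟶ Y := Over.homMk X.hom (by
    show X.hom ≫ Spec.map (CommRingCat.ofHom (algebraMap K K)) = X.hom
    rw [Algebra.algebraMap_self, CommRingCat.ofHom_id, Spec.map_id, Category.comp_id])
  rw [toUnit_unique (toUnit X) (q ≫ toUnit Y), Category.assoc, val_comp]
  refine WithConv.ext (AlgHom.ext fun b => ?_)
  show pull q ((val (toUnit Y ≫ n)).ofConv b) = algebraMap K _ (e.symm ((val (toUnit Y ≫ n)).ofConv b))
  generalize (val (toUnit Y ≫ n)).ofConv b = z
  obtain ⟨c, rfl⟩ : ∃ c, e c = z := ⟨e.symm z, e.apply_symm_apply z⟩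
  rw [e.symm_apply_apply]
  exact AlgHom.commutes ((pull q).comp (iotaSpec K)) c

/-- the equation of a point inducing an endomorphism of characters, on algebras over a given one -/
def ActsPt (φ : A →ₐc[K] AddMonoidAlgebra K (Fin r → ℤ)) (g : A →ₐ[K] K) (θ : (Fin r → ℤ) →+ (Fin r → ℤ))
    (F : Type u) [CommRing F] [Algebra K F] : Prop :=
  ∀ (C : Type u) [CommRing C] [Algebra K C] (_ : F →ₐ[K] C) (χ : AddMonoidAlgebra K (Fin r → ℤ) →ₐ[K] C),
    rPt g C * torPt φ χ * (rPt g C)⁻¹ =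
      torPt φ (χ.comp (AddMonoidAlgebra.mapDomainBialgHom K θ :
        AddMonoidAlgebra K (Fin r → ℤ) →ₐ[K] AddMonoidAlgebra K (Fin r → ℤ)))

variable {φ : A →ₐc[K] AddMonoidAlgebra K (Fin r → ℤ)}

/-- the point equation from the scheme theoretic one over an open set -/
theorem actsPt_of_conj {g : A →ₐ[K] K} {n : 𝟙_ (Over SK) ⟶ P K A}
    (hg : ∀ X : Over SK, val (toUnit X ≫ n) = rPt g Γ(X.left, ⊤)) {θ : (Fin r → ℤ) →+ (Fin r → ℤ)}
    {U : Set SK} (h : ∀ (X : Over SK), (∀ y, X.hom y ∈ U) → ∀ t : X ⟶ Red.DS SK (Fin r → ℤ),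
      (toUnit X ≫ n) * (t ≫ torHom φ) * (toUnit X ≫ n)⁻¹ = t ≫ Red.DSmap SK θ ≫ torHom φ)
    (F : Type u) [CommRing F] [Algebra K F]
    (hF : ∀ y, Spec.map (CommRingCat.ofHom (algebraMap K F)) y ∈ U) : ActsPt φ g θ F := by
  intro C _ _ f χ
  let X : Over SK := (Spec (CommRingCat.of C)).asOver (Spec (CommRingCat.of K))
  have hX : ∀ y, X.hom y ∈ U := fun y => by
    have e : Spec.map (CommRingCat.ofHom f.toRingHom) ≫ Spec.map (CommRingCat.ofHom (algebraMap K F)) = X.hom := by
      rw [← Spec.map_comp]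
      exact congrArg Spec.map (CommRingCat.hom_ext f.comp_algebraMap)
    rw [← e]
    exact hF _
  let t : X ⟶ Red.DS SK (Fin r → ℤ) :=
    Groth.L25.DSPts.pt ((((iotaSpec C).comp χ : AddMonoidAlgebra K (Fin r → ℤ) →ₐ[K] _) :
      AddMonoidAlgebra K (Fin r → ℤ) →* _).comp (AddMonoidAlgebra.of K _))
  have hc : ∀ m, Groth.L25.DSPts.char t (Multiplicative.ofAdd m) = iotaSpec C (χ (AddMonoidAlgebra.single m 1)) :=
    fun m => by rw [Groth.L25.DSPts.char_pt]; rfl
  have ht : charAlg t = (iotaSpec C).comp χ := by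
    refine AddMonoidAlgebra.algHom_ext (fun m => ?_) (Subsingleton.elim _ _)
    rw [charAlg_single, one_smul, hc]
    rfl
  have htθ : charAlg (t ≫ Red.DSmap SK θ) = (iotaSpec C).comp (χ.comp (AddMonoidAlgebra.mapDomainBialgHom K θ :
      AddMonoidAlgebra K (Fin r → ℤ) →ₐ[K] AddMonoidAlgebra K (Fin r → ℤ))) := by
    refine AddMonoidAlgebra.algHom_ext (fun m => ?_) (Subsingleton.elim _ _)
    rw [charAlg_single, one_smul, Groth.L25.SplitSub.char_DSmap]
    show Groth.L25.DSPts.char t (Multiplicative.ofAdd (θ m)) =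
      iotaSpec C (χ (AddMonoidAlgebra.mapDomainBialgHom K θ (AddMonoidAlgebra.single m 1)))
    rw [hc, AddMonoidAlgebra.mapDomainBialgHom_single]
  have hv : ∀ z : X ⟶ P K A, val z⁻¹ = (val z)⁻¹ := fun z =>
    map_inv (MonoidHom.mk' (val : (X ⟶ P K A) → _) val_mul) z
  have e := congrArg val (h X hX t)
  rw [← Category.assoc t, comp_torHom, comp_torHom, val_mul, val_mul, hv, val_ofFn, val_ofFn, hg, ht, htθ,
    ← pmap_rPt (iotaSpec C) g] at e
  have hinj : Function.Injective (pmap (k := K) (A := A) (iotaSpec (K := K) C)) := fun a b hab =>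
    WithConv.ext (AlgHom.ext fun c => (iotaSpec_bijective C).1 (DFunLike.congr_fun (congrArg WithConv.ofConv hab) c))
  refine hinj ?_
  rw [map_mul, map_mul, map_inv]
  exact e

theorem ActsPt.comp {g g' : A →ₐ[K] K} {θ θ' : (Fin r → ℤ) →+ (Fin r → ℤ)} {F : Type u} [CommRing F] [Algebra K F]
    (h : ActsPt φ g θ F) (h' : ActsPt φ g' θ' F) : ActsPt φ ((toConv g' * toConv g).ofConv) (θ.comp θ') F := by
  intro C _ _ f χ
  have e : rPt ((toConv g' * toConv g).ofConv) C = rPt g' C * rPt g C := by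
    show pmap (Algebra.ofId K C) (toConv g' * toConv g) = _
    rw [map_mul]
    rfl
  rw [e, mul_inv_rev, show rPt g' C * rPt g C * torPt φ χ * ((rPt g C)⁻¹ * (rPt g' C)⁻¹) =
    rPt g' C * (rPt g C * torPt φ χ * (rPt g C)⁻¹) * (rPt g' C)⁻¹ by group, h C f χ, h' C f]
  congr 1
  refine AddMonoidAlgebra.algHom_ext (fun m => ?_) (Subsingleton.elim _ _)
  show χ (AddMonoidAlgebra.mapDomainBialgHom K θ (AddMonoidAlgebra.mapDomainBialgHom K θ'
    (AddMonoidAlgebra.single m 1))) = χ (AddMonoidAlgebra.mapDomainBialgHom K (θ.comp θ') (AddMonoidAlgebra.single m 1))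
  rw [AddMonoidAlgebra.mapDomainBialgHom_single, AddMonoidAlgebra.mapDomainBialgHom_single,
    AddMonoidAlgebra.mapDomainBialgHom_single]
  rfl

variable [Algebra.FormallySmooth K A] [Algebra.FinitePresentation K A]

/-- conjugation carries a weight to the transformed weight -/
theorem mult_transform {g : A →ₐ[K] K} {θ : (Fin r → ℤ) →+ (Fin r → ℤ)} {p : PrimeSpectrum K}
    (hact : ActsPt φ g θ p.asIdeal.ResidueField) (hinv : ∀ m, θ (θ m) = m) {b : Fin r → ℤ} (hb : mult φ b p ≠ 0) :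
    mult φ (θ b) p ≠ 0 := by
  classical
  let F := p.asIdeal.ResidueField
  haveI : Module.Finite F (OmegaW φ (θ b) →ₗ[K] F) := Module.Finite.equiv (LinearMap.liftBaseChangeEquiv F).symm
  haveI : Module.Finite F (TanW φ (θ b) F) := Module.Finite.equiv (tanEquiv φ (θ b))
  haveI : Module.Finite F (OmegaW φ b →ₗ[K] F) := Module.Finite.equiv (LinearMap.liftBaseChangeEquiv F).symm
  haveI : Module.Finite F (TanW φ b F) := Module.Finite.equiv (tanEquiv φ b)
  rw [mult_eq_finrank, ne_eq, Submodule.finrank_eq_zero] at hb ⊢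
  obtain ⟨w, hw, hw0⟩ := (TanW φ b F).exists_mem_ne_zero_of_ne_bot hb
  intro hbot
  refine hw0 (LinearMap.ext fun z => ?_)
  have hw1 : w 1 = 0 := by simpa using hw.1 1 1
  let Pl : A →ₗ[K] DualNumber F :=
    Algebra.linearMap K (DualNumber F) ∘ₗ (Bialgebra.counitAlgHom K A).toLinearMap +
      (TrivSqZeroExt.inrHom F F).restrictScalars K ∘ₗ w
  have hPf : ∀ c, TrivSqZeroExt.fst (Pl c) = algebraMap K F (Bialgebra.counitAlgHom K A c) := fun c => by
    simp [Pl, TrivSqZeroExt.algebraMap_eq_inl']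
  have hPs : ∀ c, TrivSqZeroExt.snd (Pl c) = w c := fun c => by simp [Pl, TrivSqZeroExt.algebraMap_eq_inl']
  let P₀ : Pt (k := K) A (DualNumber F) := toConv (AlgHom.ofLinearMap Pl
    (TrivSqZeroExt.ext (by rw [hPf, map_one, map_one]; rfl) (by rw [hPs, hw1]; rfl))
    (fun u v => TrivSqZeroExt.ext (by rw [hPf, TrivSqZeroExt.fst_mul, hPf, hPf, map_mul, map_mul])
      (by rw [hPs, TrivSqZeroExt.snd_mul, hPf, hPf, hPs, hPs, hw.1 u v, op_smul_eq_smul, smul_eq_mul, smul_eq_mul])))
  let gD : Pt (k := K) A (DualNumber F) := rPt g (DualNumber F)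
  let P₁ : Pt (k := K) A (DualNumber F) := gD * P₀ * gD⁻¹
  let fstA : DualNumber F →ₐ[K] F := (TrivSqZeroExt.fstHom F F F).restrictScalars K
  have hP₀ : pmap fstA P₀ = 1 := by
    refine WithConv.ext (AlgHom.ext fun c => ?_)
    exact hPf c
  have hP₁f : ∀ c, TrivSqZeroExt.fst (P₁.ofConv c) = algebraMap K F (Bialgebra.counitAlgHom K A c) := fun c => by
    have h : pmap fstA P₁ = 1 := by
      rw [map_mul, map_mul, map_inv, hP₀, _root_.mul_one, mul_inv_cancel]
    exact DFunLike.congr_fun (congrArg WithConv.ofConv h) c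
  let w' : A →ₗ[K] F := (TrivSqZeroExt.sndHom F F).restrictScalars K ∘ₗ P₁.ofConv.toLinearMap
  have hw' : IsTan w' := fun u v => by
    show TrivSqZeroExt.snd (P₁.ofConv (u * v)) = _ * TrivSqZeroExt.snd (P₁.ofConv v) +
      _ * TrivSqZeroExt.snd (P₁.ofConv u)
    rw [map_mul, TrivSqZeroExt.snd_mul, hP₁f, hP₁f, op_smul_eq_smul, smul_eq_mul, smul_eq_mul]
  -- the universal point of the torus
  let M := Fin r → ℤ
  let C := AddMonoidAlgebra (DualNumber F) M
  let cst : DualNumber F →ₐ[K] C := IsScalarTower.toAlgHom K (DualNumber F) C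
  let χ : AddMonoidAlgebra K M →ₐ[K] C := AddMonoidAlgebra.mapAlgHom M (Algebra.ofId K (DualNumber F))
  have hχ : ∀ m, χ (AddMonoidAlgebra.single m 1) = AddMonoidAlgebra.single m 1 := fun m => by
    show AddMonoidAlgebra.mapAlgHom M (Algebra.ofId K (DualNumber F)) (AddMonoidAlgebra.single m 1) = _
    rw [AddMonoidAlgebra.mapAlgHom_single, map_one]
  -- scaling of the infinitesimal parameter by a monomial
  let f0 : F →ₐ[K] C := cst.comp ((TrivSqZeroExt.inlAlgHom F F F).restrictScalars K)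
  let eps : C := AddMonoidAlgebra.single (θ b) (TrivSqZeroExt.inr 1)
  have heps : eps * eps = 0 := by
    show AddMonoidAlgebra.single (θ b) (TrivSqZeroExt.inr (1 : F)) *
      AddMonoidAlgebra.single (θ b) (TrivSqZeroExt.inr (1 : F)) = (0 : C)
    rw [AddMonoidAlgebra.single_mul_single, TrivSqZeroExt.inr_mul_inr, AddMonoidAlgebra.single_zero]
  let sc : DualNumber F →ₐ[K] C :=
    { toFun := fun d => f0 d.fst + f0 d.snd * eps
      map_one' := by simp
      map_mul' := fun x y => by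
        simp only [TrivSqZeroExt.fst_mul, TrivSqZeroExt.snd_mul, op_smul_eq_smul, smul_eq_mul, map_add, map_mul]
        linear_combination -(f0 x.snd * f0 y.snd) * heps
      map_zero' := by simp
      map_add' := fun x y => by
        simp only [TrivSqZeroExt.fst_add, TrivSqZeroExt.snd_add, map_add]
        ring
      commutes' := fun c => by
        simp [TrivSqZeroExt.algebraMap_eq_inl'] }
  have hsc : ∀ d, sc d = AddMonoidAlgebra.single 0 (TrivSqZeroExt.inl d.fst) +
      AddMonoidAlgebra.single (θ b) (TrivSqZeroExt.inr d.snd) := fun d => by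
    show AddMonoidAlgebra.single 0 (TrivSqZeroExt.inl d.fst) +
      AddMonoidAlgebra.single 0 (TrivSqZeroExt.inl d.snd) * AddMonoidAlgebra.single (θ b) (TrivSqZeroExt.inr (1 : F)) = _
    rw [AddMonoidAlgebra.single_mul_single, zero_add, TrivSqZeroExt.inl_mul_inr, smul_eq_mul, _root_.mul_one]
  let fC : F →ₐ[K] C := cst.comp ((TrivSqZeroExt.inlAlgHom F F F).restrictScalars K)
  let χ' : AddMonoidAlgebra K M →ₐ[K] C :=
    χ.comp (AddMonoidAlgebra.mapDomainBialgHom K θ : AddMonoidAlgebra K M →ₐ[K] AddMonoidAlgebra K M)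
  have hχ' : ∀ m, χ' (AddMonoidAlgebra.single m 1) = AddMonoidAlgebra.single (θ m) 1 := fun m => by
    show χ (AddMonoidAlgebra.mapDomainBialgHom K θ (AddMonoidAlgebra.single m 1)) = _
    rw [AddMonoidAlgebra.mapDomainBialgHom_single, hχ]
  -- conjugating the point by the torus rescales it
  have hscale : torPt φ χ' * pmap cst P₀ * (torPt φ χ')⁻¹ = pmap (k := K) (A := A) (C := DualNumber F) (D := C) sc P₀ := by
    refine WithConv.ext (AlgHom.toLinearMap_injective (LinearMap.ext fun c => ?_))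
    show (torPt φ χ' * pmap cst P₀ * (torPt φ χ')⁻¹).ofConv c = sc (Pl c)
    rw [← sum_piece φ c, map_sum, map_sum, map_sum]
    refine Finset.sum_congr rfl fun m _ => ?_
    rw [conj_apply (C := C) φ χ' _ (m := m) (by rw [piece_piece, if_pos rfl]), hχ', hsc, hPf, hPs]
    show AddMonoidAlgebra.single (θ m) 1 * AddMonoidAlgebra.single 0 (Pl (piece φ m c)) = _
    rw [AddMonoidAlgebra.single_mul_single, add_zero, _root_.one_mul]
    have hd : Pl (piece φ m c) = TrivSqZeroExt.inl (algebraMap K F (Bialgebra.counitAlgHom K A (piece φ m c))) +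
        TrivSqZeroExt.inr (w (piece φ m c)) := TrivSqZeroExt.ext (by simp [hPf]) (by simp [hPs])
    rw [hd, AddMonoidAlgebra.single_add]
    congr 1
    · by_cases hm : m = 0
      · rw [hm, map_zero]
      · rw [RingHom.mem_ker.1 (counit_piece φ hm c), map_zero]
        simp
    · by_cases hm : m = b
      · rw [hm]
      · rw [hw.2 m c hm]
        simp
  -- the conjugate point is rescaled by the transformed weight
  have hscale1 : torPt φ χ * pmap cst P₁ * (torPt φ χ)⁻¹ = pmap (k := K) (A := A) (C := DualNumber F) (D := C) sc P₁ := by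
    have h1 : rPt g C * torPt φ χ' * (rPt g C)⁻¹ = torPt φ χ := by
      rw [hact C fC χ']
      congr 1
      refine AddMonoidAlgebra.algHom_ext (fun m => ?_) (Subsingleton.elim _ _)
      show χ' (AddMonoidAlgebra.mapDomainBialgHom K θ (AddMonoidAlgebra.single m 1)) = _
      rw [AddMonoidAlgebra.mapDomainBialgHom_single, hχ', hinv, hχ]
    have e1 : pmap cst gD = rPt g C := pmap_rPt _ _
    have e2 : pmap (k := K) (A := A) (C := DualNumber F) (D := C) sc gD = rPt g C := pmap_rPt _ _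
    simp only [P₁, map_mul, map_inv, e1, e2]
    rw [← hscale, ← h1]
    group
  have hmem : w' ∈ TanW φ (θ b) F := by
    refine ⟨hw', fun m c hm => ?_⟩
    have h := DFunLike.congr_fun (congrArg WithConv.ofConv hscale1) (piece φ m c)
    rw [conj_apply (C := C) φ χ _ (m := m) (by rw [piece_piece, if_pos rfl]), hχ] at h
    change AddMonoidAlgebra.single m 1 * AddMonoidAlgebra.single 0 (P₁.ofConv (piece φ m c)) =
      sc (P₁.ofConv (piece φ m c)) at h
    rw [AddMonoidAlgebra.single_mul_single, add_zero, _root_.one_mul, hsc] at h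
    have h' := congrArg (fun z : AddMonoidAlgebra (DualNumber F) M => TrivSqZeroExt.snd (z.coeff (θ b))) h
    rw [AddMonoidAlgebra.coeff_single_apply, if_neg hm, AddMonoidAlgebra.coeff_add, Finsupp.add_apply,
      AddMonoidAlgebra.coeff_single_apply, AddMonoidAlgebra.coeff_single_apply, if_pos rfl] at h'
    show TrivSqZeroExt.snd (P₁.ofConv (piece φ m c)) = 0
    split_ifs at h' <;> simpa using h'.symm
  rw [hbot, Submodule.mem_bot] at hmem
  have hP₁ : P₁ = 1 := by
    refine WithConv.ext (AlgHom.ext fun c => TrivSqZeroExt.ext ?_ ?_)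
    · rw [hP₁f]; rfl
    · exact (LinearMap.congr_fun hmem c).trans rfl
  have hP₀1 : P₀ = 1 := by
    have h : gD * P₀ * gD⁻¹ = gD * 1 * gD⁻¹ := by rw [_root_.mul_one, mul_inv_cancel]; exact hP₁
    exact mul_left_cancel (mul_right_cancel h)
  have h := congrArg TrivSqZeroExt.snd (DFunLike.congr_fun (congrArg WithConv.ofConv hP₀1) z)
  exact (hPs z).symm.trans h

/-- the point equation gives an element of the normalizer after extension to a field -/
theorem acts_of_actsPt {F Ω : Type u} [Field Ω] [Algebra K Ω] [CommRing F] [Algebra K F] [IsAlgClosed Ω]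
    (g : A →ₐ[K] K) (θ : (Fin r → ℤ) →+ (Fin r → ℤ)) (fO : F →ₐ[K] Ω) (hg : ActsPt φ g θ F) :
    θ ∈ Groth.L06.CoxeterElt.weyl (spB (phiBC φ Ω)) := by
  let U := 𝟙_ (Over (Spec (CommRingCat.of Ω)))
  let X := P Ω (AddMonoidAlgebra Ω (Fin r → ℤ))
  let gΩ : (Ω ⊗[K] A) →ₐ[Ω] Ω :=
    Algebra.TensorProduct.lift (AlgHom.id Ω Ω) ((Algebra.ofId K Ω).comp g) (fun _ _ => Commute.all _ _)
  let n : U ⟶ P Ω (Ω ⊗[K] A) := ofFn (toConv ((Algebra.ofId Ω Γ(U.left, ⊤)).comp gΩ))
  refine ⟨n, ?_⟩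
  have hn : val (toUnit X ≫ n) = toConv ((Algebra.ofId Ω Γ(X.left, ⊤)).comp gΩ) := by
    rw [show n = ofFn _ from rfl, comp_ofFn, val_ofFn]
    exact WithConv.ext (AlgHom.ext fun x => AlgHom.commutes (pull (toUnit X)) (gΩ x))
  letI : Algebra K Γ(X.left, ⊤) := Algebra.compHom _ (algebraMap K Ω)
  haveI : IsScalarTower K Ω Γ(X.left, ⊤) := IsScalarTower.of_algebraMap_eq fun _ => rfl
  let e : AddMonoidAlgebra Ω (Fin r → ℤ) →ₐ[Ω] Γ(X.left, ⊤) := (val (𝟙 X)).ofConv
  let m0 : AddMonoidAlgebra K (Fin r → ℤ) →ₐ[K] AddMonoidAlgebra Ω (Fin r → ℤ) :=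
    AddMonoidAlgebra.mapAlgHom (Fin r → ℤ) (Algebra.ofId K Ω)
  let χ : AddMonoidAlgebra K (Fin r → ℤ) →ₐ[K] Γ(X.left, ⊤) := (e.restrictScalars K).comp m0
  have hm0 : ∀ b, phiBC φ Ω ((1 : Ω) ⊗ₜ b) = m0 (φ b) := fun b => by
    rw [phiBC_tmul]
    generalize φ b = z
    induction z using AddMonoidAlgebra.induction_linear with
    | zero => simp
    | add u v hu hv => simp only [tmul_add, map_add, hu, hv]
    | single i c =>
      rw [dBase_tmul, _root_.one_mul]
      exact (AddMonoidAlgebra.mapAlgHom_single (Algebra.ofId K Ω) i c).symm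
  have e1 : Groth.L25.Dyn.resPt (k := K) (val (toUnit X ≫ n)) = rPt g Γ(X.left, ⊤) := by
    rw [hn]
    refine WithConv.ext (AlgHom.ext fun b => ?_)
    show algebraMap Ω Γ(X.left, ⊤) (gΩ ((1 : Ω) ⊗ₜ b)) = algebraMap K Γ(X.left, ⊤) (g b)
    rw [Algebra.TensorProduct.lift_tmul, map_one, _root_.one_mul]
    rfl
  have e2 : Groth.L25.Dyn.resPt (k := K) (toConv (e.comp (phiBC φ Ω : _ →ₐ[Ω] _))) = torPt φ χ := by
    refine WithConv.ext (AlgHom.ext fun b => ?_)
    show e (phiBC φ Ω ((1 : Ω) ⊗ₜ b)) = e (m0 (φ b))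
    rw [hm0]
  have e3 : Groth.L25.Dyn.resPt (k := K) (toConv ((e.comp (AddMonoidAlgebra.mapDomainBialgHom Ω θ :
      AddMonoidAlgebra Ω (Fin r → ℤ) →ₐ[Ω] AddMonoidAlgebra Ω (Fin r → ℤ))).comp (phiBC φ Ω : _ →ₐ[Ω] _))) =
      torPt φ (χ.comp (AddMonoidAlgebra.mapDomainBialgHom K θ :
        AddMonoidAlgebra K (Fin r → ℤ) →ₐ[K] AddMonoidAlgebra K (Fin r → ℤ))) := by
    refine WithConv.ext (AlgHom.ext fun b => ?_)
    show e (AddMonoidAlgebra.mapDomainBialgHom Ω θ (phiBC φ Ω ((1 : Ω) ⊗ₜ b))) =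
      e (m0 (AddMonoidAlgebra.mapDomainBialgHom K θ (φ b)))
    rw [hm0]
    congr 1
    generalize φ b = z
    induction z using AddMonoidAlgebra.induction_linear with
    | zero => simp
    | add u v hu hv => simp only [map_add, hu, hv]
    | single i c => simp [m0, AddMonoidAlgebra.mapDomainBialgHom_single, AddMonoidAlgebra.mapAlgHom_single]
  have hinvv : ∀ z : X ⟶ P Ω (Ω ⊗[K] A), val z⁻¹ = (val z)⁻¹ := fun z =>
    map_inv (MonoidHom.mk' (val : (X ⟶ P Ω (Ω ⊗[K] A)) → _) val_mul) z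
  have hact := hg Γ(X.left, ⊤) ((IsScalarTower.toAlgHom K Ω Γ(X.left, ⊤)).comp fO) χ
  rw [← e1, ← e3, ← e2, ← map_inv, ← map_mul, ← map_mul] at hact
  have hact' := Groth.L25.Dyn.resPt_injective hact
  show AGF.conjBy n (spB (phiBC φ Ω)) = spB (AddMonoidAlgebra.mapDomainBialgHom Ω θ) ≫ spB (phiBC φ Ω)
  refine val_injective ?_
  have hv1 : val (spB (phiBC φ Ω)) = toConv (e.comp (phiBC φ Ω : _ →ₐ[Ω] _)) := by
    rw [← Category.id_comp (spB (phiBC φ Ω)), val_mapMulEquiv]
  have hv2 : val (spB (AddMonoidAlgebra.mapDomainBialgHom Ω θ) : X ⟶ X) = toConv (e.comp (AddMonoidAlgebra.mapDomainBialgHom Ω θ :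
      AddMonoidAlgebra Ω (Fin r → ℤ) →ₐ[Ω] AddMonoidAlgebra Ω (Fin r → ℤ))) := by
    rw [← Category.id_comp (spB (AddMonoidAlgebra.mapDomainBialgHom Ω θ)), val_mapMulEquiv]
  rw [val_mul, val_mul, hinvv, hv1, val_mapMulEquiv, hv2]
  exact hact'

/-- two reflections in the same root realised by the group are equal -/
theorem eq_of_reflections (hG : Red.IsReductive (P K A)) (hT : Red.IsMaximalTorus (torHom φ)) {g g' : A →ₐ[K] K}
    {p : PrimeSpectrum K} {c : Fin r → ℤ} (hc : c ≠ 0) {l l' : (Fin r → ℤ) →+ ℤ}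
    (hl : l c = 2) (hl' : l' c = 2)
    (h : ActsPt φ g (AddMonoidHom.id _ - (AddMonoidHom.mk' (fun m => l m • c) fun x y => by
      rw [map_add, add_smul])) p.asIdeal.ResidueField)
    (h' : ActsPt φ g' (AddMonoidHom.id _ - (AddMonoidHom.mk' (fun m => l' m • c) fun x y => by
      rw [map_add, add_smul])) p.asIdeal.ResidueField) : l = l' := by
  classical
  let Ω := AlgebraicClosure p.asIdeal.ResidueField
  obtain ⟨h1, h2⟩ := phiBC_data Ω φ hG (isMaximalTorus_spB hT)
  haveI := h1.1; haveI := h1.2.1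
  haveI : IsAffine (P Ω (Ω ⊗[K] A)).left := inferInstanceAs (IsAffine (Spec _))
  have hrO : Red.IsReductiveOver Ω (P Ω (Ω ⊗[K] A)) :=
    Groth.L25.RedField.isReductiveOver_of_isReductive h1
  have hfin := Groth.L06.RootLines.weyl_finite' hrO
    (Groth.L24.TorusField.isMaxTorus_of_isMaximalTorus_field (i := spB (phiBC φ Ω)) h2)
  let refl : ((Fin r → ℤ) →+ ℤ) → ((Fin r → ℤ) →+ (Fin r → ℤ)) := fun l =>
    AddMonoidHom.id _ - (AddMonoidHom.mk' (fun m => l m • c) fun x y => by rw [map_add, add_smul])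
  let fO : p.asIdeal.ResidueField →ₐ[K] Ω := IsScalarTower.toAlgHom K p.asIdeal.ResidueField Ω
  have hmem : ∀ (g : A →ₐ[K] K) (θ : (Fin r → ℤ) →+ (Fin r → ℤ)), ActsPt φ g θ p.asIdeal.ResidueField →
      θ ∈ Groth.L06.CoxeterElt.weyl (spB (phiBC φ Ω)) := fun g θ hg =>
    acts_of_actsPt g θ fO hg
  -- the composite is a transvection
  let τ : ℕ → ((Fin r → ℤ) →+ (Fin r → ℤ)) := fun k =>
    AddMonoidHom.id _ + AddMonoidHom.mk' (fun m => ((k : ℤ) * (l m - l' m)) • c) fun x y => by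
      simp only [map_add, ← add_smul]; congr 1; ring
  have hτ : ∀ k, τ k ∈ Groth.L06.CoxeterElt.weyl (spB (phiBC φ Ω)) := by
    intro k
    induction k with
    | zero =>
      convert Groth.L06.CoxeterElt.id_mem_weyl (iT := spB (phiBC φ Ω)) using 1
      refine AddMonoidHom.ext fun m => ?_
      simp [τ]
    | succ k ih =>
      convert Groth.L06.CoxeterElt.comp_mem_weyl ih
        (Groth.L06.CoxeterElt.comp_mem_weyl (hmem g' _ h') (hmem g _ h)) using 1
      refine AddMonoidHom.ext fun m => ?_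
      simp only [τ, AddMonoidHom.add_apply, AddMonoidHom.id_apply, AddMonoidHom.comp_apply, AddMonoidHom.sub_apply,
        AddMonoidHom.mk'_apply, map_sub, map_zsmul, hl, hl', smul_eq_mul]
      push_cast
      module
  by_contra hne
  obtain ⟨m, hm⟩ : ∃ m, l m ≠ l' m := by
    by_contra h0
    push Not at h0
    exact hne (AddMonoidHom.ext h0)
  refine Set.infinite_range_of_injective (f := τ) (fun j k hjk => ?_) (hfin.subset (Set.range_subset_iff.2 hτ))
  have h3 := DFunLike.congr_fun hjk m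
  simp only [τ, AddMonoidHom.add_apply, AddMonoidHom.id_apply, AddMonoidHom.mk'_apply, add_right_inj] at h3
  have h4 := smul_left_injective ℤ hc h3
  have h5 := mul_right_cancel₀ (sub_ne_zero.2 hm) h4
  exact_mod_cast h5

end Groth.L14.Splitting
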