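import Groth.Agent.L14.Iso.FibreSplit
import Groth.Agent.L14.Luna.SemiRank.SplitField
import Groth.Agent.L14.RankOne.NonComm
import Groth.Agent.L08.Borel.CommTorus
import Groth.Agent.L08.Borel.IsoBase
import Groth.Agent.L08.Borel.MaxToriConj
import Groth.Agent.L14.Chev.Cell.Reflect
import Groth.Agent.S8091
import Groth.Agent.S2963

/-!
The splitting of a geometric fibre, with its root homomorphisms.
-/

set_option autoImplicit false
universe u

open CategoryTheory CategoryTheory.Limits MonoidalCategory CartesianMonoidalCategory MonObj GrpObj AlgebraicGeometry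
open Groth.L25 Groth.L14.Luna.SemiRank Groth.L14.Iso

set_option backward.isDefEq.respectTransparency.types false
set_option linter.style.haveILetI false
set_option linter.unusedSectionVars false
set_option maxHeartbeats 1000000

noncomputable section

namespace Groth.L14.Splitting

attribute [local instance] Red.SplitRed.grpT Red.SplitRed.acgM Red.SplitRed.finiteM Red.SplitRed.freeM
  Red.SplitRed.fintypeIdx

variable {S : Scheme.{u}} {G : Over S} [GrpObj G] (D : Red.SplitRed G) (s : S)

local notation "gs" => Red.geomPt s
local notation "SΩ" => Spec (CommRingCat.of (AlgebraicClosure (S.residueField s)))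

theorem map_hcomm [IsIso (eΩ D s)] (f : D.M →ₗ[ℤ] D.M) :
      (Over.pullback gs).map (D.split.hom.hom.hom ≫ Red.DSmap S f.toAddMonoidHom ≫ D.split.inv.hom.hom) =
        eΩ D s ≫ Red.DSmap SΩ f.toAddMonoidHom ≫ inv (eΩ D s) := by

    rw [← Category.assoc, ← Category.assoc, IsIso.eq_comp_inv]
    simp only [eΩ, Functor.map_comp, Category.assoc]
    rw [← Groth.L08.Borel.bc_DSmap, ← Category.assoc ((Over.pullback gs).map D.split.inv.hom.hom),
      ← Functor.map_comp, show D.split.inv.hom.hom ≫ D.split.hom.hom.hom = 𝟙 _ from
        congrArg (fun f => f.hom.hom) D.split.inv_hom_id, CategoryTheory.Functor.map_id, Category.id_comp]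

/-- The splitting of a geometric fibre. -/
def splitFibre : Red.SplitRed (Red.geomFibre s G) :=
    { T := TΩ D s
      i := iΩ D s
      M := D.M
      idx := D.idx
      P := D.P
      pairing_eq := D.pairing_eq
      u := uΩ D s
      reductive := isReductive_fibre D s
      maximalTorus := Groth.L08.Borel.isMaximalTorus_of_isMaxTorus (isMaxTorus_iΩ D s)
      split := @Grp.mkIso' _ _ _ _ _ (@asIso _ _ _ _ (eΩ D s) (isIso_eΩ D s)) _ _ (isMonHom_eΩ D s)
      rootHom := fun c => isRootHom_uΩ D s c
      refl := fun a => by
        haveI := isIso_eΩ D s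
        haveI := isMonHom_eΩ D s
        obtain ⟨n, hn⟩ := D.refl a
        refine ⟨NilAction.ofBase gs (toUnit _ ≫ n), fun X t => ?_⟩
        refine toBase_inj gs ?_
        have hinv : ∀ z : X ⟶ Red.geomFibre s G, NilAction.toBase gs z⁻¹ = (NilAction.toBase gs z)⁻¹ := fun z =>
          map_inv (MonoidHom.mk' (NilAction.toBase gs : (X ⟶ Red.geomFibre s G) → _) (NilAction.toBase_mul gs)) z
        have hn' : NilAction.toBase gs (toUnit X ≫ NilAction.ofBase gs (toUnit _ ≫ n)) = toUnit _ ≫ n := by
          rw [Groth.L08.Borel.toBase_comp, NilAction.toBase_ofBase]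
          exact (Category.assoc _ _ _).symm.trans (congrArg (· ≫ n) (toUnit_unique _ _))
        simp only [NilAction.toBase_mul, hinv, hn']
        rw [show iΩ D s = (Over.pullback gs).map D.i from rfl, Groth.L14.RankOne.toBase_comp_map, hn,
          show (Grp.mkIso' (asIso (eΩ D s))).hom.hom.hom = eΩ D s from rfl,
          show (Grp.mkIso' (asIso (eΩ D s))).inv.hom.hom = inv (eΩ D s) from rfl]
        have e : t ≫ eΩ D s ≫ Red.DSmap SΩ (D.P.reflection a).toLinearMap.toAddMonoidHom ≫ inv (eΩ D s) ≫
            (Over.pullback gs).map D.i = t ≫ (Over.pullback gs).map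
              (D.split.hom.hom.hom ≫ Red.DSmap S (D.P.reflection a).toLinearMap.toAddMonoidHom ≫
                D.split.inv.hom.hom ≫ D.i) := by
          haveI := isIso_eΩ D s
          have h := map_hcomm D s (D.P.reflection a).toLinearMap
          rw [← Category.assoc D.split.hom.hom.hom, ← Category.assoc _ D.split.inv.hom.hom, Functor.map_comp,
            Category.assoc D.split.hom.hom.hom, h]
          simp only [Category.assoc]
        rw [e, Groth.L14.RankOne.toBase_comp_map]
      dim_fibre := fun t => by rw [dim_geomFibre_self, D.dim_fibre s] }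

end Groth.L14.Splitting
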