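import Groth.Agent.L25.Dyn.Deform
import Groth.Agent.L25.Dyn.TorusCentralizer
import Groth.Agent.L25.Dyn.CentConn

/-!
# The weight grading of the coordinate ring of a group with a split torus, over any base ring

The conjugation action of a split torus grades the coordinate ring by the character lattice; the grading is natural
for homomorphisms and commutes with base change.
-/

set_option autoImplicit false
set_option linter.unusedSectionVars false
set_option linter.deprecated false
set_option linter.style.haveILetI false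
set_option backward.isDefEq.respectTransparency.types false
set_option maxHeartbeats 1000000

universe u

open TensorProduct WithConv AddMonoidAlgebra Groth.L25.Dyn

noncomputable section

namespace Groth.L14.Splitting

section Torus

variable {K : Type u} [CommRing K] {A : Type u} [CommRing A] [HopfAlgebra K A]
  {M : Type} [AddCommGroup M] (φ : A →ₐc[K] AddMonoidAlgebra K M)

/-- the torus with values in `C[M]` -/
def torP (C : Type u) [CommRing C] [Algebra K C] : Pt (k := K) A (AddMonoidAlgebra C M) :=
  toConv ((mapAlgHom M (Algebra.ofId K C)).comp (φ : A →ₐ[K] AddMonoidAlgebra K M))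

/-- constants of `C[M]` -/
abbrev cstM (C : Type u) [CommRing C] [Algebra K C] : C →ₐ[K] AddMonoidAlgebra C M :=
  IsScalarTower.toAlgHom K C (AddMonoidAlgebra C M)

variable {C D : Type u} [CommRing C] [Algebra K C] [CommRing D] [Algebra K D]

theorem cstM_apply (c : C) : cstM (K := K) (M := M) C c = single 0 c := rfl

theorem mapAlgHom_torP (g : C →ₐ[K] D) : pmap (mapAlgHom M g) (torP φ C) = torP φ D := by
  refine WithConv.ext ?_
  show (mapAlgHom M g).comp ((mapAlgHom M (Algebra.ofId K C)).comp (φ : A →ₐ[K] AddMonoidAlgebra K M)) = _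
  rw [← AlgHom.comp_assoc, ← AddMonoidAlgebra.mapRangeAlgHom_comp]
  exact congrArg (fun u => (mapAlgHom M u).comp (φ : A →ₐ[K] AddMonoidAlgebra K M)) (Subsingleton.elim _ _)

/-- the conjugate of the universal point by the torus -/
def torO : A →ₐ[K] AddMonoidAlgebra A M :=
  (torP φ A * pmap (cstM (M := M) A) (toConv (AlgHom.id K A)) * (torP φ A)⁻¹).ofConv

theorem mapAlgHom_torO (g : A →ₐ[K] C) :
    pmap (mapAlgHom M g) (toConv (torO φ)) =
      torP φ C * pmap (cstM (M := M) C) (toConv g) * (torP φ C)⁻¹ := by
  rw [torO, toConv_ofConv, map_mul, map_mul, map_inv, mapAlgHom_torP]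
  congr 2
  refine WithConv.ext (AlgHom.ext fun a => ?_)
  show mapAlgHom M g (single 0 a) = single 0 (g a)
  rw [mapAlgHom_single]

/-- a cocharacter of the torus -/
def lamW (w : M →+ ℤ) : A →ₐc[K] LaurentPolynomial K := (AddMonoidAlgebra.mapDomainBialgHom K w).comp φ

theorem mapDomain_torP (w : M →+ ℤ) :
    pmap (AddMonoidAlgebra.mapDomainAlgHom K C w) (torP φ C) = lamP (lamW φ w) C := by
  refine WithConv.ext (AlgHom.ext fun a => ?_)
  show AddMonoidAlgebra.mapDomainAlgHom K C w (mapAlgHom M (Algebra.ofId K C) (φ a)) =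
    mapAlgHom ℤ (Algebra.ofId K C) (AddMonoidAlgebra.mapDomainBialgHom K w (φ a))
  generalize φ a = x
  induction x using AddMonoidAlgebra.induction_linear with
  | zero => simp
  | add p q hp hq => simp only [map_add, hp, hq]
  | single m c =>
    rw [mapAlgHom_single, AddMonoidAlgebra.mapDomainBialgHom_single, mapAlgHom_single]
    exact AddMonoidAlgebra.mapDomain_single

theorem mapDomain_torO (w : M →+ ℤ) (a : A) :
    AddMonoidAlgebra.mapDomainAlgHom K A w (torO φ a) = cO (lamW φ w) a := by
  have h : pmap (AddMonoidAlgebra.mapDomainAlgHom K A w) (toConv (torO φ)) = toConv (cO (lamW φ w)) := by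
    rw [torO, toConv_ofConv, map_mul, map_mul, map_inv, mapDomain_torP, cO, conjOrbit_eq]
    congr 2
    refine WithConv.ext (AlgHom.ext fun b => ?_)
    show AddMonoidAlgebra.mapDomainAlgHom K A w (single 0 b) = single 0 b
    refine AddMonoidAlgebra.mapDomain_single.trans ?_
    rw [map_zero]
  exact DFunLike.congr_fun (congrArg WithConv.ofConv h) a

/-- the point commutes with all points of the torus -/
def TorCommutes (g : A →ₐ[K] C) : Prop :=
  ∀ (D : Type u) [CommRing D] [Algebra K D] (ψ : C →ₐ[K] D) (χ : AddMonoidAlgebra K M →ₐ[K] D),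
    Commute (toConv (χ.comp (φ : A →ₐ[K] AddMonoidAlgebra K M)) : Pt (k := K) A D) (pmap ψ (toConv g))

theorem TorCommutes.of_universal {g : A →ₐ[K] C}
    (h : Commute (torP φ C) (pmap (cstM (M := M) C) (toConv g))) : TorCommutes φ g := by
  intro D _ _ ψ χ
  let ev : AddMonoidAlgebra C M →ₐ[K] D :=
    AddMonoidAlgebra.liftNCAlgHom ψ ((χ : AddMonoidAlgebra K M →* D).comp (AddMonoidAlgebra.of K M))
      (fun _ _ => Commute.all _ _)
  have hev : ∀ (m : M) (c : C), ev (single m c) = ψ c * χ (single m 1) := fun m c => by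
    show AddMonoidAlgebra.liftNC _ _ (single m c) = _
    rw [AddMonoidAlgebra.liftNC_single]
    rfl
  have h1 : pmap ev (torP φ C) = toConv (χ.comp (φ : A →ₐ[K] AddMonoidAlgebra K M)) := by
    refine WithConv.ext (AlgHom.ext fun a => ?_)
    show ev (mapAlgHom M (Algebra.ofId K C) (φ a)) = χ (φ a)
    generalize φ a = x
    induction x using AddMonoidAlgebra.induction_linear with
    | zero => simp
    | add p q hp hq => simp only [map_add, hp, hq]
    | single m c =>
      rw [mapAlgHom_single, hev]
      show ψ (algebraMap K C c) * χ (single m 1) = χ (single m c)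
      rw [AlgHom.commutes, ← Algebra.smul_def, ← map_smul, smul_single, smul_eq_mul, _root_.mul_one]
  have h2 : pmap ev (pmap (cstM (M := M) C) (toConv g)) = pmap ψ (toConv g) := by
    refine WithConv.ext (AlgHom.ext fun a => ?_)
    show ev (single 0 (g a)) = ψ (g a)
    rw [hev, show (single 0 1 : AddMonoidAlgebra K M) = 1 from rfl, map_one, _root_.mul_one]
  have := h.map (pmap ev)
  rwa [h1, h2] at this

theorem TorCommutes.conjOrbit {g : A →ₐ[K] C} (h : TorCommutes φ g) (w : M →+ ℤ) :
    Dyn.conjOrbit K A (lamW φ w) C g = (IsScalarTower.toAlgHom K C (LaurentPolynomial C)).comp g := by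
  have h1 := h (LaurentPolynomial C) (cst C)
    ((mapAlgHom ℤ (Algebra.ofId K C)).comp (AddMonoidAlgebra.mapDomainBialgHom K w : _ →ₐ[K] LaurentPolynomial K))
  have h2 : Commute (lamP (lamW φ w) C) (pmap (cst C) (toConv g)) := h1
  have h3 := conjOrbit_eq (lamW φ w) g
  rw [h2.eq, mul_inv_cancel_right] at h3
  exact congrArg WithConv.ofConv h3

end Torus

section Grading

variable {K : Type u} [CommRing K] {A : Type u} [CommRing A] [HopfAlgebra K A] {r : ℕ}
  (φ : A →ₐc[K] AddMonoidAlgebra K (Fin r → ℤ))

/-- the component of a given weight -/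
def piece (m : Fin r → ℤ) (a : A) : A := (torO φ a).coeff m

/-- the augmentation ideal -/
abbrev aug (K A : Type u) [CommRing K] [CommRing A] [HopfAlgebra K A] : Ideal A :=
  RingHom.ker (Bialgebra.counitAlgHom K A)

theorem exists_injOn (F : Finset (Fin r → ℤ)) :
    ∃ w : (Fin r → ℤ) →+ ℤ, Set.InjOn w (F : Set (Fin r → ℤ)) := by
  classical
  obtain ⟨w, hw⟩ := exists_generic ((F ×ˢ F).image fun p => p.1 - p.2)
  refine ⟨w, fun a ha b hb hab => by_contra fun hne => ?_⟩
  exact hw (a - b) (Finset.mem_image.2 ⟨(a, b), Finset.mem_product.2 ⟨ha, hb⟩, rfl⟩) (sub_ne_zero.2 hne)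
    (by rw [map_sub, hab, sub_self])

theorem pr_eq_piece {w : (Fin r → ℤ) →+ ℤ} {F : Finset (Fin r → ℤ)} (hw : Set.InjOn w (F : Set (Fin r → ℤ)))
    {a : A} (ha : (torO φ a).coeff.support ⊆ F) {m : Fin r → ℤ} (hm : m ∈ F) :
    pr (lamW φ w) (w m) a = piece φ m a := by
  show (cO (lamW φ w) a).coeff (w m) = _
  rw [← mapDomain_torO]
  exact Finsupp.mapDomain_apply' (F : Set (Fin r → ℤ)) _ (fun x hx => ha hx) hw hm

/-- components are homogeneous -/
theorem torO_piece (m : Fin r → ℤ) (a : A) : torO φ (piece φ m a) = single m (piece φ m a) := by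
  classical
  let p := piece φ m a
  let F : Finset (Fin r → ℤ) := insert m ((torO φ a).coeff.support ∪ (torO φ p).coeff.support)
  obtain ⟨w, hw⟩ := exists_injOn F
  have hp : pr (lamW φ w) (w m) a = p := pr_eq_piece φ hw
    (fun x hx => Finset.mem_insert_of_mem (Finset.mem_union_left _ hx)) (Finset.mem_insert_self _ _)
  have hhom : Hom (lamW φ w) (w m) p := hp ▸ hom_pr (lamW φ w) (w m) a
  ext x
  rw [coeff_single_apply]
  by_cases hx : x ∈ F
  · have h1 : pr (lamW φ w) (w x) p = piece φ x p := pr_eq_piece φ hw
      (fun y hy => Finset.mem_insert_of_mem (Finset.mem_union_right _ hy)) hx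
    rw [hhom.pr_eq] at h1
    show piece φ x p = _
    rw [← h1]
    by_cases he : m = x
    · rw [if_pos he, if_pos (congrArg w he)]
    · rw [if_neg he, if_neg fun e => he (hw (Finset.mem_insert_self _ _) hx e)]
  · rw [if_neg (fun e : m = x => hx (e ▸ Finset.mem_insert_self _ _))]
    exact Finsupp.notMem_support_iff.1 fun h => hx (Finset.mem_insert_of_mem (Finset.mem_union_right _ h))

theorem sum_piece (a : A) : ∑ m ∈ (torO φ a).coeff.support, piece φ m a = a := by
  classical
  obtain ⟨w, hw⟩ := exists_injOn (torO φ a).coeff.support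
  have h : (cO (lamW φ w) a).coeff.support = (torO φ a).coeff.support.image w := by
    rw [← mapDomain_torO]
    exact Finsupp.mapDomain_support_of_injOn _ hw
  conv_rhs => rw [← sum_pr (lamW φ w) a, h, Finset.sum_image hw]
  exact Finset.sum_congr rfl fun m hm => (pr_eq_piece φ hw (Finset.Subset.refl _) hm).symm

theorem counit_piece {m : Fin r → ℤ} (hm : m ≠ 0) (a : A) : piece φ m a ∈ aug K A := by
  classical
  let p := piece φ m a
  obtain ⟨w, hw⟩ := exists_injOn (insert m {(0 : Fin r → ℤ)})
  refine RingHom.mem_ker.2 (counit_eq_zero (lamW φ w) (n := w m) (a := piece φ m a) ?_ fun e => hm ?_)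
  · show cO (lamW φ w) p = _
    rw [← mapDomain_torO, torO_piece]
    exact AddMonoidAlgebra.mapDomain_single
  · exact hw (by simp) (by simp) (by rw [e, map_zero])

/-- components of elements of the augmentation ideal lie in it -/
theorem piece_mem_aug {a : A} (ha : a ∈ aug K A) (m : Fin r → ℤ) : piece φ m a ∈ aug K A := by
  classical
  by_cases hm : m = 0
  · subst hm
    by_cases h0 : (0 : Fin r → ℤ) ∈ (torO φ a).coeff.support
    · have h := sum_piece φ a
      rw [← Finset.add_sum_erase _ _ h0] at h
      rw [eq_sub_of_add_eq h]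
      exact Ideal.sub_mem _ ha (Ideal.sum_mem _ fun x hx => counit_piece φ (Finset.mem_erase.1 hx).1 a)
    · rw [piece, Finsupp.notMem_support_iff.1 h0]
      exact Ideal.zero_mem _
  · exact counit_piece φ hm a

theorem piece_mul (a b : A) (m : Fin r → ℤ) :
    piece φ m (a * b) = ∑ i ∈ (torO φ a).coeff.support, piece φ i a * piece φ (m - i) b := by
  classical
  show (torO φ (a * b)).coeff m = _
  conv_lhs => rw [map_mul]
  have h1 : torO φ a = ∑ i ∈ (torO φ a).coeff.support, single i (piece φ i a) := by
    ext x
    simp only [coeff_sum, Finset.sum_apply', coeff_single_apply, Finset.sum_ite_eq']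
    by_cases hx : x ∈ (torO φ a).coeff.support
    · rw [if_pos hx]; rfl
    · rw [if_neg hx]; exact Finsupp.notMem_support_iff.1 hx
  conv_lhs => rw [h1, Finset.sum_mul]
  simp only [coeff_sum, Finset.sum_apply']
  refine Finset.sum_congr rfl fun i _ => ?_
  rw [coeff_single_mul_apply]
  congr 1
  rw [neg_add_eq_sub]
  rfl

theorem piece_add (a b : A) (m : Fin r → ℤ) : piece φ m (a + b) = piece φ m a + piece φ m b := by
  simp [piece]

theorem piece_of_hom {n : Fin r → ℤ} {h : A} (hh : torO φ h = single n h) (b : A) (m : Fin r → ℤ) :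
    piece φ m (b * h) = piece φ (m - n) b * h := by
  show (torO φ (b * h)).coeff m = _
  rw [map_mul, hh, coeff_mul_single_apply, sub_eq_add_neg]
  rfl

/-- composing with a homomorphism of characters maps components -/
theorem torO_mapDomain {r' : ℕ} (p : (Fin r → ℤ) →+ (Fin r' → ℤ)) (b : A) :
    torO ((AddMonoidAlgebra.mapDomainBialgHom K p).comp φ) b = AddMonoidAlgebra.mapDomainAlgHom K A p (torO φ b) := by
  have ht : pmap (AddMonoidAlgebra.mapDomainAlgHom K A p) (torP φ A) =
      torP ((AddMonoidAlgebra.mapDomainBialgHom K p).comp φ) A := by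
    refine WithConv.ext (AlgHom.ext fun b => ?_)
    show AddMonoidAlgebra.mapDomainAlgHom K A p (mapAlgHom _ (Algebra.ofId K A) (φ b)) =
      mapAlgHom _ (Algebra.ofId K A) (AddMonoidAlgebra.mapDomainBialgHom K p (φ b))
    generalize φ b = z
    induction z using AddMonoidAlgebra.induction_linear with
    | zero => simp
    | add u v hu hv => simp only [map_add, hu, hv]
    | single i c => simp [AddMonoidAlgebra.mapDomain_single]
  have hmd : pmap (AddMonoidAlgebra.mapDomainAlgHom K A p) (toConv (torO φ)) =
      toConv (torO ((AddMonoidAlgebra.mapDomainBialgHom K p).comp φ)) := by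
    rw [torO, torO, toConv_ofConv, toConv_ofConv, map_mul, map_mul, map_inv, ht]
    congr 2
    refine WithConv.ext (AlgHom.ext fun b => ?_)
    show AddMonoidAlgebra.mapDomainAlgHom K A p (single 0 b) = single 0 b
    rw [AddMonoidAlgebra.mapDomainAlgHom_apply, AddMonoidAlgebra.mapDomain_single, map_zero]
  exact (DFunLike.congr_fun (congrArg WithConv.ofConv hmd) b).symm

/-- A point killing all components of weights outside the kernel commutes with the subtorus of the kernel. -/
theorem torCommutes_of_pieces {r' : ℕ} (p : (Fin r → ℤ) →+ (Fin r' → ℤ)) {D : Type u} [CommRing D] [Algebra K D]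
    (q : A →ₐ[K] D) (hq : ∀ i b, p i ≠ 0 → q (piece φ i b) = 0) :
    TorCommutes ((AddMonoidAlgebra.mapDomainBialgHom K p).comp φ) q := by
  classical
  refine TorCommutes.of_universal _ ?_
  have key : (mapAlgHom (Fin r' → ℤ) q).comp (torO ((AddMonoidAlgebra.mapDomainBialgHom K p).comp φ)) =
      (cstM D).comp q := by
    have hmd : pmap (AddMonoidAlgebra.mapDomainAlgHom K A p) (toConv (torO φ)) =
        toConv (torO ((AddMonoidAlgebra.mapDomainBialgHom K p).comp φ)) := by
      have ht : pmap (AddMonoidAlgebra.mapDomainAlgHom K A p) (torP φ A) =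
          torP ((AddMonoidAlgebra.mapDomainBialgHom K p).comp φ) A := by
        refine WithConv.ext (AlgHom.ext fun b => ?_)
        show AddMonoidAlgebra.mapDomainAlgHom K A p (mapAlgHom _ (Algebra.ofId K A) (φ b)) =
          mapAlgHom _ (Algebra.ofId K A) (AddMonoidAlgebra.mapDomainBialgHom K p (φ b))
        generalize φ b = z
        induction z using AddMonoidAlgebra.induction_linear with
        | zero => simp
        | add u v hu hv => simp only [map_add, hu, hv]
        | single i c => simp [AddMonoidAlgebra.mapDomain_single]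
      rw [torO, torO, toConv_ofConv, toConv_ofConv, map_mul, map_mul, map_inv, ht]
      congr 2
      refine WithConv.ext (AlgHom.ext fun b => ?_)
      show AddMonoidAlgebra.mapDomainAlgHom K A p (single 0 b) = single 0 b
      rw [AddMonoidAlgebra.mapDomainAlgHom_apply, AddMonoidAlgebra.mapDomain_single, map_zero]
    refine AlgHom.ext fun b => ?_
    have hb : torO ((AddMonoidAlgebra.mapDomainBialgHom K p).comp φ) b =
        AddMonoidAlgebra.mapDomainAlgHom K A p (torO φ b) := (DFunLike.congr_fun (congrArg WithConv.ofConv hmd) b).symm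
    have hsum : torO φ b = ∑ i ∈ (torO φ b).coeff.support, single i (piece φ i b) :=
      (sum_single (torO φ b)).symm
    show mapAlgHom _ q (torO ((AddMonoidAlgebra.mapDomainBialgHom K p).comp φ) b) = single 0 (q b)
    rw [hb, hsum, map_sum, map_sum]
    conv_rhs => rw [← sum_piece φ b, map_sum, ← singleAddHom_apply (M := Fin r' → ℤ), map_sum]
    refine Finset.sum_congr rfl fun i _ => ?_
    rw [singleAddHom_apply, AddMonoidAlgebra.mapDomainAlgHom_apply, AddMonoidAlgebra.mapDomain_single,
      mapAlgHom_single]
    by_cases hi : p i = 0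
    · rw [hi]
    · rw [hq i b hi, single_zero, single_zero]
  have h3 : pmap (mapAlgHom (Fin r' → ℤ) q) (toConv (torO ((AddMonoidAlgebra.mapDomainBialgHom K p).comp φ))) =
      pmap (cstM D) (toConv q) := WithConv.ext key
  rw [mapAlgHom_torO] at h3
  exact mul_inv_eq_iff_eq_mul.1 h3

end Grading

end Groth.L14.Splitting
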